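import Cfsg.Agent.S0713

/-!
Transitive groups of degree less than `2 p` containing a `p`-cycle.
-/

set_option autoImplicit false
set_option linter.unusedSectionVars false
set_option linter.style.haveILetI false

namespace CfsgLib.Perm.SylowFix

open MulAction Equiv Equiv.Perm Pointwise

variable {α : Type*} [Fintype α] [DecidableEq α] {p : ℕ} [hp : Fact p.Prime]
  {X : Subgroup (Perm α)} {x : Perm α}

theorem orderOf_cycle (hc : x.IsCycle) (hs : x.support.card = p) : orderOf x = p := by
  rw [hc.orderOf, hs]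

/-- The points `x ^ i • c` of a `p`-cycle are distinct. -/
theorem pow_smul_injOn (hc : x.IsCycle) (hs : x.support.card = p) {c : α} (hcs : x c ≠ c) {i j : ℕ}
    (hi : i < p) (hj : j < p) (h : (x ^ i) c = (x ^ j) c) : i = j := by
  have hxi : x ^ i = x ^ j := hc.pow_eq_pow_iff.2 ⟨c, hcs, h⟩
  rw [pow_eq_pow_iff_modEq, orderOf_cycle hc hs] at hxi
  exact Nat.ModEq.eq_of_lt_of_lt hxi hi hj

theorem isPreprimitive_of_cycle [IsPretransitive X α] (hx : x ∈ X) (hc : x.IsCycle)
    (hs : x.support.card = p) (hm : Fintype.card α < 2 * p) : IsPreprimitive X α := by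
  refine ⟨fun {B} hB => ?_⟩
  rcases Set.subsingleton_or_nontrivial B with hB1 | hB1
  · exact Or.inl hB1
  refine Or.inr ?_
  by_contra hBu
  obtain ⟨a, ha⟩ := hB1.nonempty
  have hd := hB.ncard_dvd_card ⟨a, ha⟩
  have hd2 : 2 ≤ B.ncard := Set.one_lt_ncard_iff_nontrivial.2 hB1
  have hdn : B.ncard < Nat.card α := by
    rw [← Set.ncard_univ]
    exact Set.ncard_lt_ncard (Set.ssubset_univ_iff.2 hBu)
  obtain ⟨e, he⟩ := hd
  have he2 : 2 ≤ e := by
    rcases e with _ | _ | e
    · omega
    · omega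
    · omega
  have hdm : 2 * B.ncard ≤ Nat.card α := by rw [he, mul_comm 2]; exact Nat.mul_le_mul_left _ he2
  rw [Nat.card_eq_fintype_card] at hdm hdn
  obtain ⟨c, hcs⟩ : ∃ c, x c ≠ c := by
    by_contra h
    push Not at h
    exact hc.ne_one (Equiv.ext h)
  obtain ⟨g, hg⟩ := exists_smul_eq X a c
  set B' : Set α := g • B with hB'
  have hB'b : IsBlock X B' := hB.translate g
  have hcB : c ∈ B' := ⟨a, ha, hg⟩
  have hcard : B'.ncard = B.ncard := Set.ncard_smul_set g B
  let x' : X := ⟨x, hx⟩
  by_cases hx' : x' • B' = B'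
  · have hall : ∀ i : ℕ, (x ^ i) c ∈ B' := by
      intro i
      induction i with
      | zero => simpa using hcB
      | succ i ih =>
        rw [pow_succ', Perm.mul_apply, ← hx']
        exact ⟨_, ih, rfl⟩
    have hsub : Set.range (fun i : Fin p => (x ^ (i : ℕ)) c) ⊆ B' := by
      rintro _ ⟨i, rfl⟩
      exact hall i
    have h1 := Set.ncard_le_ncard hsub
    rw [Set.ncard_range_of_injective (fun i j h => Fin.ext
      (pow_smul_injOn hc hs hcs i.2 j.2 h)), Nat.card_eq_fintype_card, Fintype.card_fin, hcard] at h1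
    omega
  · have hinj : Function.Injective (fun q : Fin p × B' => (x ^ (q.1 : ℕ)) (q.2 : α)) := by
      rintro ⟨i, b⟩ ⟨j, b'⟩ h
      simp only at h
      rcases eq_or_ne i j with rfl | hij
      · exact Prod.ext rfl (Subtype.ext ((x ^ (i : ℕ)).injective h))
      exfalso
      have hmem1 : (x ^ (i : ℕ)) (b : α) ∈ (x' ^ (i : ℕ)) • B' :=
        ⟨b, b.2, by simp [x', Subgroup.smul_def]⟩
      have hmem2 : (x ^ (i : ℕ)) (b : α) ∈ (x' ^ (j : ℕ)) • B' :=
        ⟨b', b'.2, by simp [x', Subgroup.smul_def, h]⟩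
      have heq : (x' ^ (i : ℕ)) • B' = (x' ^ (j : ℕ)) • B' :=
        (hB'b.smul_eq_smul_or_disjoint _ _).resolve_right
          fun hd => Set.disjoint_left.1 hd hmem1 hmem2
      have hst : (x' ^ ((i : ℕ) : ℤ))⁻¹ * x' ^ ((j : ℕ) : ℤ) ∈ stabilizer X B' := by
        rw [mem_stabilizer_iff, mul_smul, zpow_natCast, zpow_natCast, ← heq, inv_smul_smul]
      rw [← zpow_neg, ← zpow_add] at hst
      have hord : orderOf x' = p := by
        rw [← Subgroup.orderOf_coe]; exact orderOf_cycle hc hs
      set d : ℤ := -((i : ℕ) : ℤ) + ((j : ℕ) : ℤ) with hd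
      have hdp : ¬ (p : ℤ) ∣ d := fun hdd => hij (Fin.ext (by
        have hi := i.2
        have hj := j.2
        obtain ⟨t, ht⟩ := hdd
        rw [hd] at ht
        have h1 : (p : ℤ) * t < p * 1 := by omega
        have h2 : (p : ℤ) * (-1) < p * t := by omega
        have := lt_of_mul_lt_mul_left h1 (by omega)
        have := lt_of_mul_lt_mul_left h2 (by omega)
        have : t = 0 := by omega
        subst this
        omega))
      have hcop : Int.gcd d p = 1 := by
        rw [Int.gcd_comm]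
        exact (Nat.Prime.coprime_iff_not_dvd hp.out).2 fun h => hdp (Int.natCast_dvd.2 h)
      have hb : x' ∈ stabilizer X B' := by
        have h1 := Int.gcd_eq_gcd_ab d p
        rw [hcop] at h1
        have : x' = (x' ^ d) ^ (Int.gcdA d p) := by
          rw [← zpow_mul]
          conv_lhs => rw [← zpow_one x']
          rw [show ((1 : ℕ) : ℤ) = 1 from rfl] at h1
          rw [h1, zpow_add, zpow_mul x' (p : ℤ), zpow_natCast, ← hord, pow_orderOf_eq_one,
            one_zpow, mul_one]
        rw [this]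
        exact zpow_mem hst _
      exact hx' hb
    have h1 := Nat.card_le_card_of_injective _ hinj
    rw [Nat.card_prod, Nat.card_fin, Nat.card_coe_set_eq, hcard, Nat.card_eq_fintype_card] at h1
    have : p * 2 ≤ p * B.ncard := Nat.mul_le_mul_left p hd2
    omega

/-- A subgroup of `A₇` of order divisible by `420` is `A₇`. -/
theorem eq_alternating_of_card (h7 : Fintype.card α = 7) (hA : X ≤ alternatingGroup α)
    (hd : 420 ∣ Nat.card X) : X = alternatingGroup α := by
  haveI : Nontrivial α := Fintype.one_lt_card_iff_nontrivial.1 (by omega)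
  haveI := alternatingGroup.isSimpleGroup (α := α) (by rw [Nat.card_eq_fintype_card, h7]; norm_num)
  set A := alternatingGroup α
  set Y := X.subgroupOf A
  have hA7 : Nat.card A = 2520 := by
    have h := two_mul_nat_card_alternatingGroup (α := α)
    rw [Nat.card_perm, Nat.card_eq_fintype_card (α := α), h7] at h
    rw [show Nat.factorial 7 = 5040 by rfl] at h
    show Nat.card (alternatingGroup α) = 2520
    omega
  have hY : Nat.card Y = Nat.card X := Nat.card_congr (Subgroup.subgroupOfEquivOfLe hA).toEquiv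
  have hidx : Y.index ≤ 6 := by
    have h := Y.card_mul_index
    rw [hA7, hY] at h
    obtain ⟨c, hc⟩ := hd
    rw [hc, mul_assoc] at h
    have h2 : c * Y.index = 6 := by omega
    exact Nat.le_of_dvd (by norm_num) ⟨c, by rw [← h2, mul_comm]⟩
  have htop : Y = ⊤ := by
    by_contra hne
    have hcore : Y.normalCore = ⊥ := (Y.normalCore_normal.eq_bot_or_eq_top).resolve_right
      fun h => hne (top_le_iff.1 (h.symm.le.trans Y.normalCore_le))
    rw [Subgroup.normalCore_eq_ker] at hcore
    have h := Nat.card_le_card_of_injective _ ((MonoidHom.ker_eq_bot_iff _).1 hcore)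
    rw [hA7, Nat.card_perm, show Nat.card (A ⧸ Y) = Y.index from rfl] at h
    have := Nat.factorial_le hidx
    norm_num [Nat.factorial] at this
    omega
  exact le_antisymm hA (Subgroup.subgroupOf_eq_top.1 htop)

theorem two_trans_of_cycle [IsPretransitive X α] (hx : x ∈ X) (hc : x.IsCycle)
    (hs : x.support.card = p) (hm : Fintype.card α < 2 * p) (hm2 : p + 2 = Fintype.card α) :
    IsMultiplyPretransitive X α 2 := by
  refine (isPreprimitive_of_cycle hx hc hs hm).is_two_pretransitive
    (s := ((x.supportᶜ : Finset α) : Set α)) (n := 1) ?_ ?_ ?_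
  · rw [Set.ncard_coe_finset, Finset.card_compl, hs]; omega
  · rw [Nat.card_eq_fintype_card]; have := hp.out.two_le; omega
  · refine ⟨fun u v => ?_⟩
    have hu : x (u : α) ≠ u := by
      have h := u.2
      rw [SubMulAction.mem_ofFixingSubgroup_iff, Finset.mem_coe, Finset.mem_compl, not_not,
        mem_support] at h
      exact h
    have hv : x (v : α) ≠ v := by
      have h := v.2
      rw [SubMulAction.mem_ofFixingSubgroup_iff, Finset.mem_coe, Finset.mem_compl, not_not,
        mem_support] at h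
      exact h
    obtain ⟨i, hi⟩ := hc.exists_pow_eq hu hv
    refine ⟨⟨⟨x ^ i, pow_mem hx i⟩, (mem_fixingSubgroup_iff _).2 fun y hy => ?_⟩, Subtype.ext hi⟩
    rw [Finset.mem_coe, Finset.mem_compl, notMem_support] at hy
    show (x ^ i) y = y
    exact Perm.pow_apply_eq_self_of_apply_eq_self hy i

theorem four_dvd_of_five_cycle [IsPretransitive X α] (h7 : Fintype.card α = 7)
    (hA : X ≤ alternatingGroup α) (hx : x ∈ X) (hc : x.IsCycle) (hs : x.support.card = 5) :
    4 ∣ Nat.card X := by
  haveI : Fact (Nat.Prime 5) := ⟨Nat.prime_five⟩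
  haveI : Fact (Nat.Prime 2) := ⟨Nat.prime_two⟩
  have h2 := two_trans_of_cycle (p := 5) hx hc hs (by omega) (by omega)
  have hcard : (x.supportᶜ).card = 2 := by rw [Finset.card_compl, hs, h7]
  obtain ⟨a, b, hab, hfix⟩ := Finset.card_eq_two.1 hcard
  have hfx : ∀ u, x u = u ↔ u = a ∨ u = b := fun u => by
    rw [← notMem_support, ← Finset.mem_compl, hfix]
    simp
  obtain ⟨g, hga, hgb⟩ := is_two_pretransitive_iff.1 h2 hab hab.symm
  -- both `x` and its conjugate lie in the pointwise stabiliser of the two fixed points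
  let S : Subgroup X := stabilizer X a ⊓ stabilizer X b
  have hxS : (⟨x, hx⟩ : X) ∈ S := ⟨(hfx a).2 (Or.inl rfl), (hfx b).2 (Or.inr rfl)⟩
  have hord : orderOf (⟨x, hx⟩ : X) = 5 := by
    rw [← Subgroup.orderOf_coe]; exact orderOf_cycle hc hs
  have hga' : g⁻¹ • a = b := inv_smul_eq_iff.2 hgb.symm
  have hgb' : g⁻¹ • b = a := inv_smul_eq_iff.2 hga.symm
  have hyS : g * ⟨x, hx⟩ * g⁻¹ ∈ S := by
    constructor
    · show (g * ⟨x, hx⟩ * g⁻¹) • a = a
      rw [mul_smul, mul_smul, hga', show (⟨x, hx⟩ : X) • b = b from (hfx b).2 (Or.inr rfl), hgb]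
    · show (g * ⟨x, hx⟩ * g⁻¹) • b = b
      rw [mul_smul, mul_smul, hgb', show (⟨x, hx⟩ : X) • a = a from (hfx a).2 (Or.inl rfl), hga]
  have h25 : ¬ 5 ^ 2 ∣ Nat.card X := fun h => by
    have h1 := h.trans (Subgroup.card_dvd_of_le hA)
    haveI : Nontrivial α := Fintype.one_lt_card_iff_nontrivial.1 (by omega)
    have h3 : 5 ^ 2 ∣ Nat.card (Perm α) := h1.trans (Subgroup.card_subgroup_dvd_card _)
    rw [Nat.card_perm, Nat.card_eq_fintype_card, h7] at h3
    norm_num [Nat.factorial] at h3
  have hzp : ∀ z : X, z ∈ S → orderOf z = 5 → ∃ Q : Sylow 5 S,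
      ((Q : Subgroup S).map S.subtype) = Subgroup.zpowers z := by
    intro z hz hzo
    refine ⟨Sylow.ofCard ((Subgroup.zpowers z).subgroupOf S) ?_, ?_⟩
    · rw [Nat.card_congr (Subgroup.subgroupOfEquivOfLe (Subgroup.zpowers_le.2 hz)).toEquiv,
        Nat.card_zpowers, hzo]
      have h1 : 5 ∣ Nat.card S := by
        have := Subgroup.card_dvd_of_le (Subgroup.zpowers_le.2 hz)
        rwa [Nat.card_zpowers, hzo] at this
      have h2 : ¬ 5 ^ 2 ∣ Nat.card S := fun h => h25 (h.trans (Subgroup.card_subgroup_dvd_card S))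
      have h3 := (Nat.prime_five.pow_dvd_iff_le_factorization (k := 1) Nat.card_pos.ne').1
        (by simpa using h1)
      have h4 : ¬ 2 ≤ (Nat.card S).factorization 5 := fun h =>
        h2 ((Nat.prime_five.pow_dvd_iff_le_factorization Nat.card_pos.ne').2 h)
      rw [show (Nat.card S).factorization 5 = 1 by omega, pow_one]
    · rw [Sylow.coe_ofCard, Subgroup.subgroupOf_map_subtype, inf_eq_left.2 (Subgroup.zpowers_le.2 hz)]
  obtain ⟨Q, hQ⟩ := hzp _ hxS hord
  obtain ⟨R, hR⟩ := hzp _ hyS (by rw [← MulAut.conj_apply, MulEquiv.orderOf_eq]; exact hord)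
  obtain ⟨h, hh⟩ := MulAction.exists_smul_eq S R Q
  set y : X := (h : X) * g with hy
  have hynorm : y * ⟨x, hx⟩ * y⁻¹ ∈ Subgroup.zpowers (⟨x, hx⟩ : X) := by
    rw [← hQ, ← hh]
    have : g * ⟨x, hx⟩ * g⁻¹ ∈ (R : Subgroup S).map S.subtype :=
      hR ▸ Subgroup.mem_zpowers _
    obtain ⟨r, hr, hre⟩ := this
    refine ⟨h * r * h⁻¹, ?_, ?_⟩
    · rw [Sylow.coe_subgroup_smul]
      exact ⟨r, hr, rfl⟩
    · show ((h : X) * (r : X) * (h : X)⁻¹) = _
      rw [show (r : X) = g * ⟨x, hx⟩ * g⁻¹ from hre, hy]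
      group
  have hya : y • a = b := by rw [hy, mul_smul, hga]; exact h.2.2
  have hyb : y • b = a := by rw [hy, mul_smul, hgb]; exact h.2.1
  obtain ⟨s, t, ht, hst⟩ : ∃ s t, Odd t ∧ orderOf y = 2 ^ s * t := by
    obtain ⟨e, m, hm, he⟩ := Nat.exists_eq_pow_mul_and_not_dvd (orderOf_pos y).ne' 2 (by norm_num)
    exact ⟨e, m, Nat.odd_iff.2 (by omega), he⟩
  set w := y ^ t with hw
  have hwab : w • a = b ∧ w • b = a := by
    obtain ⟨u, rfl⟩ := ht
    have key : ∀ n : ℕ, y ^ (2 * n) • a = a ∧ y ^ (2 * n) • b = b := by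
      intro n
      induction n with
      | zero => simp
      | succ n ih =>
        refine ⟨?_, ?_⟩ <;> rw [show 2 * (n + 1) = 1 + 1 + 2 * n by ring, pow_add, pow_add, pow_one,
          mul_smul, mul_smul]
        · rw [ih.1, hya, hyb]
        · rw [ih.2, hyb, hya]
    refine ⟨?_, ?_⟩
    · rw [hw, pow_succ', mul_smul, (key u).1, hya]
    · rw [hw, pow_succ', mul_smul, (key u).2, hyb]
  have hwo : orderOf w = 2 ^ s := by
    rw [hw, orderOf_pow_of_dvd (by rintro rfl; simp at ht) ⟨2 ^ s, by rw [hst]; ring⟩, hst,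
      Nat.mul_div_cancel _ ht.pos]
  rcases Nat.lt_or_ge s 2 with hs2 | hs2
  · exfalso
    have hw2 : (w : Perm α) ^ 2 = 1 := by
      have h1 : w ^ (2 ^ s) = 1 := hwo ▸ pow_orderOf_eq_one w
      have h2 : w ^ 2 = 1 := by
        interval_cases s
        · simp at h1; simp [h1]
        · simpa using h1
      exact congrArg Subtype.val h2
    have hwne : (w : Perm α) ≠ 1 := fun h => hab (by
      have := hwab.1
      rw [Subgroup.smul_def, h, one_smul] at this
      exact this)
    have hct : (w : Perm α).cycleType = Multiset.replicate (w : Perm α).cycleType.card 2 :=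
      cycleType_of_pow_prime_eq_one hw2
    have hsum := sum_cycleType (w : Perm α)
    rw [hct, Multiset.sum_replicate, smul_eq_mul] at hsum
    have hsign := sign_of_cycleType (w : Perm α)
    rw [mem_alternatingGroup.1 (hA w.2), hct, Multiset.sum_replicate, Multiset.card_replicate,
      smul_eq_mul, pow_add, pow_mul'] at hsign
    have hk : Even (w : Perm α).cycleType.card := by
      rcases Nat.even_or_odd (w : Perm α).cycleType.card with h | h
      · exact h
      · rw [h.neg_one_pow] at hsign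
        simp at hsign
    have hkpos : (w : Perm α).cycleType.card ≠ 0 := fun h =>
      hwne (cycleType_eq_zero.1 (Multiset.card_eq_zero.1 h))
    have hle := Finset.card_le_univ (w : Perm α).support
    obtain ⟨k, hk⟩ := hk
    have hsupp : (w : Perm α).support.card = 4 := by omega
    have hfix3 : (w : Perm α).supportᶜ.card = 3 := by rw [Finset.card_compl, hsupp, h7]
    obtain ⟨c, d, e, hcd, -, -, hcde⟩ := Finset.card_eq_three.1 hfix3
    have hwc : ∀ u ∈ ({c, d, e} : Finset α), (w : Perm α) u = u ∧ x u ≠ u := by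
      intro u hu
      rw [← hcde, Finset.mem_compl, notMem_support] at hu
      refine ⟨hu, fun hxu => ?_⟩
      rcases (hfx u).1 hxu with rfl | rfl
      · exact hab (hu.symm.trans hwab.1)
      · exact hab.symm (hu.symm.trans hwab.2)
    obtain ⟨hwc1, hxc⟩ := hwc c (by simp)
    obtain ⟨hwd1, hxd⟩ := hwc d (by simp)
    obtain ⟨i, hi⟩ := hc.exists_pow_eq hxc hxd
    have hpow : ∀ m : ℕ, ∃ j : ℤ, y ^ m * ⟨x, hx⟩ * (y ^ m)⁻¹ = (⟨x, hx⟩ : X) ^ j := by
      intro m
      induction m with
      | zero => exact ⟨1, by simp⟩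
      | succ m ih =>
        obtain ⟨j, hj⟩ := ih
        obtain ⟨l, hl⟩ := Subgroup.mem_zpowers_iff.1 hynorm
        refine ⟨l * j, ?_⟩
        rw [pow_succ', show y * y ^ m * ⟨x, hx⟩ * (y * y ^ m)⁻¹ =
          y * (y ^ m * ⟨x, hx⟩ * (y ^ m)⁻¹) * y⁻¹ by group, hj, ← MulAut.conj_apply, map_zpow,
          MulAut.conj_apply, ← hl, ← zpow_mul]
    obtain ⟨j, hj⟩ := hpow t
    obtain ⟨n, hn⟩ : ∃ n : ℕ, x ^ n = x ^ j :=
      (isOfFinOrder_of_finite x).mem_powers_iff_mem_zpowers.2 ⟨j, rfl⟩
    have hj' : (w : Perm α) * x * (w : Perm α)⁻¹ = x ^ n := by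
      have := congrArg Subtype.val hj
      rw [hn, hw]
      simpa using this
    have hji : (w : Perm α) * x ^ i * (w : Perm α)⁻¹ = x ^ (n * i) := by
      rw [← MulAut.conj_apply, map_pow, MulAut.conj_apply, hj', ← pow_mul]
    have h1 : (x ^ (n * i)) c = d := by
      rw [← hji, Perm.mul_apply, Perm.mul_apply, Perm.inv_eq_iff_eq.2 hwc1.symm, hi, hwd1]
    have h2 : x ^ (n * i) = x ^ i := hc.pow_eq_pow_iff.2 ⟨c, hxc, by rw [h1, hi]⟩
    rw [pow_eq_pow_iff_modEq, orderOf_cycle hc hs] at h2
    have hi5 : ¬ 5 ∣ i := by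
      intro h5
      have : x ^ i = 1 := orderOf_dvd_iff_pow_eq_one.1 (by rw [orderOf_cycle hc hs]; exact h5)
      rw [this] at hi
      exact hcd hi
    have hcomm : (w : Perm α) * x * (w : Perm α)⁻¹ = x := by
      rw [hj']
      conv_rhs => rw [← pow_one x]
      rw [pow_eq_pow_iff_modEq, orderOf_cycle hc hs]
      have h3 : n * i ≡ 1 * i [MOD 5] := by rwa [one_mul]
      exact h3.cancel_right_of_coprime ((Nat.Prime.coprime_iff_not_dvd Nat.prime_five).2 hi5)
    have hall : ∀ u, x u ≠ u → (w : Perm α) u = u := by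
      intro u hu
      obtain ⟨m, rfl⟩ := hc.exists_pow_eq hxc hu
      have hcm : Commute (w : Perm α) x := mul_inv_eq_iff_eq_mul.1 hcomm
      rw [← Perm.mul_apply, (hcm.pow_right m).eq, Perm.mul_apply, hwc1]
    have hsub : (w : Perm α).support ⊆ {a, b} := by
      intro u hu
      by_contra hn
      simp only [Finset.mem_insert, Finset.mem_singleton] at hn
      exact mem_support.1 hu (hall u fun h => hn ((hfx u).1 h))
    have := Finset.card_le_card hsub
    rw [hsupp, Finset.card_pair hab] at this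
    omega
  · have h1 := orderOf_dvd_natCard w
    rw [hwo] at h1
    exact (pow_dvd_pow 2 hs2).trans h1

/-- A transitive group of even permutations of degree `m`, `p + 2 ≤ m < 2 p`, with a `p`-cycle is
alternating, under mild conditions. -/
theorem alt_of_cycle [IsPretransitive X α] (hA : X ≤ alternatingGroup α) (hx : x ∈ X)
    (hc : x.IsCycle) (hs : x.support.card = p) (hm : Fintype.card α < 2 * p)
    (hgood : p + 3 ≤ Fintype.card α ∨ (p = 3 ∧ Fintype.card α = 5) ∨
      (p = 5 ∧ Fintype.card α = 7)) : X = alternatingGroup α := by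
  have hprim := isPreprimitive_of_cycle hx hc hs hm
  rcases hgood with h | ⟨rfl, -⟩ | ⟨rfl, h7⟩
  · exact le_antisymm hA (Cfsg.Agent.S0713.result X hprim hp.out
      (by have := hp.out.two_le; omega) h hc hs hx)
  · exact le_antisymm hA (alternatingGroup_le_of_isPreprimitive_of_isThreeCycle_mem hprim
      (card_support_eq_three_iff.1 hs) hx)
  · refine eq_alternating_of_card h7 hA ?_
    have h2 := two_trans_of_cycle hx hc hs hm (by omega)
    have h42 : 7 * 6 ∣ Nat.card X := by
      haveI htr : IsPretransitive X (Fin 2 ↪ α) := h2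
      haveI : Nonempty (Fin 2 ↪ α) := Function.Embedding.nonempty_of_card_le (by simp [h7])
      obtain ⟨e⟩ := ‹Nonempty (Fin 2 ↪ α)›
      have h : (Set.univ : Set (Fin 2 ↪ α)).ncard ∣ Nat.card X := by
        have h0 : (Set.univ : Set (Fin 2 ↪ α)) ⊆ orbit X e := fun f _ => by
          obtain ⟨g, hg⟩ := htr.exists_smul_eq e f
          refine ⟨g, ?_⟩
          rw [← hg]
        rw [← Set.univ_subset_iff.1 h0]
        exact (index_stabilizer (G := X) (x := e)).symm.dvd.trans (Subgroup.index_dvd_card _)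
      rw [Set.ncard_univ, Nat.card_eq_fintype_card,
        Fintype.card_embedding_eq, Fintype.card_fin, h7] at h
      simpa [Nat.descFactorial] using h
    have h4 := four_dvd_of_five_cycle h7 hA hx hc hs
    have h5 : 5 ∣ Nat.card X := by
      have := orderOf_dvd_natCard (⟨x, hx⟩ : X)
      rwa [← Subgroup.orderOf_coe, orderOf_cycle hc hs] at this
    have : Nat.lcm (Nat.lcm (7 * 6) 4) 5 ∣ Nat.card X := Nat.lcm_dvd (Nat.lcm_dvd h42 h4) h5
    simpa [show Nat.lcm (Nat.lcm (7 * 6) 4) 5 = 420 by rfl] using this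

end CfsgLib.Perm.SylowFix
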