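import Cfsg.Agent.Lib.Perm.SylowFix.Bound

/-!
Consequences of the bound on fixed points.
-/

set_option autoImplicit false
set_option linter.unusedSectionVars false

namespace CfsgLib.Perm.SylowFix

open MulAction

variable {p : ℕ} [hp : Fact p.Prime] {G : Type*} [Group G] [Finite G] {Ω : Type*}
  [MulAction G Ω] [Finite Ω]

/-- The bound for any transitive action. -/
theorem dd_nonneg [IsPretransitive G Ω] (hn : 1 < Nat.card Ω) (hgen : IsPGen p G)
    (P : Sylow p G) : 0 ≤ dd p (P : Subgroup G) Ω := by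
  obtain ⟨β⟩ : Nonempty Ω :=
    not_isEmpty_iff.1 fun h => by rw [Nat.card_of_isEmpty] at hn; omega
  set e := ofQuotientStabilizer G β
  have hbij : Function.Bijective e := ⟨injective_ofQuotientStabilizer G β, fun c => by
    obtain ⟨g, rfl⟩ := exists_smul_eq G β c
    exact ⟨(g : G ⧸ stabilizer G β), rfl⟩⟩
  have hsm : ∀ (g : G) (q : G ⧸ stabilizer G β), e (g • q) = g • e q :=
    fun g q => ofQuotientStabilizer_smul G β g q
  have hcard : Nat.card (G ⧸ stabilizer G β) = Nat.card Ω :=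
    Nat.card_congr (Equiv.ofBijective e hbij)
  have hfix : fixSet ((P : Subgroup G) : Set G) Ω =
      e '' fixSet ((P : Subgroup G) : Set G) (G ⧸ stabilizer G β) := by
    ext c
    obtain ⟨q, rfl⟩ := hbij.2 c
    rw [hbij.1.mem_set_image]
    exact ⟨fun h x hx => hbij.1 ((hsm x q).trans (h x hx)),
      fun h x hx => (hsm x q).symm.trans (congrArg e (h x hx))⟩
  have hfn : fn (P : Subgroup G) Ω = fn (P : Subgroup G) (G ⧸ stabilizer G β) := by
    rw [fn, hfix, Set.ncard_image_of_injective _ hbij.1, fn]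
  have h := boundAt (p := p) (Nat.card (G ⧸ stabilizer G β)) G (G ⧸ stabilizer G β) rfl
    (hcard ▸ hn) hgen P
  rwa [dd, kn, hfn, ← hcard]

theorem fn_bound [IsPretransitive G Ω] (hn : 1 < Nat.card Ω) (hgen : IsPGen p G)
    (P : Sylow p G) : (2 * p - 1) * fn (P : Subgroup G) Ω ≤ (p - 1) * Nat.card Ω :=
  bound_of_dd_nonneg P.isPGroup' (dd_nonneg hn hgen P)

/-- The bound without transitivity, when no orbit is trivial. -/
theorem fn_bound_of_orbits (hgen : IsPGen p G)
    (hbig : ∀ q : orbitRel.Quotient G Ω, 1 < Nat.card q.orbit) (P : Sylow p G) :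
    (2 * p - 1) * fn (P : Subgroup G) Ω ≤ (p - 1) * Nat.card Ω := by
  classical
  have := Fintype.ofFinite (orbitRel.Quotient G Ω)
  rw [fn_eq_sum_orbits (P : Subgroup G), card_eq_sum_orbits (G := G) (Ω := Ω), Finset.mul_sum,
    Finset.mul_sum]
  exact Finset.sum_le_sum fun q _ => fn_bound (hbig q) hgen P

/-- Counting the orbits of a `p`-subgroup. -/
theorem orbits_le {P : Subgroup G} (hP : IsPGroup p P) :
    p * Nat.card (orbitRel.Quotient P Ω) ≤ (p - 1) * fn P Ω + Nat.card Ω := by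
  classical
  have := Fintype.ofFinite (orbitRel.Quotient P Ω)
  have h1 : fn P Ω = ∑ q : orbitRel.Quotient P Ω,
      {a : q.orbit | (a : Ω) ∈ fixSet (P : Set G) Ω}.ncard := ncard_eq_sum_orbits _
  rw [h1, card_eq_sum_orbits (G := P) (Ω := Ω), Finset.mul_sum, ← Finset.sum_add_distrib,
    Nat.card_eq_fintype_card, ← Finset.card_univ, mul_comm, ← smul_eq_mul, ← Finset.sum_const]
  refine Finset.sum_le_sum fun q _ => ?_
  obtain ⟨c, rfl⟩ := Quotient.exists_rep q
  have hc : c ∈ orbitRel.Quotient.orbit (⟦c⟧ : orbitRel.Quotient P Ω) :=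
    orbitRel.Quotient.mem_orbit.2 rfl
  have horb : orbitRel.Quotient.orbit (⟦c⟧ : orbitRel.Quotient P Ω) = orbit P c :=
    orbitRel.Quotient.orbit_mk c
  obtain ⟨j, hj⟩ := hP.card_orbit (α := Ω) c
  rw [← horb] at hj
  rcases Nat.eq_zero_or_pos j with h0 | h0
  · have hone : (orbit P c).ncard ≤ 1 := by
      rw [← horb, ← Nat.card_coe_set_eq, hj, h0, pow_zero]
    have hpos : 0 < {a : orbitRel.Quotient.orbit (⟦c⟧ : orbitRel.Quotient P Ω) |
        (a : Ω) ∈ fixSet (P : Set G) Ω}.ncard :=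
      (Set.ncard_pos (Set.toFinite _)).2 ⟨⟨c, hc⟩, fun x hx =>
        (Set.ncard_le_one (Set.toFinite _)).1 hone _ ⟨⟨x, hx⟩, rfl⟩ _ (mem_orbit_self c)⟩
    have h2 : 1 ≤ Nat.card (orbitRel.Quotient.orbit (⟦c⟧ : orbitRel.Quotient P Ω)) := by
      rw [hj, h0, pow_zero]
    have h3 := Nat.le_mul_of_pos_right (p - 1) hpos
    have := hp.out.one_le
    omega
  · rw [hj]
    exact (Nat.le_self_pow h0.ne' p).trans (Nat.le_add_left _ _)

end CfsgLib.Perm.SylowFix
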