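import Mathlib

/-!
Fixed points of a Sylow `p`-subgroup in a transitive action of a group generated by its
`p`-elements: basic statistics.
-/

set_option autoImplicit false
set_option linter.unusedSectionVars false

namespace CfsgLib.Perm.SylowFix

open MulAction Pointwise

variable {G : Type*} [Group G] {Ω : Type*} [MulAction G Ω] {p : ℕ}

/-- An element of `p`-power order. -/
def IsPElt (p : ℕ) (x : G) : Prop := ∃ k : ℕ, orderOf x = p ^ k

/-- The group is generated by its elements of `p`-power order. -/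
def IsPGen (p : ℕ) (G : Type*) [Group G] : Prop :=
  Subgroup.closure {x : G | IsPElt p x} = ⊤

/-- The subgroup generated by the `p`-elements of `H`. -/
def pPart (p : ℕ) (H : Subgroup G) : Subgroup G :=
  Subgroup.closure {x : G | x ∈ H ∧ IsPElt p x}

theorem pPart_le (H : Subgroup G) : pPart p H ≤ H :=
  (Subgroup.closure_le _).2 fun _ hx => hx.1

theorem mem_pPart {H : Subgroup G} {x : G} (hx : x ∈ H) (h : IsPElt p x) : x ∈ pPart p H :=
  Subgroup.subset_closure ⟨hx, h⟩

theorem isPElt_coe {H : Subgroup G} (x : H) : IsPElt p (x : G) ↔ IsPElt p x := by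
  simp only [IsPElt, Subgroup.orderOf_coe]

theorem isPElt_conj {x : G} (g : G) (h : IsPElt p x) : IsPElt p (g * x * g⁻¹) := by
  obtain ⟨k, hk⟩ := h
  exact ⟨k, by rw [← hk]; exact MulEquiv.orderOf_eq (MulAut.conj g) x⟩

theorem isPElt_map [hp : Fact p.Prime] {H : Type*} [Group H] (φ : G →* H) {x : G}
    (h : IsPElt p x) : IsPElt p (φ x) := by
  obtain ⟨k, hk⟩ := h
  obtain ⟨j, -, hj⟩ := (Nat.dvd_prime_pow hp.out).1 (hk ▸ orderOf_map_dvd φ x)
  exact ⟨j, hj⟩

theorem isPElt_of_mem [hp : Fact p.Prime] [Finite G] {P : Subgroup G} (hP : IsPGroup p P) {x : G}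
    (hx : x ∈ P) : IsPElt p x := by
  obtain ⟨k, hk⟩ := IsPGroup.iff_orderOf.1 hP ⟨x, hx⟩
  exact ⟨k, by rw [← hk, ← Subgroup.orderOf_coe]⟩

theorem isPGen_pPart (H : Subgroup G) : IsPGen p (pPart p H) := by
  refine eq_top_iff.2 fun x _ => ?_
  obtain ⟨x, hx⟩ := x
  refine Subgroup.closure_induction (p := fun y hy => (⟨y, hy⟩ : pPart p H) ∈
    Subgroup.closure {z : pPart p H | IsPElt p z}) ?_ ?_ ?_ ?_ hx
  · rintro y ⟨hy, hp⟩
    exact Subgroup.subset_closure ((isPElt_coe (⟨y, _⟩ : pPart p H)).1 hp)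
  · exact one_mem _
  · intro a b ha hb h1 h2
    exact mul_mem h1 h2
  · intro a ha h1
    exact inv_mem h1

/-- A subgroup containing all `p`-elements of a `p`-generated group is the whole group. -/
theorem eq_top_of_isPElt (hG : IsPGen p G) {H : Subgroup G} (h : ∀ x, IsPElt p x → x ∈ H) :
    H = ⊤ :=
  top_le_iff.1 (hG.symm.le.trans ((Subgroup.closure_le _).2 h))

theorem IsPGen.of_surjective [Fact p.Prime] (hG : IsPGen p G) {H : Type*} [Group H] (φ : G →* H)
    (hφ : Function.Surjective φ) : IsPGen p H := by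
  refine eq_top_iff.2 ?_
  rw [← Subgroup.map_top_of_surjective φ hφ, ← hG, MonoidHom.map_closure]
  exact Subgroup.closure_mono (Set.image_subset_iff.2 fun x hx => isPElt_map φ hx)

theorem pPart_conj_mem {H : Subgroup G} {g x : G} (hg : ∀ y ∈ H, g * y * g⁻¹ ∈ H)
    (hx : x ∈ pPart p H) : g * x * g⁻¹ ∈ pPart p H := by
  have : (pPart p H).map (MulAut.conj g).toMonoidHom ≤ pPart p H := by
    rw [Subgroup.map_le_iff_le_comap]
    exact (Subgroup.closure_le _).2 fun y hy => mem_pPart (hg y hy.1) (isPElt_conj g hy.2)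
  exact this ⟨x, hx, rfl⟩

/-- The points fixed by every element of a set. -/
def fixSet (S : Set G) (Ω : Type*) [MulAction G Ω] : Set Ω := {a | ∀ x ∈ S, x • a = a}

theorem mem_fixSet {S : Set G} {a : Ω} : a ∈ fixSet S Ω ↔ ∀ x ∈ S, x • a = a := Iff.rfl

theorem mem_fixSet_iff_le {P : Subgroup G} {a : Ω} :
    a ∈ fixSet (P : Set G) Ω ↔ P ≤ stabilizer G a := Iff.rfl

/-- The number of fixed points of `P`. -/
noncomputable def fn (P : Subgroup G) (Ω : Type*) [MulAction G Ω] : ℕ :=
  (fixSet (P : Set G) Ω).ncard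

theorem fn_conj (g : G) (P : Subgroup G) :
    fn (P.map (MulAut.conj g).toMonoidHom) Ω = fn P Ω := by
  have : fixSet ((P.map (MulAut.conj g).toMonoidHom : Subgroup G) : Set G) Ω =
      (fun a => g • a) '' fixSet (P : Set G) Ω := by
    ext a
    constructor
    · intro ha
      refine ⟨g⁻¹ • a, fun x hx => ?_, smul_inv_smul g a⟩
      have := ha (g * x * g⁻¹) ⟨x, hx, rfl⟩
      rw [mul_smul, mul_smul] at this
      exact eq_inv_smul_iff.2 this
    · rintro ⟨b, hb, rfl⟩ _ ⟨x, hx, rfl⟩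
      show (g * x * g⁻¹) • g • b = g • b
      rw [← mul_smul, inv_mul_cancel_right, mul_smul, hb x hx]
  rw [fn, fn, this, Set.ncard_image_of_injective _ (MulAction.injective g)]

theorem fn_sylow [Fact p.Prime] [Finite G] (P Q : Sylow p G) :
    fn (P : Subgroup G) Ω = fn (Q : Subgroup G) Ω := by
  obtain ⟨g, rfl⟩ := MulAction.exists_smul_eq G P Q
  rw [Sylow.coe_subgroup_smul]
  exact (fn_conj g _).symm

variable [Finite Ω] [hp : Fact p.Prime]

theorem fn_le (P : Subgroup G) : fn P Ω ≤ Nat.card Ω :=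
  (Set.ncard_le_ncard (Set.subset_univ _)).trans_eq (Set.ncard_univ _)

/-- The number of `p`-blocks of points moved by `P`. -/
noncomputable def kn (p : ℕ) (P : Subgroup G) (Ω : Type*) [MulAction G Ω] : ℕ :=
  (Nat.card Ω - fn P Ω) / p

theorem card_eq {P : Subgroup G} (hP : IsPGroup p P) :
    Nat.card Ω = fn P Ω + p * kn p P Ω := by
  have h := hP.card_modEq_card_fixedPoints Ω
  have he : (fixedPoints P Ω) = fixSet (P : Set G) Ω := by
    ext a
    exact ⟨fun h x hx => h ⟨x, hx⟩, fun h x => h x.1 x.2⟩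
  rw [Nat.card_coe_set_eq, he, ← fn] at h
  have hd : p ∣ Nat.card Ω - fn P Ω := (Nat.modEq_iff_dvd' (fn_le P)).1 h.symm
  rw [kn, Nat.mul_div_cancel' hd]
  have := fn_le (Ω := Ω) P
  omega

/-- The deficit `(p - 1) k - f`. -/
noncomputable def dd (p : ℕ) (P : Subgroup G) (Ω : Type*) [MulAction G Ω] : ℤ :=
  ((p : ℤ) - 1) * kn p P Ω - fn P Ω

theorem bound_of_dd_nonneg {P : Subgroup G} (hP : IsPGroup p P) (h : 0 ≤ dd p P Ω) :
    (2 * p - 1) * fn P Ω ≤ (p - 1) * Nat.card Ω := by
  have h1 := hp.out.one_le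
  zify [show 1 ≤ 2 * p by omega, h1]
  rw [card_eq hP (Ω := Ω)]
  push_cast
  unfold dd at h
  nlinarith [mul_nonneg (Int.natCast_nonneg p) h]

theorem dd_nonneg_of_bound {P : Subgroup G} (hP : IsPGroup p P)
    (h : (2 * p - 1) * fn P Ω ≤ (p - 1) * Nat.card Ω) : 0 ≤ dd p P Ω := by
  have h1 := hp.out.one_le
  zify [show 1 ≤ 2 * p by omega, h1] at h
  rw [card_eq hP (Ω := Ω)] at h
  push_cast at h
  unfold dd
  by_contra hn
  push Not at hn
  have : (p : ℤ) * (((p : ℤ) - 1) * kn p P Ω - fn P Ω) < 0 :=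
    mul_neg_of_pos_of_neg (by exact_mod_cast hp.out.pos) hn
  nlinarith

variable [Finite G]

/-- In a nontrivial transitive action of a `p`-generated group every Sylow subgroup moves a point. -/
theorem exists_moved (hG : IsPGen p G) [IsPretransitive G Ω] (hn : 1 < Nat.card Ω)
    (P : Sylow p G) : ∃ x ∈ (P : Subgroup G), ∃ a : Ω, x • a ≠ a := by
  by_contra h
  push Not at h
  have htriv : ∀ g : G, ∀ a : Ω, g • a = a := by
    have : (toPermHom G Ω).ker = ⊤ := by
      refine eq_top_of_isPElt hG fun x hx => ?_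
      obtain ⟨k, hk⟩ := hx
      have hz : IsPGroup p (Subgroup.zpowers x) :=
        IsPGroup.of_card (n := k) (by rw [Nat.card_zpowers, hk])
      obtain ⟨Q, hQ⟩ := hz.exists_le_sylow
      obtain ⟨g, rfl⟩ := MulAction.exists_smul_eq G P Q
      have hxQ := hQ (Subgroup.mem_zpowers x)
      rw [Sylow.coe_subgroup_smul] at hxQ
      obtain ⟨y, hy, rfl⟩ := hxQ
      refine MonoidHom.mem_ker.2 (Equiv.ext fun a => ?_)
      show (g * y * g⁻¹) • a = a
      rw [mul_smul, mul_smul, h y hy, smul_inv_smul]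
    intro g a
    have hg : g ∈ (toPermHom G Ω).ker := this ▸ Subgroup.mem_top g
    exact Equiv.congr_fun (MonoidHom.mem_ker.1 hg) a
  have : Subsingleton Ω := ⟨fun a b => by
    obtain ⟨g, rfl⟩ := MulAction.exists_smul_eq G a b
    rw [htriv]⟩
  rw [Finite.one_lt_card_iff_nontrivial] at hn
  exact not_nontrivial Ω hn

theorem fn_lt (hG : IsPGen p G) [IsPretransitive G Ω] (hn : 1 < Nat.card Ω) (P : Sylow p G) :
    fn (P : Subgroup G) Ω < Nat.card Ω := by
  obtain ⟨x, hx, a, ha⟩ := exists_moved hG hn P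
  rw [fn, ← Set.ncard_univ]
  refine Set.ncard_lt_ncard ⟨Set.subset_univ _, fun h => ha (h (Set.mem_univ a) x hx)⟩

theorem kn_pos (hG : IsPGen p G) [IsPretransitive G Ω] (hn : 1 < Nat.card Ω) (P : Sylow p G) :
    0 < kn p (P : Subgroup G) Ω := by
  have h1 := fn_lt hG hn P
  have h2 := card_eq (Ω := Ω) P.isPGroup'
  rcases Nat.eq_zero_or_pos (kn p (P : Subgroup G) Ω) with h | h
  · rw [h] at h2; omega
  · exact h

/-- The normaliser of a Sylow subgroup is transitive on its fixed points. -/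
theorem exists_normalizer_smul_eq [IsPretransitive G Ω] (P : Sylow p G) {a b : Ω}
    (ha : a ∈ fixSet ((P : Subgroup G) : Set G) Ω) (hb : b ∈ fixSet ((P : Subgroup G) : Set G) Ω) :
    ∃ g ∈ Subgroup.normalizer ((P : Subgroup G) : Set G), g • a = b := by
  obtain ⟨g, hg⟩ := MulAction.exists_smul_eq G a b
  have hPb : (P : Subgroup G) ≤ stabilizer G b := hb
  have hgPb : ((g • P : Sylow p G) : Subgroup G) ≤ stabilizer G b := by
    rw [Sylow.coe_subgroup_smul]
    rintro _ ⟨x, hx, rfl⟩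
    show (g * x * g⁻¹) • b = b
    rw [← hg, ← mul_smul, inv_mul_cancel_right, mul_smul, ha x hx]
  obtain ⟨h, hh⟩ := MulAction.exists_smul_eq (stabilizer G b)
    ((g • P).subtype hgPb) (P.subtype hPb)
  have hh' : (h : G) • g • P = P := by
    apply Sylow.subtype_injective
    rw [Sylow.smul_subtype] at hh
    exact hh
  refine ⟨(h : G) * g, ?_, by rw [mul_smul, hg]; exact h.2⟩
  rw [← mul_smul] at hh'
  exact Sylow.smul_eq_iff_mem_normalizer.1 hh'

/-- The number of fixed points of a Sylow subgroup is prime to `p`, if positive. -/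
theorem not_dvd_fn [IsPretransitive G Ω] (P : Sylow p G) (h : 0 < fn (P : Subgroup G) Ω) :
    ¬ p ∣ fn (P : Subgroup G) Ω := by
  obtain ⟨a, ha⟩ := (Set.ncard_pos).1 h
  set N := Subgroup.normalizer ((P : Subgroup G) : Set G) with hN
  have horb : orbit N a = fixSet ((P : Subgroup G) : Set G) Ω := by
    ext b
    constructor
    · rintro ⟨⟨g, hg⟩, rfl⟩ x hx
      show x • g • a = g • a
      have : g⁻¹ * x * g ∈ (P : Subgroup G) := by
        have := (Subgroup.mem_normalizer_iff.1 (inv_mem hg) x).1 hx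
        simpa using this
      rw [show x • g • a = g • (g⁻¹ * x * g) • a by simp [← mul_smul, mul_assoc], ha _ this]
    · intro hb
      obtain ⟨g, hg, rfl⟩ := exists_normalizer_smul_eq P ha hb
      exact ⟨⟨g, hg⟩, rfl⟩
  have hidx : fn (P : Subgroup G) Ω = (stabilizer N a).index := by
    rw [fn, ← horb, index_stabilizer]
  have hle : (P : Subgroup G).subgroupOf N ≤ stabilizer N a := fun x hx => ha _ hx
  intro hd
  apply P.not_dvd_index (p := p)
  have h1 : (stabilizer N a).index ∣ ((P : Subgroup G).subgroupOf N).index :=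
    Subgroup.index_dvd_of_le hle
  have h2 : ((P : Subgroup G).subgroupOf N).index ∣ (P : Subgroup G).index := by
    rw [← Subgroup.relIndex_mul_index (Subgroup.le_normalizer : (P : Subgroup G) ≤ N)]
    exact dvd_mul_right _ _
  exact (hidx ▸ hd).trans (h1.trans h2)

/-- Counting a predicate over the orbits of a group. -/
theorem ncard_eq_sum_orbits (Q : Set Ω) [Fintype (orbitRel.Quotient G Ω)] :
    Q.ncard = ∑ q : orbitRel.Quotient G Ω, {a : q.orbit | (a : Ω) ∈ Q}.ncard := by
  classical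
  have := Fintype.ofFinite Ω
  rw [Set.ncard_eq_toFinset_card', Finset.card_eq_sum_card_fiberwise
    (f := fun a => (Quotient.mk'' a : orbitRel.Quotient G Ω)) (t := Finset.univ)
    (fun a _ => Finset.mem_univ _)]
  refine Finset.sum_congr rfl fun q _ => ?_
  rw [← Set.ncard_coe_finset, ← Set.ncard_image_of_injective
    {a : (orbitRel.Quotient.orbit q) | (a : Ω) ∈ Q} Subtype.val_injective]
  congr 1
  ext a
  simp only [Finset.coe_filter, Set.mem_toFinset, Set.mem_ofPred_eq, Set.mem_image, Subtype.exists,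
    exists_and_left, orbitRel.Quotient.mem_orbit]
  exact ⟨fun ⟨h1, h2⟩ => ⟨a, h1, h2, rfl⟩, fun ⟨b, h1, h2, e⟩ => e ▸ ⟨h1, h2⟩⟩

theorem fn_orbit (P : Subgroup G) (q : orbitRel.Quotient G Ω) :
    fn P q.orbit = {a : q.orbit | (a : Ω) ∈ fixSet (P : Set G) Ω}.ncard := by
  rw [fn]
  congr 1
  ext a
  exact ⟨fun h x hx => congrArg Subtype.val (h x hx), fun h x hx => Subtype.ext (h x hx)⟩

theorem fn_eq_sum_orbits (P : Subgroup G) [Fintype (orbitRel.Quotient G Ω)] :
    fn P Ω = ∑ q : orbitRel.Quotient G Ω, fn P q.orbit := by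
  simp only [fn_orbit]
  exact ncard_eq_sum_orbits _

theorem card_eq_sum_orbits [Fintype (orbitRel.Quotient G Ω)] :
    Nat.card Ω = ∑ q : orbitRel.Quotient G Ω, Nat.card q.orbit := by
  rw [← Set.ncard_univ, ncard_eq_sum_orbits (G := G) (Set.univ : Set Ω)]
  refine Finset.sum_congr rfl fun q _ => ?_
  simp [Set.ncard_univ]

theorem kn_eq_sum_orbits {P : Subgroup G} (hP : IsPGroup p P)
    [Fintype (orbitRel.Quotient G Ω)] :
    kn p P Ω = ∑ q : orbitRel.Quotient G Ω, kn p P q.orbit := by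
  refine Nat.eq_of_mul_eq_mul_left hp.out.pos ?_
  have h1 := card_eq (Ω := Ω) hP
  rw [card_eq_sum_orbits (G := G), fn_eq_sum_orbits P,
    Finset.sum_congr rfl (fun q _ => card_eq (Ω := q.orbit) hP), Finset.sum_add_distrib,
    ← Finset.mul_sum] at h1
  omega

theorem dd_eq_sum_orbits {P : Subgroup G} (hP : IsPGroup p P)
    [Fintype (orbitRel.Quotient G Ω)] :
    dd p P Ω = ∑ q : orbitRel.Quotient G Ω, dd p P q.orbit := by
  simp only [dd, kn_eq_sum_orbits hP, fn_eq_sum_orbits P, Nat.cast_sum, Finset.mul_sum,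
    Finset.sum_sub_distrib]

end CfsgLib.Perm.SylowFix
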