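import Cfsg.Agent.Lib.Perm.SylowFix.Main

/-!
The bound `(2 p - 1) f ≤ (p - 1) n` on the fixed points of a Sylow `p`-subgroup.
-/

set_option autoImplicit false
set_option linter.unusedSectionVars false
set_option linter.style.haveILetI false

namespace CfsgLib.Perm.SylowFix

open MulAction Pointwise

universe u

variable {p : ℕ} [hp : Fact p.Prime]

/-- The bound in degree `n`. -/
def BoundAt (p n : ℕ) : Prop :=
  ∀ (G Ω : Type u) [Group G] [Finite G] [MulAction G Ω] [Finite Ω] [IsPretransitive G Ω],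
    Nat.card Ω = n → 1 < n → IsPGen p G → ∀ P : Sylow p G, 0 ≤ dd p (P : Subgroup G) Ω

/-- `2`-groups of order two: there is a normal complement of odd order. -/
theorem dd_nonneg_two {G : Type*} [Group G] [Finite G] {Ω : Type*} [MulAction G Ω] [Finite Ω]
    [IsPretransitive G Ω] [Fact (Nat.Prime 2)] (hn : 1 < Nat.card Ω) (hgen : IsPGen 2 G)
    (P : Sylow 2 G) (hP2 : Nat.card (P : Subgroup G) = 2) :
    0 ≤ dd 2 (P : Subgroup G) Ω := by
  rcases Nat.eq_zero_or_pos (fn (P : Subgroup G) Ω) with h0 | hf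
  · rw [dd, h0]; push_cast; omega
  obtain ⟨a, ha⟩ := (Set.ncard_pos).1 hf
  have hk := kn_pos (Ω := Ω) hgen hn P
  have hcard := card_eq (Ω := Ω) P.isPGroup'
  haveI : IsCyclic (P : Subgroup G) := isCyclic_of_prime_card hP2
  have hNC : Subgroup.normalizer ((P : Subgroup G) : Set G) ≤
      Subgroup.centralizer ((P : Subgroup G) : Set G) := by
    intro g hg x hx
    have hx' : g * x * g⁻¹ ∈ (P : Subgroup G) := (Subgroup.mem_normalizer_iff.1 hg x).1 hx
    rcases eq_or_ne x 1 with rfl | hx1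
    · simp
    obtain ⟨y, z, hyz, hu⟩ := (Nat.card_eq_two_iff (α := (P : Subgroup G))).1 hP2
    have huniq : ∀ u : (P : Subgroup G), u ≠ 1 → u = ⟨x, hx⟩ := by
      intro u hu1
      have h1 := hu.ge (Set.mem_univ u)
      have h2 := hu.ge (Set.mem_univ (1 : (P : Subgroup G)))
      have h3 := hu.ge (Set.mem_univ (⟨x, hx⟩ : (P : Subgroup G)))
      have hx1' : (⟨x, hx⟩ : (P : Subgroup G)) ≠ 1 := fun he => hx1 (congrArg Subtype.val he)
      simp only [Set.mem_insert_iff, Set.mem_singleton_iff] at h1 h2 h3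
      rcases h1 with rfl | rfl <;> rcases h2 with h2 | h2 <;> rcases h3 with h3 | h3 <;>
        first | exact h3.symm | exact absurd h2.symm hu1 | exact absurd (h3.trans h2.symm) hx1'
    have := huniq ⟨_, hx'⟩ fun he => hx1 (by
      have h1 := congrArg Subtype.val he
      simpa [conj_eq_one_iff] using h1)
    have h1 : g * x * g⁻¹ = x := congrArg Subtype.val this
    exact (mul_inv_eq_iff_eq_mul.1 h1).symm
  set T := MonoidHom.transferSylow P hNC
  have hcomp := MonoidHom.ker_transferSylow_isComplement' P hNC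
  have hodd : ¬ 2 ∣ Nat.card T.ker := MonoidHom.not_dvd_card_ker_transferSylow P hNC
  have htr : ∀ b : Ω, ∃ r ∈ T.ker, r • a = b := by
    intro b
    obtain ⟨g, rfl⟩ := exists_smul_eq G a b
    obtain ⟨⟨⟨r, hr⟩, ⟨x, hx⟩⟩, hrx⟩ := hcomp.2 g
    refine ⟨r, hr, ?_⟩
    change r * x = g at hrx
    rw [← hrx, mul_smul, ha x hx]
  have hd : fn (P : Subgroup G) Ω ∣ Nat.card Ω := ncard_fixed_dvd_degree
    (A := (P : Subgroup G)) (R := T.ker)
    (fun z _ => Subgroup.le_normalizer_of_normal (H := T.ker) (K := ⊤) (Subgroup.mem_top z))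
    (by rw [hP2]; exact (Nat.Prime.coprime_iff_not_dvd Nat.prime_two).2 hodd)
    (by haveI := P.isPGroup'.isNilpotent; infer_instance)
    (fun u v => by
      obtain ⟨r, hr, rfl⟩ := htr u
      obtain ⟨s, hs, rfl⟩ := htr v
      exact ⟨s * r⁻¹, mul_mem hs (inv_mem hr), by rw [mul_smul, inv_smul_smul]⟩) ha
  haveI : IsPretransitive T.ker Ω := (isPretransitive_iff_base a).2 fun b => by
    obtain ⟨r, hr, h⟩ := htr b
    exact ⟨⟨r, hr⟩, h⟩
  have hoddn : ¬ 2 ∣ Nat.card Ω := fun h2 => hodd (h2.trans (by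
    rw [← index_stabilizer_of_transitive T.ker a]
    exact Subgroup.index_dvd_card _))
  obtain ⟨r, hr⟩ := hd
  have hr3 : 3 ≤ r := by
    rcases (show r = 0 ∨ r = 1 ∨ r = 2 ∨ 3 ≤ r by omega) with h | h | h | h
    · rw [h, mul_zero] at hr; omega
    · rw [h, mul_one] at hr; omega
    · exact absurd (by rw [hr, h]; exact dvd_mul_left 2 _) hoddn
    · exact h
  have := Nat.mul_le_mul_left (fn (P : Subgroup G) Ω) hr3
  rw [dd]; push_cast; omega

/-- A group acting semiregularly on an invariant set has order dividing its size. -/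
theorem card_dvd_ncard_of_semiregular {H : Type*} [Group H] [Finite H] {Z : Type*} [MulAction H Z]
    [Finite Z] (S : Set Z) (hS : ∀ x : H, ∀ a ∈ S, x • a ∈ S)
    (hsemi : ∀ x : H, ∀ a ∈ S, x • a = a → x = 1) : Nat.card H ∣ S.ncard := by
  classical
  have := Fintype.ofFinite (orbitRel.Quotient H Z)
  rw [ncard_eq_sum_orbits (G := H) S]
  refine Finset.dvd_sum fun q _ => ?_
  by_cases hex : ∃ a : q.orbit, (a : Z) ∈ S
  · obtain ⟨a, ha⟩ := hex
    have hall : {b : q.orbit | (b : Z) ∈ S} = Set.univ := Set.eq_univ_of_forall fun b => by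
      obtain ⟨x, hx⟩ := exists_smul_eq H a b
      rw [← hx]; exact hS x _ ha
    have hst : stabilizer H a = ⊥ := (Subgroup.eq_bot_iff_forall _).2 fun x hx =>
      hsemi x _ ha (congrArg Subtype.val (mem_stabilizer_iff.1 hx))
    rw [hall, Set.ncard_univ, ← index_stabilizer_of_transitive H a, hst, Subgroup.index_bot]
  · push Not at hex
    rw [show {b : q.orbit | (b : Z) ∈ S} = ∅ from Set.eq_empty_of_forall_notMem hex,
      Set.ncard_empty]
    exact dvd_zero _

/-- The semiregular case. -/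
theorem dd_nonneg_semiregular {n : ℕ} (IH : ∀ m < n, BoundAt.{u} p m) {G Ω : Type u} [Group G]
    [Finite G] [MulAction G Ω] [Finite Ω] [IsPreprimitive G Ω] (hn : Nat.card Ω = n) (h1 : 1 < n)
    (hgen : IsPGen p G) (P : Sylow p G) (hP : p ^ 2 ∣ Nat.card (P : Subgroup G))
    (hsemi : ∀ x ∈ (P : Subgroup G), ∀ c, c ∉ fixSet ((P : Subgroup G) : Set G) Ω → x • c = c →
      x = 1) : 0 ≤ dd p (P : Subgroup G) Ω := by
  classical
  haveI : Nontrivial Ω := Finite.one_lt_card_iff_nontrivial.1 (by omega)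
  rcases Nat.eq_zero_or_pos (fn (P : Subgroup G) Ω) with h0 | hf
  · rw [dd, h0]
    have := mul_nonneg (show (0 : ℤ) ≤ (p : ℤ) - 1 by have := hp.out.two_le; omega)
      (Int.natCast_nonneg (kn p (P : Subgroup G) Ω))
    omega
  obtain ⟨a, ha⟩ := (Set.ncard_pos).1 hf
  have := Fintype.ofFinite (orbitRel.Quotient (pPart p (stabilizer G a)) Ω)
  obtain ⟨-, hsk, hsd, hsn⟩ := sum_others P ha
  set Q0 := Finset.univ.erase (orb (pPart p (stabilizer G a)) a) with hQ0
  have hk0 := kn_pos (Ω := Ω) hgen (by omega) P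
  have hmem : ∀ q ∈ Q0, a ∉ q.orbit := fun q hq hm =>
    Finset.ne_of_mem_erase hq (mem_orbit_iff_orb.1 hm).symm
  have hnn : ∀ q ∈ Q0, 0 ≤ dd p (sylK P ha : Subgroup (pPart p (stabilizer G a))) q.orbit :=
    fun q hq => IH (Nat.card q.orbit) (hn ▸ card_orbit_lt q (hmem q hq)) _ _ rfl
      (one_lt_card_orbit P hk0 ha q (hmem q hq)) (isPGen_pPart _) _
  by_contra hneg
  have hzero : ∀ q ∈ Q0,
      dd p (sylK P ha : Subgroup (pPart p (stabilizer G a))) q.orbit = 0 := fun q hq => by
    have := Finset.single_le_sum hnn hq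
    have := hnn q hq
    omega
  obtain ⟨q, hq⟩ : Q0.Nonempty := by
    rw [Finset.nonempty_iff_ne_empty]
    intro he
    rw [he, Finset.sum_empty] at hsn
    omega
  set P' := sylK P ha
  have hz := hzero q hq
  rw [dd] at hz
  have hkq := kn_pos (Ω := q.orbit) (isPGen_pPart _) (one_lt_card_orbit P hk0 ha q (hmem q hq)) P'
  have hfq : 0 < fn (P' : Subgroup (pPart p (stabilizer G a))) q.orbit := by
    by_contra h
    rw [show fn (P' : Subgroup (pPart p (stabilizer G a))) q.orbit = 0 by omega] at hz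
    have := mul_pos (show (0 : ℤ) < (p : ℤ) - 1 by have := hp.out.two_le; omega)
      (show (0 : ℤ) < (kn p (P' : Subgroup (pPart p (stabilizer G a))) q.orbit : ℤ) by omega)
    omega
  set F : Set q.orbit := fixSet ((P' : Subgroup (pPart p (stabilizer G a))) :
    Set (pPart p (stabilizer G a))) q.orbit
  have hcardP : Nat.card (P' : Subgroup (pPart p (stabilizer G a))) =
      Nat.card (P : Subgroup G) :=
    Nat.card_congr (Subgroup.subgroupOfEquivOfLe (le_pPart_stabilizer P ha)).toEquiv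
  have hdvd : Nat.card (P' : Subgroup (pPart p (stabilizer G a))) ∣ Fᶜ.ncard := by
    refine card_dvd_ncard_of_semiregular Fᶜ (fun x c hc hmem => hc fun y hy => ?_) ?_
    · have h1 : (x : pPart p (stabilizer G a)) • c = c :=
        MulAction.injective (x : pPart p (stabilizer G a)) (hmem _ x.2)
      have h2 : y • (x : pPart p (stabilizer G a)) • c = (x : pPart p (stabilizer G a)) • c :=
        hmem y hy
      rwa [h1] at h2
    · intro x c hc hxc
      have h1 := hsemi ((x : pPart p (stabilizer G a)) : G) x.2 (c : Ω)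
        (fun hm => hc fun y hy => Subtype.ext (hm (y : G) hy)) (congrArg Subtype.val hxc)
      exact Subtype.ext (Subtype.ext h1)
  rw [hcardP] at hdvd
  have h2 := Set.ncard_add_ncard_compl F
  have h3 := card_eq (Ω := q.orbit) P'.isPGroup'
  change fn (P' : Subgroup (pPart p (stabilizer G a))) q.orbit + _ = _ at h2
  have h4 : p ^ 2 ∣ p * kn p (P' : Subgroup (pPart p (stabilizer G a))) q.orbit := by
    rw [show p * kn p (P' : Subgroup (pPart p (stabilizer G a))) q.orbit = Fᶜ.ncard by omega]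
    exact hP.trans hdvd
  rw [pow_two] at h4
  have h5 : (p : ℤ) ∣ (kn p (P' : Subgroup (pPart p (stabilizer G a))) q.orbit : ℤ) :=
    Int.natCast_dvd_natCast.2 ((Nat.mul_dvd_mul_iff_left hp.out.pos).1 h4)
  apply not_dvd_fn P' hfq
  rw [← Int.natCast_dvd_natCast,
    show (fn (P' : Subgroup (pPart p (stabilizer G a))) q.orbit : ℤ) =
      ((p : ℤ) - 1) * kn p (P' : Subgroup (pPart p (stabilizer G a))) q.orbit by omega]
  exact h5.mul_left _

/-- The case of a nontrivial stabiliser of a moved point in the Sylow subgroup. -/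
theorem dd_nonneg_stab {n : ℕ} (IH : ∀ m < n, BoundAt.{u} p m) {G Ω : Type u} [Group G] [Finite G]
    [MulAction G Ω] [Finite Ω] [IsPretransitive G Ω] [FaithfulSMul G Ω] (hn : Nat.card Ω = n)
    (P : Sylow p G) (hf : 0 < fn (P : Subgroup G) Ω)
    (hex : ∃ c, c ∉ fixSet ((P : Subgroup G) : Set G) Ω ∧
      (P : Subgroup G) ⊓ stabilizer G c ≠ ⊥) : 0 ≤ dd p (P : Subgroup G) Ω := by
  classical
  have := Fintype.ofFinite Ω
  set F := fixSet ((P : Subgroup G) : Set G) Ω with hF
  let st : Ω → Subgroup G := fun c => (P : Subgroup G) ⊓ stabilizer G c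
  obtain ⟨c₁, hc₁, hmax₁⟩ := Set.exists_max_image Fᶜ (fun c => Nat.card (st c)) (Set.toFinite _)
    (hex.imp fun c h => h.1)
  obtain ⟨γ, hγ, hmax₂⟩ := Set.exists_max_image
    {c | c ∈ Fᶜ ∧ Nat.card (st c) = Nat.card (st c₁)}
    (fun c => Nat.card ↥((P : Subgroup G) ⊓ Subgroup.normalizer (st c : Set G))) (Set.toFinite _)
    ⟨c₁, hc₁, rfl⟩
  obtain ⟨hγF, hγc⟩ := hγ
  have hbigst : ∀ c, c ∉ F → Nat.card (st c) ≤ Nat.card (st γ) := fun c hc =>
    (hmax₁ c hc).trans_eq hγc.symm
  obtain ⟨R, hR⟩ : ∃ R, R = st γ := ⟨_, rfl⟩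
  rw [← hR] at hbigst hγc
  have hnormmax : ∀ c, c ∉ F → Nat.card (st c) = Nat.card R →
      Nat.card ↥((P : Subgroup G) ⊓ Subgroup.normalizer (st c : Set G)) ≤
        Nat.card ↥((P : Subgroup G) ⊓ Subgroup.normalizer (R : Set G)) := fun c hc he =>
    hR ▸ hmax₂ c ⟨hc, he.trans hγc⟩
  have hRP : R ≤ (P : Subgroup G) := hR ▸ inf_le_left
  have hRne : R ≠ ⊥ := by
    obtain ⟨c, hc, hne⟩ := hex
    intro he
    have h1 := hbigst c hc
    rw [he, Subgroup.card_bot] at h1
    exact hne (Subgroup.card_eq_one.1 (le_antisymm h1 Nat.card_pos))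
  have hRγ : γ ∈ fixSet (R : Set G) Ω := fun x hx => (hR ▸ hx : x ∈ st γ).2
  have hFR : F ⊆ fixSet (R : Set G) Ω := fun c hc x hx => hc x (hRP hx)
  have hRall : fixSet (R : Set G) Ω ≠ Set.univ := fun he => hRne
    ((Subgroup.eq_bot_iff_forall _).2 fun x hx => eq_of_smul_eq_smul fun c : Ω => by
      rw [one_smul]; exact (he ▸ Set.mem_univ c : c ∈ fixSet (R : Set G) Ω) x hx)
  have hstR : ∀ c, c ∉ F → c ∈ fixSet (R : Set G) Ω → st c = R := fun c hc hcR =>
    (Subgroup.eq_of_le_of_card_ge (le_inf hRP hcR) (hbigst c hc)).symm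
  -- larger sets of fixed points give moved points
  have hmoved : ∀ S : Set Ω, fn (P : Subgroup G) Ω < S.ncard → ∃ c ∈ S, c ∉ F := by
    intro S hS
    by_contra hall
    push Not at hall
    exact absurd (Set.ncard_le_ncard hall) (not_le.2 hS)
  -- the subgroup generated by the `p`-elements normalising `R`
  set M := pPart p (Subgroup.normalizer (R : Set G)) with hM
  have hMinv : ∀ x ∈ M, ∀ c ∈ fixSet (R : Set G) Ω, x • c ∈ fixSet (R : Set G) Ω := by
    intro x hx c hc r hr
    have h1 : x⁻¹ * r * x ∈ R := by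
      have := (Subgroup.mem_normalizer_iff.1 (inv_mem (pPart_le (p := p) _ hx)) r).1 hr
      simpa using this
    rw [show r • x • c = x • (x⁻¹ * r * x) • c by simp [← mul_smul, mul_assoc], hc _ h1]
  -- conjugating a `p`-subgroup into `P`
  have hconj : ∀ U : Subgroup G, IsPGroup p U → ∃ g : G,
      U.map (MulAut.conj g).toMonoidHom ≤ (P : Subgroup G) := by
    intro U hU
    obtain ⟨Q, hQ⟩ := hU.exists_le_sylow
    obtain ⟨g, rfl⟩ := MulAction.exists_smul_eq G Q P
    refine ⟨g, ?_⟩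
    rw [Sylow.coe_subgroup_smul]
    exact Subgroup.map_mono hQ
  have hfixconj : ∀ (U : Subgroup G) (g : G),
      (fixSet ((U.map (MulAut.conj g).toMonoidHom : Subgroup G) : Set G) Ω).ncard =
        (fixSet (U : Set G) Ω).ncard := fun U g => fn_conj (Ω := Ω) g U
  -- `P ⊓ N(R)` is a Sylow subgroup of `M`
  set T := (P : Subgroup G) ⊓ Subgroup.normalizer (R : Set G) with hT
  have hTp : IsPGroup p T := P.isPGroup'.to_le inf_le_left
  have hTM : T ≤ M := fun x hx => mem_pPart hx.2 (isPElt_of_mem hTp hx)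
  obtain ⟨S, hS⟩ := ((hTp.of_equiv (Subgroup.subgroupOfEquivOfLe hTM).symm)).exists_le_sylow
  have hST : (S : Subgroup M) = T.subgroupOf M := by
    refine (Subgroup.eq_of_le_of_card_ge hS ?_).symm
    rw [Nat.card_congr (Subgroup.subgroupOfEquivOfLe hTM).toEquiv,
      ← Subgroup.card_map_of_injective (K := (S : Subgroup M)) M.subtype_injective]
    set U := (S : Subgroup M).map M.subtype with hU
    have hUp : IsPGroup p U := S.isPGroup'.map _
    have hRU : R ≤ U := fun x hx => by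
      have hxT : x ∈ T := ⟨hRP hx, Subgroup.le_normalizer hx⟩
      exact ⟨⟨x, hTM hxT⟩, hS (show (⟨x, hTM hxT⟩ : M) ∈ T.subgroupOf M from hxT), rfl⟩
    have hUN : U ≤ Subgroup.normalizer (R : Set G) := by
      rintro _ ⟨x, -, rfl⟩; exact pPart_le (p := p) _ x.2
    obtain ⟨g, hg⟩ := hconj U hUp
    set R' := R.map (MulAut.conj g).toMonoidHom with hR'
    obtain ⟨δ, hδR, hδF⟩ := hmoved (fixSet (R' : Set G) Ω) (by
      rw [hR', hfixconj]
      refine lt_of_lt_of_le ?_ (Set.ncard_le_ncard (Set.insert_subset hRγ hFR))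
      rw [Set.ncard_insert_of_notMem hγF]
      exact Nat.lt_succ_self _)
    have hle : R' ≤ st δ := le_inf ((Subgroup.map_mono hRU).trans hg) hδR
    have hcR : Nat.card R' = Nat.card R :=
      Subgroup.card_map_of_injective (MulAut.conj g).injective
    have heq : R' = st δ := Subgroup.eq_of_le_of_card_ge hle ((hbigst δ hδF).trans_eq hcR.symm)
    rw [← Subgroup.card_map_of_injective (K := U) (f := (MulAut.conj g).toMonoidHom)
      (MulAut.conj g).injective]
    refine (Subgroup.card_le_of_le ?_).trans (hnormmax δ hδF (heq ▸ hcR))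
    rw [← heq]
    refine le_inf hg ?_
    exact (Subgroup.map_mono hUN).trans (Subgroup.le_normalizer_map _)
  -- a fixed point moved by `M`
  obtain ⟨α, hαF, hαM⟩ : ∃ α ∈ F, ∃ x ∈ M, x • α ≠ α := by
    by_contra hall
    push Not at hall
    obtain ⟨b, hb⟩ := (Set.ncard_pos).1 hf
    obtain ⟨r, hr⟩ := exists_smul_eq G b γ
    have hrP : ((r • P : Sylow p G) : Subgroup G) ≤ stabilizer G γ := by
      rw [Sylow.coe_subgroup_smul]
      rintro _ ⟨x, hx, rfl⟩
      show (r * x * r⁻¹) • γ = γ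
      rw [← hr, ← mul_smul, inv_mul_cancel_right, mul_smul, hb x hx]
    obtain ⟨Q, hQ⟩ := (((P.isPGroup'.to_le hRP).of_equiv
      (Subgroup.subgroupOfEquivOfLe (K := stabilizer G γ) hRγ).symm)).exists_le_sylow
    set Qg := (Q : Subgroup (stabilizer G γ)).map (stabilizer G γ).subtype with hQg
    have hQgp : IsPGroup p Qg := Q.isPGroup'.map _
    have hRQ : R ≤ Qg := fun x hx =>
      ⟨⟨x, hRγ x hx⟩, hQ (show (⟨x, hRγ x hx⟩ : stabilizer G γ) ∈
        R.subgroupOf (stabilizer G γ) from hx), rfl⟩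
    have hQcard : Nat.card Qg = Nat.card (P : Subgroup G) := by
      rw [hQg, Subgroup.card_map_of_injective (stabilizer G γ).subtype_injective,
        show Nat.card (Q : Subgroup (stabilizer G γ)) =
          Nat.card (((r • P).subtype hrP : Sylow p _) : Subgroup (stabilizer G γ)) by
            rw [Q.card_eq_multiplicity, Sylow.card_eq_multiplicity],
        Sylow.coe_subtype, Nat.card_congr (Subgroup.subgroupOfEquivOfLe hrP).toEquiv,
        (r • P).card_eq_multiplicity, P.card_eq_multiplicity]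
    have hRQ' : R.subgroupOf Qg ≠ ⊤ := by
      rw [ne_eq, Subgroup.subgroupOf_eq_top]
      intro hle
      have h1 : R = (P : Subgroup G) := Subgroup.eq_of_le_of_card_ge hRP
        (hQcard ▸ Subgroup.card_le_of_le hle)
      exact hγF fun x hx => hRγ x (h1.symm ▸ hx)
    haveI := hQgp.isNilpotent
    have hlt := Group.normalizerCondition_of_isNilpotent (R.subgroupOf Qg) (lt_top_iff_ne_top.2 hRQ')
    set U := Qg ⊓ Subgroup.normalizer (R : Set G) with hU
    have hRU : R < U := by
      obtain ⟨y, hy, hyR⟩ := SetLike.exists_of_lt hlt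
      have hyU : (y : G) ∈ U := by
        refine ⟨y.2, Subgroup.mem_normalizer_fintype fun z hz => ?_⟩
        exact (Subgroup.mem_normalizer_iff.1 hy ⟨z, hRQ hz⟩).1 hz
      exact SetLike.lt_iff_le_and_exists.2
        ⟨le_inf hRQ Subgroup.le_normalizer, (y : G), hyU, hyR⟩
    have hUp : IsPGroup p U := hQgp.to_le inf_le_left
    obtain ⟨g, hg⟩ := hconj U hUp
    obtain ⟨δ, hδU, hδF⟩ := hmoved
      (fixSet ((U.map (MulAut.conj g).toMonoidHom : Subgroup G) : Set G) Ω) (by
        rw [hfixconj]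
        refine lt_of_lt_of_le ?_ (Set.ncard_le_ncard (show insert γ F ⊆ fixSet (U : Set G) Ω from
          Set.insert_subset (fun x hx => by
            obtain ⟨z, -, rfl⟩ := (hx : x ∈ U).1
            exact z.2) fun c hc x hx => hall c hc x (mem_pPart hx.2 (isPElt_of_mem hUp hx))))
        rw [Set.ncard_insert_of_notMem hγF]
        exact Nat.lt_succ_self _)
    have h1 : Nat.card U ≤ Nat.card R :=
      (Subgroup.card_map_of_injective (K := U) (f := (MulAut.conj g).toMonoidHom)
        (MulAut.conj g).injective).symm.trans_le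
        ((Subgroup.card_le_of_le (le_inf hg hδU)).trans (hbigst δ hδF))
    exact hRU.ne (Subgroup.eq_of_le_of_card_ge hRU.le h1)
  -- the inequality for one `R`
  set A : Set Ω := {c | c ∈ F ∧ ∃ x ∈ M, x • c ≠ c} with hA
  set D : Set Ω := {c | c ∉ F ∧ st c = R} with hD
  have hAD : (p : ℤ) * A.ncard ≤ ((p : ℤ) - 1) * D.ncard := by
    have := Fintype.ofFinite (orbitRel.Quotient M Ω)
    rw [ncard_eq_sum_orbits (G := M) A, ncard_eq_sum_orbits (G := M) D, Nat.cast_sum, Nat.cast_sum,
      Finset.mul_sum, Finset.mul_sum]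
    refine Finset.sum_le_sum fun q _ => ?_
    by_cases hex' : ∃ c : q.orbit, (c : Ω) ∈ A
    swap
    · push Not at hex'
      rw [show {c : q.orbit | (c : Ω) ∈ A} = ∅ from Set.eq_empty_of_forall_notMem hex',
        Set.ncard_empty, Nat.cast_zero, mul_zero]
      exact mul_nonneg (by have := hp.out.two_le; omega) (Int.natCast_nonneg _)
    obtain ⟨⟨c, hcq⟩, hcF, x, hx, hxc⟩ := hex'
    have hqR : q.orbit ⊆ fixSet (R : Set G) Ω := by
      intro d hd
      obtain ⟨y, hy⟩ := exists_smul_eq M (⟨c, hcq⟩ : q.orbit) ⟨d, hd⟩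
      have h1 : (y : G) • c = d := congrArg Subtype.val hy
      rw [← h1]
      exact hMinv _ y.2 c (hFR hcF)
    have hlt' : Nat.card q.orbit < n := by
      rw [← hn, Nat.card_coe_set_eq, ← Set.ncard_univ Ω]
      exact Set.ncard_lt_ncard (Set.ssubset_univ_iff.2 fun he => hRall
        (Set.eq_univ_of_univ_subset (he.symm.subset.trans hqR)))
    have hbig : 1 < Nat.card q.orbit := by
      rw [Finite.one_lt_card_iff_nontrivial]
      refine ⟨(⟨x, hx⟩ : M) • ⟨c, hcq⟩, ⟨c, hcq⟩, fun he => hxc ?_⟩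
      exact congrArg Subtype.val he
    have hnn := IH (Nat.card q.orbit) hlt' M q.orbit rfl hbig (isPGen_pPart _) S
    set W := fixSet ((S : Subgroup M) : Set M) q.orbit with hW
    have hAW : {c : q.orbit | (c : Ω) ∈ A} ⊆ W := by
      intro d hd y hy
      rw [SetLike.mem_coe, hST] at hy
      exact Subtype.ext (hd.1 (y : G) hy.1)
    have hWD : Wᶜ ⊆ {c : q.orbit | (c : Ω) ∈ D} := by
      intro d hd
      have hdF : (d : Ω) ∉ F := fun hm => hd fun y hy => by
        rw [SetLike.mem_coe, hST] at hy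
        exact Subtype.ext (hm (y : G) hy.1)
      exact ⟨hdF, hstR _ hdF (hqR d.2)⟩
    have h1 : ({c : q.orbit | (c : Ω) ∈ A}.ncard : ℤ) ≤ fn (S : Subgroup M) q.orbit := by
      exact_mod_cast Set.ncard_le_ncard hAW
    have h2 : ((p : ℤ) * kn p (S : Subgroup M) q.orbit) ≤ {c : q.orbit | (c : Ω) ∈ D}.ncard := by
      have h3 := Set.ncard_le_ncard hWD
      have h4 := Set.ncard_add_ncard_compl W
      have h5 := card_eq (Ω := q.orbit) S.isPGroup'
      change fn (S : Subgroup M) q.orbit + _ = _ at h4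
      have h6 : ((p * kn p (S : Subgroup M) q.orbit : ℕ) : ℤ) ≤
          ({c : q.orbit | (c : Ω) ∈ D}.ncard : ℕ) := by
        exact_mod_cast (show p * kn p (S : Subgroup M) q.orbit ≤ _ by omega)
      push_cast at h6
      exact h6
    rw [dd] at hnn
    calc (p : ℤ) * ({c : q.orbit | (c : Ω) ∈ A}.ncard : ℕ)
        ≤ (p : ℤ) * (((p : ℤ) - 1) * kn p (S : Subgroup M) q.orbit) :=
          mul_le_mul_of_nonneg_left (by omega) (Int.natCast_nonneg p)
      _ = ((p : ℤ) - 1) * ((p : ℤ) * kn p (S : Subgroup M) q.orbit) := by ring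
      _ ≤ _ := mul_le_mul_of_nonneg_left h2 (by have := hp.out.two_le; omega)
  -- the normaliser of `P` moves `A` around
  set Nr := Subgroup.normalizer ((P : Subgroup G) : Set G) with hNr
  have hstconj : ∀ g ∈ Nr, ∀ c, st (g • c) = (st c).map (MulAut.conj g).toMonoidHom := by
    intro g hg c
    ext x
    constructor
    · rintro ⟨hxP, hxc⟩
      refine ⟨g⁻¹ * x * g, ⟨?_, ?_⟩, by simp [mul_assoc]⟩
      · have := (Subgroup.mem_normalizer_iff.1 (inv_mem hg) x).1 hxP
        rw [inv_inv] at this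
        exact this
      · show (g⁻¹ * x * g) • c = c
        rw [mul_smul, mul_smul, show x • g • c = g • c from hxc, inv_smul_smul]
    · rintro ⟨y, ⟨hyP, hyc⟩, rfl⟩
      refine ⟨(Subgroup.mem_normalizer_iff.1 hg y).1 hyP, ?_⟩
      show (g * y * g⁻¹) • g • c = g • c
      rw [← mul_smul, inv_mul_cancel_right, mul_smul, show y • c = c from hyc]
  have hFinv : ∀ g ∈ Nr, ∀ c ∈ F, g • c ∈ F := by
    intro g hg c hc z hz
    have h1 : g⁻¹ * z * g ∈ (P : Subgroup G) := by
      have := (Subgroup.mem_normalizer_iff.1 (inv_mem hg) z).1 hz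
      simpa using this
    rw [show z • g • c = g • (g⁻¹ * z * g) • c by simp [← mul_smul, mul_assoc], hc _ h1]
  set 𝒮 : Set (Subgroup G) := (fun g => R.map (MulAut.conj g).toMonoidHom) '' (Nr : Set G) with h𝒮
  have hchoose : ∀ R' ∈ 𝒮, ∃ g ∈ Nr, R.map (MulAut.conj g).toMonoidHom = R' := fun R' h => h
  choose gf hgf using hchoose
  have := Fintype.ofFinite (Subgroup G)
  let AS : ↥𝒮 → Finset Ω := fun R' => ((fun c => gf R' R'.2 • c) '' A).toFinset
  let DS : ↥𝒮 → Finset Ω := fun R' => ((fun c => gf R' R'.2 • c) '' D).toFinset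
  have hAScard : ∀ R', (AS R').card = A.ncard := fun R' => by
    rw [← Set.ncard_eq_toFinset_card', Set.ncard_image_of_injective _ (MulAction.injective _)]
  have hDScard : ∀ R', (DS R').card = D.ncard := fun R' => by
    rw [← Set.ncard_eq_toFinset_card', Set.ncard_image_of_injective _ (MulAction.injective _)]
  have := Fintype.ofFinite ↥𝒮
  have hcover : F.toFinset ⊆ Finset.univ.biUnion AS := by
    intro c hc
    rw [Set.mem_toFinset] at hc
    obtain ⟨g, hg, hgc⟩ := exists_normalizer_smul_eq P hαF hc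
    have hR'mem : R.map (MulAut.conj g).toMonoidHom ∈ 𝒮 := ⟨g, hg, rfl⟩
    obtain ⟨hsN, hsR⟩ := hgf _ hR'mem
    set s := gf _ hR'mem
    refine Finset.mem_biUnion.2 ⟨⟨_, hR'mem⟩, Finset.mem_univ _, Set.mem_toFinset.2
      ⟨s⁻¹ • c, ⟨hFinv _ (inv_mem hsN) c hc, ?_⟩, smul_inv_smul s c⟩⟩
    obtain ⟨x, hx, hxα⟩ := hαM
    set h := s⁻¹ * g
    have hh : ∀ r ∈ R, h * r * h⁻¹ ∈ R := by
      intro r hr
      have h1 : g * r * g⁻¹ ∈ R.map (MulAut.conj s).toMonoidHom := hsR.symm ▸ ⟨r, hr, rfl⟩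
      obtain ⟨r', hr', hrr⟩ := h1
      have h2 : s * r' * s⁻¹ = g * r * g⁻¹ := hrr
      rw [show h * r * h⁻¹ = s⁻¹ * (g * r * g⁻¹) * s by simp [h, mul_assoc], ← h2,
        show s⁻¹ * (s * r' * s⁻¹) * s = r' by simp [mul_assoc]]
      exact hr'
    have hhN : h ∈ Subgroup.normalizer (R : Set G) := Subgroup.mem_normalizer_fintype hh
    refine ⟨h * x * h⁻¹, pPart_conj_mem (fun w hw => mul_mem (mul_mem hhN hw) (inv_mem hhN)) hx,
      fun he => hxα ?_⟩
    rw [← hgc, show s⁻¹ • g • α = h • α from (mul_smul _ _ _).symm, mul_smul, mul_smul,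
      inv_smul_smul] at he
    exact MulAction.injective h he
  have hdisj : ((Finset.univ : Finset ↥𝒮) : Set ↥𝒮).PairwiseDisjoint DS := by
    intro R₁ _ R₂ _ hne
    rw [Function.onFun, Finset.disjoint_left]
    intro c h1 h2
    rw [Set.mem_toFinset] at h1 h2
    obtain ⟨d₁, hd₁, rfl⟩ := h1
    obtain ⟨d₂, hd₂, he⟩ := h2
    apply hne
    apply Subtype.ext
    rw [← (hgf _ R₁.2).2, ← (hgf _ R₂.2).2, ← hd₁.2, ← hstconj _ (hgf _ R₁.2).1,
      hd₁.2, ← hd₂.2, ← hstconj _ (hgf _ R₂.2).1]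
    exact congrArg st he.symm
  have hsubD : Finset.univ.biUnion DS ⊆ Fᶜ.toFinset := by
    intro c hc
    obtain ⟨R', -, hc⟩ := Finset.mem_biUnion.1 hc
    rw [Set.mem_toFinset] at hc ⊢
    obtain ⟨d, hd, rfl⟩ := hc
    intro hm
    apply hd.1
    have := hFinv _ (inv_mem (hgf _ R'.2).1) _ hm
    rwa [inv_smul_smul] at this
  have hA' : fn (P : Subgroup G) Ω ≤ Fintype.card ↥𝒮 * A.ncard := by
    rw [fn, ← hF, Set.ncard_eq_toFinset_card']
    refine (Finset.card_le_card hcover).trans (Finset.card_biUnion_le.trans_eq ?_)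
    rw [Finset.sum_congr rfl (fun R' _ => hAScard R'), Finset.sum_const, smul_eq_mul,
      Finset.card_univ]
  have hD' : Fintype.card ↥𝒮 * D.ncard ≤ p * kn p (P : Subgroup G) Ω := by
    have h3 := Set.ncard_add_ncard_compl F
    have h5 := card_eq (Ω := Ω) P.isPGroup'
    change fn (P : Subgroup G) Ω + _ = _ at h3
    rw [show p * kn p (P : Subgroup G) Ω = Fᶜ.ncard by omega, Set.ncard_eq_toFinset_card' Fᶜ]
    refine le_trans ?_ (Finset.card_le_card hsubD)
    rw [Finset.card_biUnion hdisj, Finset.sum_congr rfl (fun R' _ => hDScard R'), Finset.sum_const,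
      smul_eq_mul, Finset.card_univ]
  have hA'' : (fn (P : Subgroup G) Ω : ℤ) ≤ (Fintype.card ↥𝒮 : ℤ) * A.ncard := by exact_mod_cast hA'
  have hD'' : (Fintype.card ↥𝒮 : ℤ) * D.ncard ≤ (p : ℤ) * kn p (P : Subgroup G) Ω := by
    exact_mod_cast hD'
  have hp1 : (0 : ℤ) ≤ (p : ℤ) - 1 := by have := hp.out.two_le; omega
  rw [dd, sub_nonneg]
  refine le_of_mul_le_mul_left ?_ (show (0 : ℤ) < p by exact_mod_cast hp.out.pos)
  calc (p : ℤ) * fn (P : Subgroup G) Ω ≤ (p : ℤ) * ((Fintype.card ↥𝒮 : ℤ) * A.ncard) :=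
        mul_le_mul_of_nonneg_left hA'' (Int.natCast_nonneg p)
    _ = (Fintype.card ↥𝒮 : ℤ) * ((p : ℤ) * A.ncard) := by ring
    _ ≤ (Fintype.card ↥𝒮 : ℤ) * (((p : ℤ) - 1) * D.ncard) :=
        mul_le_mul_of_nonneg_left hAD (Int.natCast_nonneg _)
    _ = ((p : ℤ) - 1) * ((Fintype.card ↥𝒮 : ℤ) * D.ncard) := by ring
    _ ≤ ((p : ℤ) - 1) * ((p : ℤ) * kn p (P : Subgroup G) Ω) :=
        mul_le_mul_of_nonneg_left hD'' hp1
    _ = _ := by ring

/-- The bound in every degree. -/
theorem boundAt : ∀ n, BoundAt.{u} p n := by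
  intro n
  induction n using Nat.strong_induction_on with
  | _ n IH =>
    intro G Ω _ _ _ _ _ hn h1 hgen P
    have hp2 := hp.out.two_le
    rcases Nat.eq_zero_or_pos (fn (P : Subgroup G) Ω) with h0 | hf
    · rw [dd, h0]
      have := mul_nonneg (show (0 : ℤ) ≤ (p : ℤ) - 1 by omega)
        (Int.natCast_nonneg (kn p (P : Subgroup G) Ω))
      omega
    haveI : Nontrivial Ω := Finite.one_lt_card_iff_nontrivial.1 (by omega)
    obtain ⟨β⟩ : Nonempty Ω := inferInstance
    by_cases hprim : IsPreprimitive G Ω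
    swap
    · have hns : ¬ IsCoatom (stabilizer G β) :=
        fun h => hprim ((isCoatom_stabilizer_iff_preprimitive G β).1 h)
      have hst : stabilizer G β ≠ ⊤ := fun he => by
        have h2 := index_stabilizer_of_transitive G β
        rw [he, Subgroup.index_top] at h2
        omega
      obtain ⟨M, hlt, hMt⟩ : ∃ M, stabilizer G β < M ∧ M ≠ ⊤ := by
        by_contra hno
        push Not at hno
        exact hns ⟨hst, hno⟩
      obtain ⟨b, e, -, -, -, -, -, hdM, -⟩ := tower_stats hlt.le P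
      have hidx : M.index < Nat.card Ω := by
        rw [← index_stabilizer_of_transitive G β]
        exact Subgroup.index_strictAnti hlt
      have hnn := IH M.index (hn ▸ hidx) G (G ⧸ M) rfl (one_lt_index hMt) hgen P
      rw [hdM]
      exact add_nonneg (mul_nonneg (Int.natCast_nonneg b) hnn)
        (mul_nonneg (by omega) (Int.natCast_nonneg e))
    haveI := hprim
    -- pass to the faithful image
    set X := (toPermHom G Ω).range
    set φ := (toPermHom G Ω).rangeRestrict
    have hφ : Function.Surjective φ := (toPermHom G Ω).rangeRestrict_surjective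
    let f : Ω →ₑ[φ] Ω := ⟨id, fun _ _ => rfl⟩
    haveI hprimX : IsPreprimitive X Ω := IsPreprimitive.of_surjective (f := f) Function.surjective_id
    set P' : Sylow p X := P.mapSurjective hφ
    have hfix : fixSet ((P' : Subgroup X) : Set X) Ω = fixSet ((P : Subgroup G) : Set G) Ω := by
      ext c
      constructor
      · intro hc x hx; exact hc (φ x) ⟨x, hx, rfl⟩
      · rintro hc _ ⟨x, hx, rfl⟩; exact hc x hx
    have hfn : fn (P' : Subgroup X) Ω = fn (P : Subgroup G) Ω := by rw [fn, fn, hfix]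
    have hdd : dd p (P' : Subgroup X) Ω = dd p (P : Subgroup G) Ω := by
      rw [dd, dd, kn, kn, hfn]
    rw [← hdd]
    have hgenX : IsPGen p X := hgen.of_surjective φ hφ
    by_cases hex : ∃ c, c ∉ fixSet ((P' : Subgroup X) : Set X) Ω ∧
        (P' : Subgroup X) ⊓ stabilizer X c ≠ ⊥
    · exact dd_nonneg_stab IH hn P' (by omega) hex
    push Not at hex
    have hsemi : ∀ x ∈ (P' : Subgroup X), ∀ c, c ∉ fixSet ((P' : Subgroup X) : Set X) Ω →
        x • c = c → x = 1 := fun x hx c hc hxc =>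
      (Subgroup.eq_bot_iff_forall _).1 (hex c hc) x ⟨hx, hxc⟩
    by_cases hsq : p ^ 2 ∣ Nat.card (P' : Subgroup X)
    · exact dd_nonneg_semiregular IH hn h1 hgenX P' hsq hsemi
    have hord : Nat.card (P' : Subgroup X) = p := by
      obtain ⟨j, hj⟩ := P'.isPGroup'.exists_card_eq
      rcases Nat.lt_or_ge j 2 with hj2 | hj2
      · rcases (show j = 0 ∨ j = 1 by omega) with rfl | rfl
        · obtain ⟨x, hx, c, hc⟩ := exists_moved (Ω := Ω) hgenX (by omega) P'
          rw [pow_zero, Subgroup.card_eq_one] at hj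
          rw [hj, Subgroup.mem_bot] at hx
          exact absurd (by rw [hx, one_smul]) hc
        · rw [hj, pow_one]
      · exact absurd (hj ▸ pow_dvd_pow p hj2) hsq
    rcases eq_or_ne p 2 with rfl | hodd
    · exact dd_nonneg_two (by omega) hgenX P' hord
    · refine (mainAt hodd n).nonneg hn h1 hgenX (fun hd => ?_) P'
      have h2 := (hp.out.pow_dvd_iff_le_factorization Nat.card_pos.ne').1 hd
      have h3 := P'.card_eq_multiplicity
      rw [hord] at h3
      have := Nat.pow_le_pow_right hp.out.pos h2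
      rw [← h3] at this
      nlinarith

end CfsgLib.Perm.SylowFix
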