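import Cfsg.Agent.Lib.Coprime.Action
import Cfsg.Agent.Lib.Coprime.Sylow
import Mathlib

/-!
Fixed points of a coprime operator group in a transitive action.
-/

set_option autoImplicit false
set_option linter.unusedSectionVars false
set_option linter.style.haveILetI false

namespace CfsgLib.Perm.SylowFix

open MulAction Subgroup CfsgLib.Coprime Pointwise

variable {G : Type*} [Group G] [Finite G] {Ω : Type*} [MulAction G Ω] [Finite Ω]
  {A R : Subgroup G}

/-- The centraliser in `R` is transitive on the fixed points. -/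
theorem exists_centralizer_smul (hAR : A ≤ normalizer (R : Set G))
    (hcop : (Nat.card A).Coprime (Nat.card R)) (hA : Group.IsSolvable A)
    (htrans : ∀ a b : Ω, ∃ r ∈ R, r • a = b) {a b : Ω} (ha : ∀ y ∈ A, y • a = a)
    (hb : ∀ y ∈ A, y • b = b) : ∃ c ∈ R ⊓ centralizer (A : Set G), c • a = b := by
  obtain ⟨r, hr, rfl⟩ := htrans a b
  set N := R ⊓ stabilizer G (r • a)
  have hAs : A ≤ stabilizer G (r • a) := fun y hy => hb y hy
  have hAN : A ≤ normalizer (N : Set G) :=
    (le_inf hAR (hAs.trans le_normalizer)).trans inf_normalizer_le_normalizer_inf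
  obtain ⟨n, hn, hnc⟩ := exists_mul_mem_centralizer (k := r) hAN
    (coprime_of_le hcop le_rfl inf_le_left) (Or.inl hA) fun y hy => by
      refine mem_inf.2 ⟨?_, ?_⟩
      · rw [commutatorElement_def]
        exact mul_mem ((mem_normalizer_iff.1 (hAR hy) r).1 hr) (inv_mem hr)
      · show (y * r * y⁻¹ * r⁻¹) • r • a = r • a
        rw [← mul_smul, inv_mul_cancel_right, mul_smul, mul_smul,
          inv_smul_eq_iff.2 (ha y hy).symm, hb y hy]
  refine ⟨n * r, mem_inf.2 ⟨mul_mem (mem_inf.1 hn).1 hr, hnc⟩, ?_⟩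
  rw [mul_smul]
  exact (mem_inf.1 hn).2

/-- The fixed points form one orbit of the centraliser. -/
theorem fixed_eq_orbit (hAR : A ≤ normalizer (R : Set G))
    (hcop : (Nat.card A).Coprime (Nat.card R)) (hA : Group.IsSolvable A)
    (htrans : ∀ a b : Ω, ∃ r ∈ R, r • a = b) {a : Ω} (ha : ∀ y ∈ A, y • a = a) :
    {b : Ω | ∀ y ∈ A, y • b = b} = orbit (R ⊓ centralizer (A : Set G) : Subgroup G) a := by
  ext b
  constructor
  · intro hb
    obtain ⟨c, hc, rfl⟩ := exists_centralizer_smul hAR hcop hA htrans ha hb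
    exact ⟨⟨c, hc⟩, rfl⟩
  · rintro ⟨⟨c, hc⟩, rfl⟩ y hy
    show y • c • a = c • a
    rw [← mul_smul, mem_centralizer_iff.1 (mem_inf.1 hc).2 y hy, mul_smul, ha y hy]

theorem ncard_fixed_dvd_card (hAR : A ≤ normalizer (R : Set G))
    (hcop : (Nat.card A).Coprime (Nat.card R)) (hA : Group.IsSolvable A)
    (htrans : ∀ a b : Ω, ∃ r ∈ R, r • a = b) {a : Ω} (ha : ∀ y ∈ A, y • a = a) :
    ({b : Ω | ∀ y ∈ A, y • b = b}).ncard ∣ Nat.card R := by
  rw [fixed_eq_orbit hAR hcop hA htrans ha, ← index_stabilizer]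
  exact (Subgroup.index_dvd_card _).trans (card_dvd_of_le inf_le_left)

/-- The number of fixed points divides the degree. -/
theorem ncard_fixed_dvd_degree (hAR : A ≤ normalizer (R : Set G))
    (hcop : (Nat.card A).Coprime (Nat.card R)) (hA : Group.IsSolvable A)
    (htrans : ∀ a b : Ω, ∃ r ∈ R, r • a = b) {a : Ω} (ha : ∀ y ∈ A, y • a = a) :
    ({b : Ω | ∀ y ∈ A, y • b = b}).ncard ∣ Nat.card Ω := by
  set C := R ⊓ centralizer (A : Set G) with hC
  set Ra := R ⊓ stabilizer G a with hRa
  set Ca := C ⊓ stabilizer G a with hCa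
  have hidx : ∀ H : Subgroup G, Nat.card H = Nat.card (orbit H a) * Nat.card ↥(H ⊓ stabilizer G a) := by
    intro H
    rw [Nat.card_coe_set_eq, ← index_stabilizer]
    have h1 : Nat.card (stabilizer H a) = Nat.card ↥(H ⊓ stabilizer G a) := by
      rw [← card_map_subtype (K := H) (stabilizer H a)]
      congr 2
      ext g
      simp [Subgroup.mem_map, Subgroup.smul_def, and_comm]
    rw [← h1, Subgroup.index_mul_card]
  have hRorb : orbit R a = Set.univ := Set.eq_univ_of_forall fun b => by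
    obtain ⟨r, hr, rfl⟩ := htrans a b
    exact ⟨⟨r, hr⟩, rfl⟩
  have hR : Nat.card R = Nat.card Ω * Nat.card Ra := by
    rw [hidx R, hRorb, Nat.card_coe_set_eq, Set.ncard_univ]
  have hCc : Nat.card C = ({b : Ω | ∀ y ∈ A, y • b = b}).ncard * Nat.card Ca := by
    rw [hidx C, fixed_eq_orbit hAR hcop hA htrans ha, Nat.card_coe_set_eq]
  set f := ({b : Ω | ∀ y ∈ A, y • b = b}).ncard
  haveI : Nonempty Ω := ⟨a⟩
  have hf0 : f ≠ 0 := fun h => by
    have := Nat.card_pos (α := C)
    rw [hCc, h, zero_mul] at this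
    omega
  refine (Nat.factorization_prime_le_iff_dvd hf0 Nat.card_pos.ne').1 fun q hq => ?_
  haveI := Fact.mk hq
  have hAs : A ≤ stabilizer G a := fun y hy => ha y hy
  have hARa : A ≤ normalizer (Ra : Set G) :=
    (le_inf hAR (hAs.trans le_normalizer)).trans inf_normalizer_le_normalizer_inf
  have hcopRa := coprime_of_le hcop le_rfl (inf_le_left : Ra ≤ R)
  -- a Sylow subgroup of the centraliser in the stabiliser
  let U : Sylow q Ca := default
  have hU : (U : Subgroup Ca).map Ca.subtype ≤ Ca := map_subtype_le _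
  have hUA : A ≤ normalizer (((U : Subgroup Ca).map Ca.subtype : Subgroup G) : Set G) := by
    refine le_trans (fun y hy => ?_) (centralizer_le_normalizer _)
    exact mem_centralizer_iff.2 fun u hu =>
      ((mem_centralizer_iff.1 (mem_inf.1 (mem_inf.1 (hU hu)).1).2) y hy).symm
  obtain ⟨S₁, hUS₁, hS₁A⟩ := exists_le_invariant_sylow hARa hcopRa (Or.inl hA)
    (hU.trans (inf_le_inf_right _ inf_le_left)) (U.isPGroup'.map _) hUA
  set T₁ := (S₁ : Subgroup Ra).map Ra.subtype
  have hT₁ : T₁ ≤ Ra := map_subtype_le _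
  obtain ⟨S, hTS, hSA⟩ := exists_le_invariant_sylow hAR hcop (Or.inl hA)
    (hT₁.trans inf_le_left) (S₁.isPGroup'.map _) hS₁A
  set T := (S : Subgroup R).map R.subtype
  -- its centraliser part is a Sylow subgroup of the centraliser
  let W : Sylow q C := default
  have hW : (W : Subgroup C).map C.subtype ≤ C := map_subtype_le _
  have hWA : A ≤ normalizer (((W : Subgroup C).map C.subtype : Subgroup G) : Set G) := by
    refine le_trans (fun y hy => ?_) (centralizer_le_normalizer _)
    exact mem_centralizer_iff.2 fun u hu =>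
      ((mem_centralizer_iff.1 (mem_inf.1 (hW hu)).2) y hy).symm
  obtain ⟨S', hWS', hS'A⟩ := exists_le_invariant_sylow hAR hcop (Or.inl hA)
    (hW.trans inf_le_left) (W.isPGroup'.map _) hWA
  obtain ⟨c, hc, hcS⟩ := exists_centralizer_conj_sylow hAR hcop (Or.inl hA) S' S hS'A hSA
  have hTC : q ^ (Nat.card C).factorization q ≤ Nat.card ↥(T ⊓ C) := by
    rw [← W.card_eq_multiplicity, ← card_map_subtype (K := C) (W : Subgroup C),
      ← card_conj_map ((W : Subgroup C).map C.subtype) (c : G)]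
    refine card_le_of_le (le_inf ?_ ?_)
    · show _ ≤ (S : Subgroup R).map R.subtype
      rw [← hcS, map_smul_sylow]
      exact map_mono hWS'
    · rintro _ ⟨w, hw, rfl⟩
      exact mul_mem (mul_mem (mem_inf.2 ⟨c.2, hc⟩) (hW hw)) (inv_mem (mem_inf.2 ⟨c.2, hc⟩))
  have hT₁C : Nat.card ↥(T₁ ⊓ (T ⊓ C)) ≤ q ^ (Nat.card Ca).factorization q := by
    set V := T₁ ⊓ (T ⊓ C)
    have hVp : IsPGroup q V := (S₁.isPGroup'.map _).to_le inf_le_left
    have hVC : V ≤ Ca :=
      le_inf (inf_le_right.trans inf_le_right) ((inf_le_left.trans hT₁).trans inf_le_right)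
    obtain ⟨e, he⟩ := hVp.exists_card_eq
    rw [he]
    exact Nat.pow_le_pow_right hq.pos ((hq.pow_dvd_iff_le_factorization Nat.card_pos.ne').1
      (he ▸ card_dvd_of_le hVC))
  have hrel : T₁.relIndex (T ⊓ C) ≤ T₁.relIndex T :=
    relIndex_le_of_le_right inf_le_left Subgroup.index_ne_zero_of_finite
  have hmul : ∀ H K : Subgroup G, Nat.card ↥(H ⊓ K) * H.relIndex K = Nat.card K := by
    intro H K
    rw [← Subgroup.inf_relIndex_right H K,
      ← Nat.card_congr (subgroupOfEquivOfLe (inf_le_right : H ⊓ K ≤ K)).toEquiv]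
    exact Subgroup.card_mul_index _
  have h1 := hmul T₁ (T ⊓ C)
  have h2 := hmul T₁ T
  rw [inf_eq_left.2 hTS] at h2
  have hT₁card : Nat.card T₁ = q ^ (Nat.card Ra).factorization q := by
    rw [card_map_subtype, S₁.card_eq_multiplicity]
  have hTcard : Nat.card T = q ^ (Nat.card R).factorization q := by
    rw [card_map_subtype, S.card_eq_multiplicity]
  rw [hT₁card, hTcard] at h2
  have hkey : q ^ (Nat.card C).factorization q * q ^ (Nat.card Ra).factorization q ≤
      q ^ (Nat.card R).factorization q * q ^ (Nat.card Ca).factorization q := by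
    calc _ ≤ Nat.card ↥(T ⊓ C) * q ^ (Nat.card Ra).factorization q :=
          Nat.mul_le_mul_right _ hTC
      _ = Nat.card ↥(T₁ ⊓ (T ⊓ C)) * (T₁.relIndex (T ⊓ C) * q ^ (Nat.card Ra).factorization q) := by
          rw [← h1, mul_assoc]
      _ ≤ q ^ (Nat.card Ca).factorization q * (T₁.relIndex T * q ^ (Nat.card Ra).factorization q) :=
          Nat.mul_le_mul hT₁C (Nat.mul_le_mul_right _ hrel)
      _ = _ := by rw [mul_comm (T₁.relIndex T), h2, mul_comm]
  rw [← pow_add, ← pow_add, Nat.pow_le_pow_iff_right hq.one_lt, hR, hCc,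
    Nat.factorization_mul hf0 Nat.card_pos.ne', Nat.factorization_mul Nat.card_pos.ne'
      Nat.card_pos.ne', Finsupp.add_apply, Finsupp.add_apply] at hkey
  omega

end CfsgLib.Perm.SylowFix
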