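import Cfsg.Agent.Lib.Perm.SylowFix.Basic

/-!
Towers and fibred actions.
-/

set_option autoImplicit false
set_option linter.unusedSectionVars false

namespace CfsgLib.Perm.SylowFix

open MulAction Pointwise

variable {G : Type*} [Group G] [Finite G] {Ω : Type*} [MulAction G Ω] [Finite Ω] {p : ℕ}
  [hp : Fact p.Prime]

omit [Finite G] [Finite Ω] hp in
theorem stabilizer_mk (M : Subgroup G) :
    stabilizer G ((1 : G) : G ⧸ M) = M := MulAction.stabilizer_quotient M

omit hp in
/-- The natural map to the cosets of an overgroup of a point stabiliser. -/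
theorem exists_tower [IsPretransitive G Ω] {β : Ω} {M : Subgroup G}
    (hM : stabilizer G β ≤ M) :
    ∃ (π : Ω → G ⧸ M) (b : ℕ), (∀ (g : G) (y : Ω), π (g • y) = g • π y) ∧ π β = (1 : G) ∧
      0 < b ∧ Nat.card Ω = b * M.index ∧ (∀ q, ({y : Ω | π y = q}).ncard = b) ∧
      ∀ S : Set (G ⧸ M), (π ⁻¹' S).ncard = b * S.ncard := by
  classical
  choose c hc using fun y : Ω => exists_smul_eq G β y
  have hkey : ∀ g h : G, g • β = h • β → (g : G ⧸ M) = h := fun g h e => by
    refine QuotientGroup.eq.2 (hM ?_)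
    rw [mem_stabilizer_iff, mul_smul, ← e, inv_smul_smul]
  set π : Ω → G ⧸ M := fun y => ((c y : G) : G ⧸ M) with hπ
  have heq : ∀ (g : G) (y : Ω), π (g • y) = g • π y := by
    intro g y
    exact hkey _ (g * c y) (by rw [hc, mul_smul, hc])
  have hβ : π β = (1 : G) := hkey _ _ (by rw [hc, one_smul])
  have hfib : ∀ q q', ({y : Ω | π y = q}).ncard = ({y : Ω | π y = q'}).ncard := by
    intro q q'
    obtain ⟨g, hg⟩ := exists_smul_eq G q q'
    rw [← Set.ncard_image_of_injective _ (MulAction.injective (β := Ω) g)]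
    congr 1
    ext y
    simp only [Set.mem_image, Set.mem_ofPred_eq]
    constructor
    · rintro ⟨z, hz, rfl⟩
      rw [heq, hz, hg]
    · intro hy
      exact ⟨g⁻¹ • y, by rw [heq, hy, ← hg, inv_smul_smul], smul_inv_smul g y⟩
  set b := ({y : Ω | π y = ((1 : G) : G ⧸ M)}).ncard
  have hfb : ∀ q, ({y : Ω | π y = q}).ncard = b := fun q => hfib q _
  have hsum : ∀ S : Set (G ⧸ M), (π ⁻¹' S).ncard = b * S.ncard := by
    intro S
    have := Fintype.ofFinite Ω
    have := Fintype.ofFinite (G ⧸ M)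
    rw [Set.ncard_eq_toFinset_card' S, Set.ncard_eq_toFinset_card' (π ⁻¹' S),
      Finset.card_eq_sum_card_fiberwise (f := π)
      (t := S.toFinset) (fun a ha => by simpa using ha),
      Finset.sum_congr rfl (fun r hr => show _ = b from ?_), Finset.sum_const, smul_eq_mul,
      mul_comm]
    rw [← hfb r, Set.ncard_eq_toFinset_card']
    congr 1
    ext y
    simp only [Finset.mem_filter, Set.mem_toFinset, Set.mem_preimage, Set.mem_ofPred_eq,
      and_iff_right_iff_imp]
    intro hy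
    rw [hy]
    exact Set.mem_toFinset.1 hr
  refine ⟨π, b, heq, hβ, (Set.ncard_pos).2 ⟨β, hβ⟩, ?_, hfb, hsum⟩
  have := hsum Set.univ
  rwa [Set.preimage_univ, Set.ncard_univ, Set.ncard_univ] at this

/-- Statistics along a tower. -/
theorem tower_stats [IsPretransitive G Ω] {β : Ω} {M : Subgroup G}
    (hM : stabilizer G β ≤ M) (P : Sylow p G) :
    ∃ b e : ℕ, 0 < b ∧ Nat.card Ω = b * M.index ∧
      b * fn (P : Subgroup G) (G ⧸ M) = fn (P : Subgroup G) Ω + p * e ∧
      kn p (P : Subgroup G) Ω = b * kn p (P : Subgroup G) (G ⧸ M) + e ∧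
      (0 < fn (P : Subgroup G) Ω → 0 < fn (P : Subgroup G) (G ⧸ M)) ∧
      dd p (P : Subgroup G) Ω = b * dd p (P : Subgroup G) (G ⧸ M) + (2 * (p : ℤ) - 1) * e ∧
      (e = 0 → 0 < fn (P : Subgroup G) (G ⧸ M) → ∀ x ∈ M, IsPElt p x → x • β = β) := by
  classical
  obtain ⟨π, b, heq, hβ, hb, hn, -, hsum⟩ := exists_tower hM
  have hpre : ∀ Q : Subgroup G, fixSet (Q : Set G) Ω ⊆ π ⁻¹' fixSet (Q : Set G) (G ⧸ M) :=
    fun Q y hy x hx => by rw [← heq, hy x hx]
  have hcardpre : ∀ Q : Subgroup G,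
      (π ⁻¹' fixSet (Q : Set G) (G ⧸ M)).ncard = b * fn Q (G ⧸ M) := fun Q => hsum _
  have hle : fn (P : Subgroup G) Ω ≤ b * fn (P : Subgroup G) (G ⧸ M) :=
    (Set.ncard_le_ncard (hpre _)).trans_eq (hcardpre _)
  have h1 := card_eq (Ω := Ω) P.isPGroup'
  have h2 : M.index = fn (P : Subgroup G) (G ⧸ M) + p * kn p (P : Subgroup G) (G ⧸ M) :=
    card_eq (Ω := G ⧸ M) P.isPGroup'
  rw [hn, h2, mul_add, ← mul_assoc, mul_comm b p, mul_assoc] at h1
  have hke : b * kn p (P : Subgroup G) (G ⧸ M) ≤ kn p (P : Subgroup G) Ω :=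
    Nat.le_of_mul_le_mul_left (by omega) hp.out.pos
  obtain ⟨e, he⟩ := Nat.exists_eq_add_of_le hke
  rw [he, mul_add] at h1
  have hfe : b * fn (P : Subgroup G) (G ⧸ M) = fn (P : Subgroup G) Ω + p * e := by omega
  refine ⟨b, e, hb, hn, hfe, he, fun hf => ?_, ?_, fun he0 hq x hx hpx => ?_⟩
  · rcases Nat.eq_zero_or_pos (fn (P : Subgroup G) (G ⧸ M)) with h | h
    · rw [h, mul_zero] at hle; omega
    · exact h
  · have hfe' : (b : ℤ) * fn (P : Subgroup G) (G ⧸ M) = fn (P : Subgroup G) Ω + p * e := by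
      exact_mod_cast hfe
    simp only [dd, he]
    push_cast
    linear_combination hfe'
  · -- a Sylow subgroup of `M` containing `x` is a Sylow subgroup of `G` fixing the whole fibre
    obtain ⟨k, hk⟩ := hpx
    have hz : IsPGroup p ((Subgroup.zpowers x).subgroupOf M) :=
      (IsPGroup.of_card (n := k) (by rw [Nat.card_zpowers, hk])).of_equiv
        (Subgroup.subgroupOfEquivOfLe (Subgroup.zpowers_le.2 hx)).symm
    obtain ⟨S, hS⟩ := hz.exists_le_sylow
    obtain ⟨q, hq⟩ := (Set.ncard_pos).1 hq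
    obtain ⟨g, hg⟩ := exists_smul_eq G q ((1 : G) : G ⧸ M)
    have hgP : ((g • P : Sylow p G) : Subgroup G) ≤ M := by
      rw [Sylow.coe_subgroup_smul, ← stabilizer_mk M]
      rintro _ ⟨y, hy, rfl⟩
      show (g * y * g⁻¹) • ((1 : G) : G ⧸ M) = _
      rw [← hg, ← mul_smul, inv_mul_cancel_right, mul_smul, hq y hy]
    obtain ⟨h, hh⟩ := MulAction.exists_smul_eq M ((g • P).subtype hgP) S
    rw [Sylow.smul_subtype] at hh
    set Q : Sylow p G := (h : G) • g • P
    have hxQ : x ∈ (Q : Subgroup G) := by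
      have : (⟨x, hx⟩ : M) ∈ (S : Subgroup M) := hS (Subgroup.mem_zpowers x)
      rw [← hh] at this
      exact this
    have hQfix : fn (Q : Subgroup G) Ω = b * fn (Q : Subgroup G) (G ⧸ M) := by
      rw [fn_sylow Q P, fn_sylow (Ω := G ⧸ M) Q P, hfe, he0]; simp
    have heqset := Set.eq_of_subset_of_ncard_le (hpre (Q : Subgroup G))
      (by rw [hcardpre, ← hQfix]; rfl)
    have hβQ : β ∈ π ⁻¹' fixSet ((Q : Subgroup G) : Set G) (G ⧸ M) := by
      intro y hy
      rw [hβ]
      have : y ∈ stabilizer G ((1 : G) : G ⧸ M) := by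
        rw [stabilizer_mk]
        have hle : ((h : G) • g • P : Sylow p G).1 ≤ M := by
          rw [show ((h : G) • g • P : Sylow p G).1 = _ from Sylow.coe_subgroup_smul]
          rintro _ ⟨z, hz, rfl⟩
          exact mul_mem (mul_mem h.2 (hgP hz)) (inv_mem h.2)
        exact hle hy
      exact this
    rw [← heqset] at hβQ
    exact hβQ x hxQ

/-- A fibred action: the point stabiliser lies in a subgroup of index less than `2 p` all of whose
`p`-elements fix the point. -/
def Fibred (p : ℕ) (G : Type*) [Group G] (Ω : Type*) [MulAction G Ω] : Prop :=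
  ∃ (β : Ω) (M : Subgroup G), stabilizer G β ≤ M ∧ M ≠ ⊤ ∧ M.index < 2 * p ∧
    ∀ x ∈ M, IsPElt p x → x • β = β

theorem one_lt_index {M : Subgroup G} (hM : M ≠ ⊤) : 1 < M.index :=
  Subgroup.one_lt_index_of_ne_top hM

/-- In a `p`-generated group a proper subgroup has index at least `p`. -/
theorem le_index (hG : IsPGen p G) (P : Sylow p G) {M : Subgroup G} (hM : M ≠ ⊤) :
    p ≤ M.index := by
  have h1 := card_eq (Ω := G ⧸ M) P.isPGroup'
  have h2 := kn_pos (Ω := G ⧸ M) hG (one_lt_index hM) P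
  have h3 : p * 1 ≤ p * kn p (P : Subgroup G) (G ⧸ M) := Nat.mul_le_mul_left p h2
  show p ≤ Nat.card (G ⧸ M)
  omega

theorem isCoatom_of_index_lt (hG : IsPGen p G) (P : Sylow p G) {M : Subgroup G} (hM : M ≠ ⊤)
    (hidx : M.index < 2 * p) : IsCoatom M := by
  refine ⟨hM, fun M' hlt => ?_⟩
  by_contra hM'
  have h1 := le_index hG P hM'
  have h2 := Subgroup.relIndex_mul_index hlt.le
  have h3 : 2 ≤ M.relIndex M' := by
    have h4 : M.relIndex M' ≠ 1 := fun h => hlt.not_ge (Subgroup.relIndex_eq_one.1 h)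
    have h5 : M.relIndex M' ≠ 0 := fun h => by
      rw [h, zero_mul] at h2
      exact Subgroup.index_ne_zero_of_finite h2.symm
    omega
  have := Nat.mul_le_mul h3 h1
  omega

/-- The numerical shape of a fibred action. -/
theorem fibred_data (hG : IsPGen p G) [IsPretransitive G Ω] (P : Sylow p G)
    (hf : 0 < fn (P : Subgroup G) Ω) {β : Ω} {M : Subgroup G} (hβM : stabilizer G β ≤ M)
    (hM : M ≠ ⊤) (hidx : M.index < 2 * p) (hfix : ∀ x ∈ M, IsPElt p x → x • β = β) :
    ∃ b : ℕ, p < M.index ∧ 0 < b ∧ Nat.card Ω = b * M.index ∧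
      fn (P : Subgroup G) Ω = b * (M.index - p) ∧ kn p (P : Subgroup G) Ω = b ∧
      dd p (P : Subgroup G) Ω = b * (2 * (p : ℤ) - 1 - M.index) := by
  obtain ⟨b, e, hb, hn, hfe, hk, hpos, hdd, -⟩ := tower_stats hβM P
  obtain ⟨π, b', heq, hπβ, hb', hn', -, hsum⟩ := exists_tower hβM
  have hidx0 : 0 < M.index := Nat.pos_of_ne_zero Subgroup.index_ne_zero_of_finite
  obtain rfl : b' = b := Nat.eq_of_mul_eq_mul_right hidx0 (hn'.symm.trans hn)
  have h1 : M.index = fn (P : Subgroup G) (G ⧸ M) + p * kn p (P : Subgroup G) (G ⧸ M) :=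
    card_eq (Ω := G ⧸ M) P.isPGroup'
  have hQ : kn p (P : Subgroup G) (G ⧸ M) = 1 := by
    have h2 := kn_pos (Ω := G ⧸ M) hG (one_lt_index hM) P
    have h3 := hpos hf
    by_contra hne
    have : p * 2 ≤ p * kn p (P : Subgroup G) (G ⧸ M) := Nat.mul_le_mul_left p (by omega)
    omega
  rw [hQ, mul_one] at h1
  have he : e = 0 := by
    have hsub : π ⁻¹' fixSet ((P : Subgroup G) : Set G) (G ⧸ M) ⊆
        fixSet ((P : Subgroup G) : Set G) Ω := by
      intro y hy x hx
      obtain ⟨g, rfl⟩ := exists_smul_eq G β y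
      have hyM : g⁻¹ * x * g ∈ M := by
        rw [← stabilizer_mk M, mem_stabilizer_iff, mul_smul, mul_smul]
        have := hy x hx
        rw [heq, hπβ] at this
        rw [this, inv_smul_smul]
      have hpe : IsPElt p (g⁻¹ * x * g) := by
        have := isPElt_conj g⁻¹ (isPElt_of_mem P.isPGroup' hx)
        rwa [inv_inv] at this
      have := hfix _ hyM hpe
      rw [mul_smul, mul_smul, inv_smul_eq_iff] at this
      exact this
    have h5 : b' * fn (P : Subgroup G) (G ⧸ M) ≤ fn (P : Subgroup G) Ω :=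
      (hsum _).symm.trans_le (Set.ncard_le_ncard hsub)
    have : p * e ≤ p * 0 := by omega
    have := Nat.le_of_mul_le_mul_left this hp.out.pos
    omega
  rw [he] at hfe hk hdd
  refine ⟨b', ?_, hb, hn, ?_, ?_, ?_⟩
  · have := hpos hf; omega
  · rw [show M.index - p = fn (P : Subgroup G) (G ⧸ M) by omega]; omega
  · rw [hk, hQ]; simp
  · rw [hdd]
    simp only [dd, hQ]
    have : (M.index : ℤ) = fn (P : Subgroup G) (G ⧸ M) + p := by exact_mod_cast h1
    rw [this]
    push_cast
    ring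

theorem Fibred.stats (h : Fibred p G Ω) (hG : IsPGen p G) [IsPretransitive G Ω] (P : Sylow p G)
    (hf : 0 < fn (P : Subgroup G) Ω) :
    ∃ m b : ℕ, p < m ∧ m < 2 * p ∧ 0 < b ∧ Nat.card Ω = b * m ∧
      fn (P : Subgroup G) Ω = b * (m - p) ∧ kn p (P : Subgroup G) Ω = b ∧
      dd p (P : Subgroup G) Ω = b * (2 * (p : ℤ) - 1 - m) := by
  obtain ⟨β, M, hβM, hM, hidx, hfix⟩ := h
  obtain ⟨b, h⟩ := fibred_data hG P hf hβM hM hidx hfix
  exact ⟨M.index, b, h.1, hidx, h.2⟩

/-- The points fixed by all `p`-elements of a point stabiliser, in a fibred action. -/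
theorem Fibred.ncard_fixed (h : Fibred p G Ω) (hG : IsPGen p G) [IsPretransitive G Ω]
    (P : Sylow p G) (hf : 0 < fn (P : Subgroup G) Ω) (γ : Ω) :
    ({δ : Ω | ∀ x ∈ stabilizer G γ, IsPElt p x → x • δ = δ}).ncard =
      kn p (P : Subgroup G) Ω := by
  obtain ⟨β, M, hβM, hM, hidx, hfix⟩ := h
  have hco := isCoatom_of_index_lt hG P hM hidx
  obtain ⟨b, hpm, hb, hn, -, hk, -⟩ := fibred_data hG P hf hβM hM hidx hfix
  obtain ⟨-, -, -, -, -, -, hpos, -, -⟩ := tower_stats hβM P
  obtain ⟨π, b', heq, hπβ, hb', hn', hfib, -⟩ := exists_tower hβM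
  obtain rfl : b' = b := Nat.eq_of_mul_eq_mul_right (by omega) (hn'.symm.trans hn)
  rw [hk, ← hfib (π γ)]
  congr 1
  obtain ⟨g, rfl⟩ := exists_smul_eq G β γ
  ext δ
  simp only [Set.mem_ofPred_eq]
  obtain ⟨h, rfl⟩ := exists_smul_eq G (g • β) δ
  constructor
  · intro hall
    rw [heq h, heq g, hπβ]
    set t := g⁻¹ * h * g with ht
    have hnorm : t⁻¹ ∈ Subgroup.normalizer (pPart p M : Set G) := by
      refine Subgroup.mem_normalizer_fintype ?_
      intro y hy
      have hsub : (pPart p M).map (MulAut.conj t⁻¹).toMonoidHom ≤ pPart p M := by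
        rw [Subgroup.map_le_iff_le_comap]
        refine (Subgroup.closure_le _).2 fun z hz => ?_
        obtain ⟨hzM, hzp⟩ := hz
        have h1 : z • β = β := hfix z hzM hzp
        have h2 : g * z * g⁻¹ ∈ stabilizer G (g • β) := by
          show (g * z * g⁻¹) • g • β = g • β
          rw [← mul_smul, inv_mul_cancel_right, mul_smul, h1]
        have h3 := hall _ h2 (isPElt_conj g hzp)
        have h4 : (g⁻¹ * h⁻¹ * g * z * g⁻¹ * h * g) • β = β := by
          have := congrArg (fun u => (h * g)⁻¹ • u) h3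
          simp only [← mul_smul] at this
          rw [show (h * g)⁻¹ * (g * z * g⁻¹ * (h * g)) = g⁻¹ * h⁻¹ * g * z * g⁻¹ * h * g by group,
            show (h * g)⁻¹ * (h * g) = 1 by group, one_smul] at this
          exact this
        refine mem_pPart ?_ (isPElt_conj _ hzp)
        rw [ht]
        refine hβM ?_
        show ((g⁻¹ * h * g)⁻¹ * z * (g⁻¹ * h * g)⁻¹⁻¹) • β = β
        rw [show (g⁻¹ * h * g)⁻¹ * z * (g⁻¹ * h * g)⁻¹⁻¹ = g⁻¹ * h⁻¹ * g * z * g⁻¹ * h * g by group]
        exact h4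
      exact hsub ⟨y, hy, rfl⟩
    have hMN : M ≤ Subgroup.normalizer (pPart p M : Set G) := by
      intro y hy
      refine Subgroup.mem_normalizer_fintype ?_
      exact fun z hz => pPart_conj_mem (fun w hw => mul_mem (mul_mem hy hw) (inv_mem hy)) hz
    have hNM : Subgroup.normalizer (pPart p M : Set G) = M := by
      rcases (hco.le_iff).1 hMN with h | h
      · exfalso
        have hnormal : (pPart p M).Normal := Subgroup.normalizer_eq_top_iff.1 h
        obtain ⟨q, hq⟩ := (Set.ncard_pos).1 (hpos hf)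
        obtain ⟨r, hr⟩ := exists_smul_eq G q ((1 : G) : G ⧸ M)
        refine hM (eq_top_of_isPElt hG fun x hx => ?_)
        obtain ⟨k, hk⟩ := hx
        have hz : IsPGroup p (Subgroup.zpowers x) :=
          IsPGroup.of_card (n := k) (by rw [Nat.card_zpowers, hk])
        obtain ⟨Q, hQ⟩ := hz.exists_le_sylow
        obtain ⟨s, rfl⟩ := MulAction.exists_smul_eq G P Q
        have hxQ := hQ (Subgroup.mem_zpowers x)
        rw [Sylow.coe_subgroup_smul] at hxQ
        obtain ⟨y, hy, rfl⟩ := hxQ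
        have hyr : r * y * r⁻¹ ∈ pPart p M := by
          refine mem_pPart ?_ (isPElt_conj r (isPElt_of_mem P.isPGroup' hy))
          rw [← stabilizer_mk M]
          show (r * y * r⁻¹) • ((1 : G) : G ⧸ M) = _
          rw [← hr, ← mul_smul, inv_mul_cancel_right, mul_smul, hq y hy]
        have := hnormal.conj_mem _ hyr (s * r⁻¹)
        refine pPart_le (p := p) M ?_
        show s * y * s⁻¹ ∈ pPart p M
        convert this using 1
        group
      · exact h
    rw [hNM, Subgroup.inv_mem_iff] at hnorm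
    rw [← mul_smul, MulAction.Quotient.smul_coe, MulAction.Quotient.smul_coe, QuotientGroup.eq]
    simp only [smul_eq_mul, mul_one]
    have := inv_mem hnorm
    rw [ht] at this
    simpa [mul_assoc] using this
  · intro hπ x hx hpx
    rw [heq, heq, hπβ, ← mul_smul, MulAction.Quotient.smul_coe, MulAction.Quotient.smul_coe,
      QuotientGroup.eq] at hπ
    simp only [smul_eq_mul, mul_one] at hπ
    set t := (h * g)⁻¹ * g with ht
    have hz : g⁻¹ * x * g ∈ M := hβM (by
      show (g⁻¹ * x * g) • β = β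
      rw [mul_smul, mul_smul, show x • g • β = g • β from hx, inv_smul_smul])
    have hz' : t * (g⁻¹ * x * g) * t⁻¹ ∈ M := mul_mem (mul_mem hπ hz) (inv_mem hπ)
    have := hfix _ hz' (by
      have h1 := isPElt_conj t (isPElt_conj g⁻¹ hpx)
      rwa [inv_inv] at h1)
    rw [ht, show (h * g)⁻¹ * g * (g⁻¹ * x * g) * ((h * g)⁻¹ * g)⁻¹ = (h * g)⁻¹ * x * (h * g) by
      group, mul_smul, mul_smul, inv_smul_eq_iff] at this
    rwa [mul_smul] at this

end CfsgLib.Perm.SylowFix
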