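import Cfsg.Agent.Lib.Perm.SylowFix.Basic

/-!
The shift argument: lines of size `k + 1` bound the fixed points by `p`.
-/

set_option autoImplicit false
set_option linter.unusedSectionVars false

namespace CfsgLib.Perm.SylowFix

open MulAction Pointwise

variable {G : Type*} [Group G] {Ω : Type*} [MulAction G Ω] {p : ℕ}

/-- The line through two points: the points fixed by all `p`-elements fixing both. -/
def line (p : ℕ) (G : Type*) [Group G] [MulAction G Ω] (a b : Ω) : Set Ω :=
  {c | ∀ x : G, IsPElt p x → x • a = a → x • b = b → x • c = c}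

theorem mem_line_left (a b : Ω) : a ∈ line p G a b := fun _ _ h _ => h

theorem mem_line_right (a b : Ω) : b ∈ line p G a b := fun _ _ _ h => h

theorem line_comm (a b : Ω) : line p G a b = line p G b a := by
  ext c; exact ⟨fun h x h1 h2 h3 => h x h1 h3 h2, fun h x h1 h2 h3 => h x h1 h3 h2⟩

variable [Finite G] [Finite Ω] [hp : Fact p.Prime]

theorem line_eq {k : ℕ} (hline : ∀ a b : Ω, a ≠ b → (line p G a b).ncard = k + 1) {a b c : Ω}
    (hab : a ≠ b) (hc : c ∈ line p G a b) (hac : a ≠ c) : line p G a c = line p G a b :=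
  Set.eq_of_subset_of_ncard_le
    (fun d hd x h1 h2 h3 => hd x h1 h2 (hc x h1 h2 h3)) (by rw [hline a b hab, hline a c hac])

/-- If all lines have `k + 1` points and two points always lie in the fixed set of some element of
order `p`, then `P` of order `p` with `k ≥ 2` orbits on moved points fixes at most `p` points. -/
theorem fn_le_of_lines (hp2G : ¬ p ^ 2 ∣ Nat.card G) (P : Sylow p G)
    (hline : ∀ a b : Ω, a ≠ b → (line p G a b).ncard = kn p (P : Subgroup G) Ω + 1)
    (hsyl : ∀ a b : Ω, ∃ z : G, orderOf z = p ∧ z • a = a ∧ z • b = b)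
    (hk : 2 ≤ kn p (P : Subgroup G) Ω) : fn (P : Subgroup G) Ω ≤ p := by
  classical
  have := Fintype.ofFinite Ω
  set k := kn p (P : Subgroup G) Ω
  set F := fixSet ((P : Subgroup G) : Set G) Ω
  let cl : Ω → orbitRel.Quotient (P : Subgroup G) Ω := fun a => Quotient.mk'' a
  let orb : Ω → Set Ω := fun a => orbit (P : Subgroup G) a
  have hPcard : Nat.card (P : Subgroup G) ∣ p := by
    obtain ⟨n, hn⟩ := P.isPGroup'.exists_card_eq
    have : n ≤ 1 := by
      by_contra h
      exact hp2G ((pow_dvd_pow p (show 2 ≤ n by omega)).trans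
        (hn ▸ Subgroup.card_subgroup_dvd_card _))
    rw [hn]
    exact (pow_dvd_pow p this).trans (pow_one p).dvd
  -- orbits of moved points have `p` points
  have horbp : ∀ a, a ∉ F → (orb a).ncard = p := by
    intro a ha
    have hd : (orb a).ncard ∣ p := by
      show (orbit (P : Subgroup G) a).ncard ∣ p
      rw [← index_stabilizer]
      exact (Subgroup.index_dvd_card _).trans hPcard
    rcases (Nat.dvd_prime hp.out).1 hd with h | h
    · refine absurd (fun x hx => ?_) ha
      obtain ⟨c, hc⟩ := Set.ncard_eq_one.1 h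
      have h1 : x • a ∈ orb a := ⟨⟨x, hx⟩, rfl⟩
      have h2 : a ∈ orb a := mem_orbit_self _
      rw [hc] at h1 h2
      exact h1.trans h2.symm
    · exact h
  -- a line through a fixed point and a moved point contains no other fixed point
  have honly : ∀ a ∈ F, ∀ γ, γ ∉ F → ∀ c ∈ line p G a γ, c ∈ F → c = a := by
    intro a ha γ hγ c hc hcF
    by_contra hne
    have haγ : a ≠ γ := fun h => hγ (h ▸ ha)
    refine hγ fun x hx => ?_
    have h1 : γ ∈ line p G a c := (line_eq hline haγ hc (Ne.symm hne)).symm ▸ mem_line_right a γ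
    exact h1 x (isPElt_of_mem P.isPGroup' hx) (ha x hx) (hcF x hx)
  -- two points of such a line are in different orbits
  have hinj : ∀ a ∈ F, ∀ γ, γ ∉ F → ∀ c ∈ line p G a γ, c ≠ a → ∀ d ∈ line p G a γ,
      d ∈ orb c → d = c := by
    intro a ha γ hγ c hc hca d hd hdc
    obtain ⟨⟨y, hy⟩, rfl⟩ := hdc
    show y • c = c
    by_contra hne
    have haγ : a ≠ γ := fun h => hγ (h ▸ ha)
    have hcF : c ∉ F := fun h => hca (honly a ha γ hγ c hc h)
    set S := line p G a γ with hS
    have hSc : line p G a c = S := line_eq hline haγ hc (Ne.symm hca)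
    have hyS : ∀ s ∈ S, y • s ∈ S := by
      intro s hs
      have hd' : line p G a (y • c) = S := line_eq hline haγ hd (fun h => hca (by
        have := congrArg (fun u => y⁻¹ • u) h
        simp only [inv_smul_smul, inv_smul_eq_iff.2 (ha y hy).symm] at this
        exact this.symm))
      rw [← hd']
      intro x hx h1 h2
      have := (hSc.symm ▸ hs : s ∈ line p G a c) (y⁻¹ * x * y)
        (by simpa using isPElt_conj y⁻¹ hx)
        (by rw [mul_smul, mul_smul, ha y hy, h1, inv_smul_eq_iff, ha y hy])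
        (by rw [mul_smul, mul_smul, h2, inv_smul_smul])
      rw [mul_smul, mul_smul, inv_smul_eq_iff] at this
      exact this
    let Z : Subgroup G := ⨅ s : S, stabilizer G (s : Ω)
    have hZ : ∀ z : G, z ∈ Z ↔ ∀ s ∈ S, z • s = s := fun z => by
      simp [Z, Subgroup.mem_iInf, mem_stabilizer_iff]
    have hyN : y ∈ Subgroup.normalizer (Z : Set G) := by
      have hyb : (fun s => y • s) '' S = S := Set.eq_of_subset_of_ncard_le
        (by rintro _ ⟨s, hs, rfl⟩; exact hyS s hs)
        (by rw [Set.ncard_image_of_injective _ (MulAction.injective y)])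
      refine Subgroup.mem_normalizer_fintype fun z hz => ?_
      rw [SetLike.mem_coe, hZ] at hz ⊢
      intro s hs
      rw [← hyb] at hs
      obtain ⟨t, ht, rfl⟩ := hs
      show (y * z * y⁻¹) • y • t = y • t
      rw [mul_smul, mul_smul, inv_smul_smul, hz t ht]
    obtain ⟨z, hzo, hza, hzc⟩ := hsyl a γ
    have hzZ : z ∈ Z := (hZ z).2 fun s hs => hs z ⟨1, by rw [hzo, pow_one]⟩ hza hzc
    have hpZ : p ∣ Nat.card Z := by
      have := orderOf_dvd_natCard (⟨z, hzZ⟩ : Z)
      rwa [← Subgroup.orderOf_coe, hzo] at this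
    set N := Subgroup.normalizer (Z : Set G)
    have hyNo : (QuotientGroup.mk (⟨y, hyN⟩ : N) : N ⧸ Z.subgroupOf N) ≠ 1 := fun h => by
      rw [QuotientGroup.eq_one_iff] at h
      exact hne ((hZ y).1 h c hc)
    have hyo : orderOf (QuotientGroup.mk (⟨y, hyN⟩ : N) : N ⧸ Z.subgroupOf N) = p := by
      refine ((Nat.dvd_prime hp.out).1 ?_).resolve_left fun h => hyNo (orderOf_eq_one_iff.1 h)
      refine (orderOf_map_dvd (QuotientGroup.mk' (Z.subgroupOf N)) _).trans ?_
      rw [← Subgroup.orderOf_coe]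
      have := orderOf_dvd_natCard (⟨y, hy⟩ : (P : Subgroup G))
      rw [← Subgroup.orderOf_coe] at this
      exact this.trans hPcard
    apply hp2G
    have h1 := (Z.subgroupOf N).card_mul_index
    rw [Nat.card_congr (Subgroup.subgroupOfEquivOfLe Subgroup.le_normalizer).toEquiv] at h1
    have h2 : p ∣ (Z.subgroupOf N).index := hyo ▸ orderOf_dvd_natCard _
    rw [sq]
    exact ((Nat.mul_dvd_mul hpZ h2).trans h1.dvd).trans (Subgroup.card_subgroup_dvd_card N)
  -- counting the orbits of moved points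
  set C : Finset (orbitRel.Quotient (P : Subgroup G) Ω) := (Finset.univ.filter (· ∉ F)).image cl
  have hcl : ∀ a b, cl b = cl a ↔ b ∈ orb a := fun a b => by
    show (Quotient.mk'' b : orbitRel.Quotient (P : Subgroup G) Ω) = Quotient.mk'' a ↔ _
    rw [Quotient.eq'', orbitRel_apply]
  have horbF : ∀ a, a ∉ F → ∀ b ∈ orb a, b ∉ F := by
    rintro a ha _ ⟨⟨y, hy⟩, rfl⟩ hb
    refine ha fun x hx => ?_
    have h2 : y • a = a := MulAction.injective y (hb y hy)
    have h1 : x • y • a = y • a := hb x hx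
    rwa [h2] at h1
  have hC : C.card = k := by
    have h1 : (Finset.univ.filter (· ∉ F)).card = p * k := by
      have h0 : (Finset.univ.filter (· ∉ F)).card = (Fᶜ).ncard := by
        rw [← Set.ncard_coe_finset]
        congr 1
        ext a
        simp
      rw [h0]
      have h2 := Set.ncard_add_ncard_compl F
      have h3 := card_eq (Ω := Ω) P.isPGroup'
      change F.ncard + _ = _ at h2
      rw [show fn (P : Subgroup G) Ω = F.ncard from rfl, show kn p (P : Subgroup G) Ω = k from rfl] at h3
      omega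
    rw [Finset.card_eq_sum_card_image cl] at h1
    rw [Finset.sum_congr rfl (fun q hq => show _ = p from ?_), Finset.sum_const, smul_eq_mul,
      mul_comm] at h1
    · exact Nat.eq_of_mul_eq_mul_left hp.out.pos h1
    · obtain ⟨a, ha, rfl⟩ := Finset.mem_image.1 hq
      rw [Finset.mem_filter] at ha
      refine Eq.trans ?_ (horbp a ha.2)
      rw [← Set.ncard_coe_finset]
      congr 1
      ext b
      simp only [Finset.coe_filter, Finset.mem_filter, Finset.mem_univ, true_and,
        Set.mem_ofPred_eq, hcl]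
      exact ⟨fun h => h.2, fun h => ⟨horbF a ha.2 b h, h⟩⟩
  -- each line meets each moved orbit
  have hmeet : ∀ a ∈ F, ∀ γ, γ ∉ F → ∀ c, c ∉ F → ∃ d ∈ line p G a γ, d ∈ orb c := by
    intro a ha γ hγ c hc
    have haγ : a ≠ γ := fun h => hγ (h ▸ ha)
    set T := ((line p G a γ) \ {a}).toFinset
    have hT : T.card = k := by
      rw [← Set.ncard_eq_toFinset_card', Set.ncard_sdiff_singleton_of_mem (mem_line_left a γ),
        hline a γ haγ]
      omega
    have hsub : T.image cl ⊆ C := by
      intro q hq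
      obtain ⟨d, hd, rfl⟩ := Finset.mem_image.1 hq
      rw [Set.mem_toFinset] at hd
      refine Finset.mem_image.2 ⟨d, Finset.mem_filter.2 ⟨Finset.mem_univ _, fun h => hd.2 ?_⟩, rfl⟩
      exact honly a ha γ hγ d hd.1 h
    have heq : T.image cl = C := by
      refine Finset.eq_of_subset_of_card_le hsub ?_
      rw [hC, Finset.card_image_of_injOn, hT]
      intro d hd e he hde
      rw [Finset.mem_coe, Set.mem_toFinset] at hd he
      exact ((hinj a ha γ hγ d hd.1 hd.2 e he.1 ((hcl d e).1 hde.symm))).symm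
    have : cl c ∈ T.image cl :=
      heq ▸ Finset.mem_image.2 ⟨c, Finset.mem_filter.2 ⟨Finset.mem_univ _, hc⟩, rfl⟩
    obtain ⟨d, hd, hde⟩ := Finset.mem_image.1 this
    rw [Set.mem_toFinset] at hd
    exact ⟨d, hd.1, (hcl c d).1 hde⟩
  obtain ⟨q₁, hq₁, q₂, hq₂, hq⟩ : ∃ q₁ ∈ C, ∃ q₂ ∈ C, q₁ ≠ q₂ :=
    Finset.one_lt_card.1 (by omega)
  obtain ⟨γ, hγ, rfl⟩ := Finset.mem_image.1 hq₁
  obtain ⟨δ, hδ, rfl⟩ := Finset.mem_image.1 hq₂
  rw [Finset.mem_filter] at hγ hδ
  choose d hd1 hd2 using fun a : F => hmeet a a.2 γ hγ.2 δ hδ.2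
  have hdinj : Function.Injective fun a : F => (⟨d a, hd2 a⟩ : orb δ) := by
    intro a b hab
    have he : d a = d b := congrArg Subtype.val hab
    by_contra hne
    have hγd : γ ≠ d a := fun h => hq ((hcl δ γ).2 (h ▸ hd2 a))
    have h1 : ∀ c : F, d a ∈ line p G (c : Ω) γ → (c : Ω) ∈ line p G γ (d a) := by
      intro c hc
      have hcγ : γ ≠ (c : Ω) := fun h => hγ.2 (h ▸ c.2)
      rw [line_comm] at hc
      rw [line_eq hline hcγ hc hγd]
      exact mem_line_right _ _
    have ha1 := h1 a (hd1 a)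
    have hb1 := h1 b (he ▸ hd1 b)
    have hγa : γ ≠ (a : Ω) := fun h => hγ.2 (h ▸ a.2)
    rw [← line_eq hline hγd ha1 hγa, line_comm] at hb1
    exact hne (Subtype.ext (honly a a.2 γ hγ.2 b hb1 b.2)).symm
  have h := Nat.card_le_card_of_injective _ hdinj
  rwa [Nat.card_coe_set_eq, Nat.card_coe_set_eq, horbp δ hδ.2] at h

end CfsgLib.Perm.SylowFix
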