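import Cfsg.Agent.Lib.Perm.SylowFix.Fibred
import Cfsg.Agent.Lib.Perm.SylowFix.Shift

/-!
The orbits of the `p`-part of a point stabiliser.
-/

set_option autoImplicit false
set_option linter.unusedSectionVars false

namespace CfsgLib.Perm.SylowFix

open MulAction Pointwise

variable {G : Type*} [Group G] [Finite G] {Ω : Type*} [MulAction G Ω] [Finite Ω] {p : ℕ}
  [hp : Fact p.Prime]

theorem fn_subtype {K : Subgroup G} (P : Sylow p G) (h : (P : Subgroup G) ≤ K) :
    fn ((P.subtype h : Sylow p K) : Subgroup K) Ω = fn (P : Subgroup G) Ω := by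
  rw [fn, fn]
  congr 1
  ext a
  exact ⟨fun ha x hx => ha ⟨x, h hx⟩ hx, fun ha x hx => ha x hx⟩

theorem kn_subtype {K : Subgroup G} (P : Sylow p G) (h : (P : Subgroup G) ≤ K) :
    kn p ((P.subtype h : Sylow p K) : Subgroup K) Ω = kn p (P : Subgroup G) Ω := by
  rw [kn, kn, fn_subtype]

theorem dd_subtype {K : Subgroup G} (P : Sylow p G) (h : (P : Subgroup G) ≤ K) :
    dd p ((P.subtype h : Sylow p K) : Subgroup K) Ω = dd p (P : Subgroup G) Ω := by
  rw [dd, dd, fn_subtype, kn_subtype]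

theorem le_pPart_stabilizer (P : Sylow p G) {a : Ω}
    (ha : a ∈ fixSet ((P : Subgroup G) : Set G) Ω) :
    (P : Subgroup G) ≤ pPart p (stabilizer G a) := fun _ hx =>
  mem_pPart (ha _ hx) (isPElt_of_mem P.isPGroup' hx)

/-- A Sylow subgroup fixing a point as a Sylow subgroup of the `p`-part of the stabiliser. -/
noncomputable def sylK (P : Sylow p G) {a : Ω} (ha : a ∈ fixSet ((P : Subgroup G) : Set G) Ω) :
    Sylow p (pPart p (stabilizer G a)) :=
  P.subtype (le_pPart_stabilizer P ha)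

theorem fn_sylK (P : Sylow p G) {a : Ω} (ha : a ∈ fixSet ((P : Subgroup G) : Set G) Ω) :
    fn (sylK P ha : Subgroup (pPart p (stabilizer G a))) Ω = fn (P : Subgroup G) Ω :=
  fn_subtype P _

theorem kn_sylK (P : Sylow p G) {a : Ω} (ha : a ∈ fixSet ((P : Subgroup G) : Set G) Ω) :
    kn p (sylK P ha : Subgroup (pPart p (stabilizer G a))) Ω = kn p (P : Subgroup G) Ω :=
  kn_subtype P _

theorem not_sq_dvd_subgroup (h : ¬ p ^ 2 ∣ Nat.card G) (K : Subgroup G) :
    ¬ p ^ 2 ∣ Nat.card K :=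
  fun hd => h (hd.trans (Subgroup.card_subgroup_dvd_card K))

/-- In a primitive action the `p`-part of a point stabiliser fixes one point only. -/
theorem eq_of_pPart_fix [IsPreprimitive G Ω] [Nontrivial Ω] (P : Sylow p G)
    (hk : 0 < kn p (P : Subgroup G) Ω) {a : Ω} (ha : a ∈ fixSet ((P : Subgroup G) : Set G) Ω)
    {b : Ω} (hb : ∀ x ∈ pPart p (stabilizer G a), x • b = b) : b = a := by
  set K := pPart p (stabilizer G a) with hK
  obtain ⟨g, rfl⟩ := exists_smul_eq G a b
  have hmap : K.map (MulAut.conj g⁻¹).toMonoidHom ≤ K := by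
    rw [hK, Subgroup.map_le_iff_le_comap]
    refine (Subgroup.closure_le _).2 fun z hz => mem_pPart ?_ (isPElt_conj g⁻¹ hz.2)
    show (g⁻¹ * z * g⁻¹⁻¹) • a = a
    rw [inv_inv, mul_smul, mul_smul, hb z (mem_pPart hz.1 hz.2), inv_smul_smul]
  have hg : g⁻¹ ∈ Subgroup.normalizer (K : Set G) :=
    Subgroup.mem_normalizer_fintype fun z hz => hmap ⟨z, hz, rfl⟩
  have hle : stabilizer G a ≤ Subgroup.normalizer (K : Set G) := fun y hy =>
    Subgroup.mem_normalizer_fintype fun z hz =>
      pPart_conj_mem (fun w hw => mul_mem (mul_mem hy hw) (inv_mem hy)) hz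
  rcases (IsPreprimitive.isCoatom_stabilizer_of_isPreprimitive (G := G) a).le_iff.1 hle with h | h
  · exfalso
    have hnormal : K.Normal := Subgroup.normalizer_eq_top_iff.1 h
    have hall : fixSet ((P : Subgroup G) : Set G) Ω = Set.univ := by
      refine Set.eq_univ_of_forall fun c y hy => ?_
      obtain ⟨r, rfl⟩ := exists_smul_eq G a c
      have h1 : r⁻¹ * y * r⁻¹⁻¹ ∈ K := hnormal.conj_mem _ (le_pPart_stabilizer P ha hy) r⁻¹
      have h2 : (r⁻¹ * y * r⁻¹⁻¹) • a = a := pPart_le (p := p) _ h1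
      rw [inv_inv, mul_smul, mul_smul, inv_smul_eq_iff] at h2
      exact h2
    have h1 := card_eq (Ω := Ω) P.isPGroup'
    rw [show fn (P : Subgroup G) Ω = Nat.card Ω by rw [fn, hall, Set.ncard_univ]] at h1
    have := Nat.mul_pos hp.out.pos hk
    omega
  · rw [h, Subgroup.inv_mem_iff] at hg
    exact hg

omit [Finite G] hp in
theorem line_smul (g : G) (a b : Ω) :
    line p G (g • a) (g • b) = (fun c => g • c) '' line p G a b := by
  ext c
  constructor
  · intro hc
    refine ⟨g⁻¹ • c, fun x hx hxa hxb => ?_, smul_inv_smul g c⟩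
    have h1 : (g * x * g⁻¹) • c = c := hc _ (isPElt_conj g hx)
      (by rw [mul_smul, mul_smul, inv_smul_smul, hxa])
      (by rw [mul_smul, mul_smul, inv_smul_smul, hxb])
    rw [mul_smul, mul_smul] at h1
    exact eq_inv_smul_iff.2 h1
  · rintro ⟨d, hd, rfl⟩ x hx hxa hxb
    have h1 : (g⁻¹ * x * g⁻¹⁻¹) • d = d := hd _ (isPElt_conj g⁻¹ hx)
      (by rw [inv_inv, mul_smul, mul_smul, hxa, inv_smul_smul])
      (by rw [inv_inv, mul_smul, mul_smul, hxb, inv_smul_smul])
    rw [inv_inv, mul_smul, mul_smul, inv_smul_eq_iff] at h1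
    exact h1

/-- The class of a point in the orbit quotient. -/
def orb (K : Subgroup G) (a : Ω) : orbitRel.Quotient K Ω := Quotient.mk'' a

theorem mem_orb (K : Subgroup G) (a : Ω) : a ∈ (orb K a).orbit :=
  orbitRel.Quotient.mem_orbit.2 rfl

/-- The orbit of a fixed point. -/
theorem orbit_mk_of_fixed {K : Subgroup G} {a : Ω} (ha : ∀ x : K, x • a = a) :
    (orb K a).orbit = {a} := by
  ext c
  rw [orb, orbitRel.Quotient.orbit_mk, Set.mem_singleton_iff]
  constructor
  · rintro ⟨x, rfl⟩; exact ha x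
  · rintro rfl; exact mem_orbit_self _

theorem card_orbit_fixed {K : Subgroup G} {a : Ω} (ha : ∀ x : K, x • a = a) :
    Nat.card (orb K a).orbit = 1 := by
  rw [Nat.card_coe_set_eq, orbit_mk_of_fixed ha, Set.ncard_singleton]

theorem fn_orbit_fixed {K : Subgroup G} {a : Ω} (ha : ∀ x : K, x • a = a) (Q : Subgroup K) :
    fn Q (orb K a).orbit = 1 := by
  rw [fn, show fixSet (Q : Set K) (orb K a).orbit = Set.univ from ?_,
    Set.ncard_univ, card_orbit_fixed ha]
  refine Set.eq_univ_of_forall fun c x _ => Subtype.ext ?_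
  have hc : (c : Ω) = a := (orbit_mk_of_fixed ha).le c.2
  show x • (c : Ω) = c
  rw [hc, ha x]

theorem kn_orbit_fixed {K : Subgroup G} {a : Ω} (ha : ∀ x : K, x • a = a) (Q : Subgroup K) :
    kn p Q (orb K a).orbit = 0 := by
  rw [kn, fn_orbit_fixed ha, card_orbit_fixed ha]
  simp

/-- An action linked to a subgroup: some point has the same `p`-elements in its stabiliser, and
the stabiliser lies in the subgroup. -/
def Linked (p : ℕ) (K : Type*) [Group K] (Y : Type*) [MulAction K Y] (M : Subgroup K) : Prop :=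
  ∃ γ : Y, stabilizer K γ ≤ M ∧ ∀ x ∈ M, IsPElt p x → x • γ = γ

theorem Linked.fibred {K : Type*} [Group K] {Y : Type*} [MulAction K Y] {M : Subgroup K}
    (h : Linked p K Y M) (hM : M ≠ ⊤) (hidx : M.index < 2 * p) : Fibred p K Y :=
  let ⟨γ, h1, h2⟩ := h
  ⟨γ, M, h1, hM, hidx, h2⟩

/-- If all orbits of the `p`-part of a point stabiliser are linked to one subgroup, there are at
most `p` fixed points. -/
theorem fn_le_of_linked [IsPretransitive G Ω] (hp2G : ¬ p ^ 2 ∣ Nat.card G) (P : Sylow p G)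
    (hord : Nat.card (P : Subgroup G) = p)
    {a : Ω} (ha : a ∈ fixSet ((P : Subgroup G) : Set G) Ω)
    {M : Subgroup (pPart p (stabilizer G a))} (hM : M ≠ ⊤) (hidx : M.index < 2 * p)
    (hlink : ∀ q : orbitRel.Quotient (pPart p (stabilizer G a)) Ω, a ∉ q.orbit →
      0 < fn (sylK P ha : Subgroup (pPart p (stabilizer G a))) q.orbit ∧
        Linked p (pPart p (stabilizer G a)) q.orbit M)
    (hk : 2 ≤ kn p (P : Subgroup G) Ω) : fn (P : Subgroup G) Ω ≤ p := by
  classical
  set P' : Sylow p (pPart p (stabilizer G a)) := sylK P ha with hP'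
  have hgen : IsPGen p (pPart p (stabilizer G a)) := isPGen_pPart _
  have hKa : ∀ x : (pPart p (stabilizer G a)), x • a = a := fun x => pPart_le (p := p) _ x.2
  have := Fintype.ofFinite (orbitRel.Quotient (pPart p (stabilizer G a)) Ω)
  set q0 : orbitRel.Quotient (pPart p (stabilizer G a)) Ω := orb (pPart p (stabilizer G a)) a with hq0
  have hne : ∀ q : orbitRel.Quotient (pPart p (stabilizer G a)) Ω, q ≠ q0 → a ∉ q.orbit := fun q hq hm =>
    hq (orbitRel.Quotient.mem_orbit.1 hm).symm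
  have hb : ∀ b, b ≠ a → a ∉ (orb (pPart p (stabilizer G a)) b).orbit := by
    intro b hba
    refine hne _ fun he => hba ?_
    have h1 : b ∈ (orb (pPart p (stabilizer G a)) b).orbit :=
      mem_orb _ _
    rw [he, hq0, orbit_mk_of_fixed hKa] at h1
    exact h1
  -- lines through `a`
  have hline : ∀ b, b ≠ a → (line p G a b).ncard = kn p (P : Subgroup G) Ω + 1 := by
    intro b hba
    obtain ⟨-, γb, hγbM, hγbfix⟩ := hlink _ (hb b hba)
    obtain ⟨g, hg⟩ := exists_smul_eq (pPart p (stabilizer G a)) γb ⟨b, mem_orb _ _⟩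
    have hg' : g • (γb : Ω) = b := congrArg Subtype.val hg
    rw [← kn_sylK P ha, ← hP', kn_eq_sum_orbits P'.isPGroup',
      ncard_eq_sum_orbits (G := (pPart p (stabilizer G a))) (line p G a b),
      ← Finset.add_sum_erase _ _ (Finset.mem_univ q0),
      ← Finset.add_sum_erase _ (fun q => kn p (P' : Subgroup (pPart p (stabilizer G a))) q.orbit) (Finset.mem_univ q0),
      kn_orbit_fixed hKa, zero_add, add_comm]
    congr 1
    · refine Finset.sum_congr rfl fun q hq => ?_
      obtain ⟨hf, γ, hγM, hγfix⟩ := hlink q (hne q (Finset.ne_of_mem_erase hq))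
      rw [← (Linked.fibred ⟨γ, hγM, hγfix⟩ hM hidx).ncard_fixed hgen P' hf (g • γ)]
      congr 1
      ext c
      constructor
      · intro hc x hx hxp
        refine Subtype.ext (hc (x : G) ((isPElt_coe x).2 hxp) (hKa x) ?_)
        have h1 : g⁻¹ * x * g⁻¹⁻¹ ∈ stabilizer (pPart p (stabilizer G a)) γ := by
          show (g⁻¹ * x * g⁻¹⁻¹) • γ = γ
          rw [inv_inv, mul_smul, mul_smul, mem_stabilizer_iff.1 hx, inv_smul_smul]
        have h2 : (g⁻¹ * x * g⁻¹⁻¹) • (γb : Ω) = γb :=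
          congrArg Subtype.val (hγbfix _ (hγM h1) (isPElt_conj g⁻¹ hxp))
        rw [inv_inv, mul_smul, mul_smul, hg', inv_smul_eq_iff, hg'] at h2
        exact h2
      · intro hc x hx hxa hxb
        set y : (pPart p (stabilizer G a)) := ⟨x, mem_pPart hxa hx⟩
        have hy : IsPElt p y := (isPElt_coe y).1 hx
        have h1 : g⁻¹ * y * g⁻¹⁻¹ ∈ M := hγbM (by
          refine Subtype.ext ?_
          show (g⁻¹ * y * g⁻¹⁻¹) • (γb : Ω) = γb
          rw [inv_inv, mul_smul, mul_smul, hg', show y • b = b from hxb, inv_smul_eq_iff.2 hg'.symm])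
        have h2 := hγfix _ h1 (isPElt_conj g⁻¹ hy)
        rw [inv_inv, mul_smul, mul_smul, inv_smul_eq_iff] at h2
        exact congrArg Subtype.val (hc y h2 hy)
    · rw [Set.ncard_eq_one]
      refine ⟨⟨a, mem_orb _ _⟩, ?_⟩
      ext c
      simp only [Set.mem_ofPred_eq, Set.mem_singleton_iff]
      constructor
      · intro _
        apply Subtype.ext
        exact (orbit_mk_of_fixed hKa).le c.2
      · rintro rfl
        exact mem_line_left a b
  refine fn_le_of_lines hp2G P ?_ ?_ hk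
  · intro u v huv
    obtain ⟨g, rfl⟩ := exists_smul_eq G a u
    obtain ⟨w, rfl⟩ : ∃ w, g • w = v := ⟨g⁻¹ • v, smul_inv_smul g v⟩
    rw [line_smul, Set.ncard_image_of_injective _ (MulAction.injective g)]
    exact hline w fun he => huv (by rw [he])
  · intro u v
    obtain ⟨x, hx, hx1⟩ : ∃ x ∈ (P : Subgroup G), orderOf x = p := by
      obtain ⟨x, hx⟩ := exists_prime_orderOf_dvd_card' p (G := (P : Subgroup G)) hord.symm.dvd
      exact ⟨x, x.2, by rw [Subgroup.orderOf_coe, hx]⟩
    obtain ⟨g, rfl⟩ := exists_smul_eq G a u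
    obtain ⟨w, rfl⟩ : ∃ w, g • w = v := ⟨g⁻¹ • v, smul_inv_smul g v⟩
    -- some conjugate of `x` fixes `a` and `w`
    obtain ⟨z, hz1, hz2, hz3⟩ : ∃ z : G, orderOf z = p ∧ z • a = a ∧ z • w = w := by
      by_cases hw : w = a
      · exact ⟨x, hx1, ha x hx, by rw [hw, ha x hx]⟩
      obtain ⟨hf, -⟩ := hlink _ (hb w hw)
      obtain ⟨δ, hδ⟩ := (Set.ncard_pos).1 hf
      obtain ⟨r, hr⟩ := exists_smul_eq (pPart p (stabilizer G a)) δ ⟨w, mem_orb _ _⟩
      refine ⟨r * x * (r : G)⁻¹, ?_, ?_, ?_⟩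
      · exact (MulEquiv.orderOf_eq (MulAut.conj (r : G)) x).trans hx1
      · have hra : (r : G) • a = a := hKa r
        rw [mul_smul, mul_smul, inv_smul_eq_iff.2 hra.symm, ha x hx, hra]
      · have h1 : r • (δ : Ω) = w := congrArg Subtype.val hr
        have h2 : x • (δ : Ω) = δ :=
          congrArg Subtype.val (hδ ⟨x, le_pPart_stabilizer P ha hx⟩ hx)
        change (r : G) • (δ : Ω) = w at h1
        rw [← h1, mul_smul, mul_smul, inv_smul_smul, h2]
    refine ⟨g * z * g⁻¹, ?_, ?_, ?_⟩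
    · exact (MulEquiv.orderOf_eq (MulAut.conj g) z).trans hz1
    · rw [mul_smul, mul_smul, inv_smul_smul, hz2]
    · rw [mul_smul, mul_smul, inv_smul_smul, hz3]

end CfsgLib.Perm.SylowFix
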