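import Cfsg.Agent.Lib.Perm.SylowFix.NaturalCases
import Cfsg.Agent.Lib.Perm.SylowFix.Orbits

/-!
An orbit of good index links all the orbits.
-/

set_option autoImplicit false
set_option linter.unusedSectionVars false
set_option linter.style.haveILetI false

namespace CfsgLib.Perm.SylowFix

open MulAction Pointwise Equiv Equiv.Perm

theorem linked_of_good {K : Type*} [Group K] [Finite K] {Y : Type*} [MulAction K Y] [Finite Y]
    [IsPretransitive K Y] {p : ℕ} [hp : Fact p.Prime] (hodd : p ≠ 2) (hgen : IsPGen p K)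
    (hpsq : ¬ p ^ 2 ∣ Nat.card K) {M : Subgroup K} (hM : M ≠ ⊤) (hgood : Good p M.index)
    (P : Sylow p K) (hn : 1 < Nat.card Y)
    (hD : dd p (P : Subgroup K) Y ≤ 2 * (p : ℤ) - 3)
    (hD5 : p = 5 → M.index = 7 → dd p (P : Subgroup K) Y ≤ 5) :
    0 < fn (P : Subgroup K) Y ∧ Linked p K Y M := by
  classical
  have := Fintype.ofFinite (K ⧸ M)
  have hcard : Fintype.card (K ⧸ M) = M.index := Nat.card_eq_fintype_card.symm
  set θ := toPermHom K (K ⧸ M)
  obtain ⟨x, hx, c, hc⟩ := exists_moved (Ω := K ⧸ M) hgen (one_lt_index hM) P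
  have hne : θ x ≠ 1 := fun he => hc (Equiv.congr_fun he c)
  obtain ⟨n, hn'⟩ := P.isPGroup'.exists_card_eq
  have hxo : orderOf x = p := by
    have h1 := orderOf_dvd_natCard (⟨x, hx⟩ : (P : Subgroup K))
    rw [← Subgroup.orderOf_coe, hn'] at h1
    obtain ⟨j, -, hj⟩ := (Nat.dvd_prime_pow hp.out).1 h1
    have hxne : x ≠ 1 := fun he => hne (by rw [he, map_one])
    rcases Nat.lt_or_ge j 2 with hj2 | hj2
    · rcases (show j = 0 ∨ j = 1 by omega) with rfl | rfl
      · exact absurd (orderOf_eq_one_iff.1 (by simpa using hj)) hxne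
      · simpa using hj
    · exact absurd ((pow_dvd_pow p hj2).trans (hj ▸ orderOf_dvd_natCard x)) hpsq
  have ho : orderOf (θ x) = p :=
    ((Nat.dvd_prime hp.out).1 ((orderOf_map_dvd θ x).trans hxo.dvd)).resolve_left
      fun he => hne (orderOf_eq_one_iff.1 he)
  have hcy : (θ x).IsCycle := isCycle_of_prime_order (by rw [ho]; exact hp.out) (by
    rw [ho]
    exact (Finset.card_le_univ _).trans_lt (hcard.trans_lt hgood.1))
  have hs : (θ x).support.card = p := by rw [← hcy.orderOf, ho]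
  have hle : θ.range ≤ alternatingGroup (K ⧸ M) := by
    rintro _ ⟨g, rfl⟩
    have hg : g ∈ (Equiv.Perm.sign.comp θ).ker := by
      have : (Equiv.Perm.sign.comp θ).ker = ⊤ := eq_top_of_isPElt hgen fun y hy =>
        pElt_sign_eq_one (hp.out.odd_of_ne_two hodd) (isPElt_map θ hy)
      rw [this]; trivial
    exact mem_alternatingGroup.2 hg
  haveI : IsPretransitive θ.range (K ⧸ M) := ⟨fun u v => by
    obtain ⟨g, hg⟩ := exists_smul_eq K u v
    exact ⟨⟨θ g, g, rfl⟩, hg⟩⟩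
  have hT : Top p θ := ⟨hodd, hgen, hpsq,
    alt_of_cycle hle ⟨x, rfl⟩ hcy hs (hcard.trans_lt hgood.1) (by rw [hcard]; exact hgood.2),
    by rw [hcard]; exact hgood⟩
  obtain ⟨hf, hall⟩ := hT.natural hn P hD (fun h5 h7 => hD5 h5 (hcard ▸ h7))
  refine ⟨hf, ?_⟩
  obtain ⟨γ, hγ⟩ := (Set.ncard_pos).1 hf
  obtain ⟨i, hi1, hi2⟩ := hall γ
  obtain ⟨g, hg⟩ := exists_smul_eq K i ((1 : K) : K ⧸ M)
  refine ⟨g • γ, fun u hu => ?_, fun u hu hup => ?_⟩
  · rw [← stabilizer_mk M]
    show u • ((1 : K) : K ⧸ M) = _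
    have h1 : (g⁻¹ * u * g) • i = i := hi1 (by
      show (g⁻¹ * u * g) • γ = γ
      rw [mul_smul, mul_smul, mem_stabilizer_iff.1 hu, inv_smul_smul])
    rw [mul_smul, mul_smul, hg, inv_smul_eq_iff, hg] at h1
    exact h1
  · rw [← stabilizer_mk M] at hu
    have h1 : (g⁻¹ * u * g) • γ = γ := hi2 _ (by
      show (g⁻¹ * u * g) • i = i
      rw [mul_smul, mul_smul, hg, mem_stabilizer_iff.1 hu, ← hg, inv_smul_smul]) (by
      have := isPElt_conj g⁻¹ hup
      rwa [inv_inv] at this)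
    rw [mul_smul, mul_smul, inv_smul_eq_iff] at h1
    exact h1

end CfsgLib.Perm.SylowFix
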