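import Cfsg.Agent.Lib.Perm.SylowFix.Step

/-!
Transitive actions of small deficit are fibred.
-/

set_option autoImplicit false
set_option linter.unusedSectionVars false
set_option linter.style.haveILetI false

namespace CfsgLib.Perm.SylowFix

open MulAction Pointwise

universe u

variable {p : ℕ} [hp : Fact p.Prime]

theorem Fibred.exists_at {G : Type*} [Group G] {Ω : Type*} [MulAction G Ω] [IsPretransitive G Ω]
    (h : Fibred p G Ω) (γ : Ω) :
    ∃ M : Subgroup G, stabilizer G γ ≤ M ∧ M ≠ ⊤ ∧ M.index < 2 * p ∧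
      ∀ x ∈ M, IsPElt p x → x • γ = γ := by
  obtain ⟨β, M, h1, h2, h3, h4⟩ := h
  obtain ⟨g, rfl⟩ := exists_smul_eq G β γ
  have hmem : ∀ x, x ∈ M.map (MulAut.conj g).toMonoidHom ↔ g⁻¹ * x * g ∈ M := fun x => by
    constructor
    · rintro ⟨y, hy, rfl⟩
      rw [show g⁻¹ * (MulAut.conj g).toMonoidHom y * g = y by simp [mul_assoc]]
      exact hy
    · intro hx
      exact ⟨_, hx, by simp [mul_assoc]⟩
  refine ⟨M.map (MulAut.conj g).toMonoidHom, fun u hu => (hmem u).2 (h1 ?_), fun he => h2 ?_, ?_,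
    fun x hx hxp => ?_⟩
  · show (g⁻¹ * u * g) • β = β
    rw [mul_smul, mul_smul, mem_stabilizer_iff.1 hu, inv_smul_smul]
  · refine eq_top_iff.2 fun y _ => ?_
    have h5 : g * y * g⁻¹ ∈ M.map (MulAut.conj g).toMonoidHom := he ▸ Subgroup.mem_top _
    rw [hmem] at h5
    simpa [mul_assoc] using h5
  · rwa [Subgroup.index_map_of_bijective (MulAut.conj g).bijective]
  · have h5 := h4 _ ((hmem x).1 hx) (by
      have := isPElt_conj g⁻¹ hxp
      rwa [inv_inv] at this)
    rw [mul_smul, mul_smul, inv_smul_eq_iff] at h5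
    exact h5

theorem dvd_card_of_invariant {α : Type*} [DecidableEq α] {q : ℕ} [Fact q.Prime]
    {σ : Equiv.Perm α} (hσ : σ ^ q = 1) {S : Finset α} (hS : ∀ c, σ c ∈ S ↔ c ∈ S)
    (hmove : ∀ c ∈ S, σ c ≠ c) : q ∣ S.card := by
  set τ : Equiv.Perm {c // c ∈ S} := σ.subtypePerm hS
  have h1 : τ ^ q ^ 1 = 1 := by
    rw [pow_one]
    ext c
    rw [Equiv.Perm.subtypePerm_pow]
    simp [hσ]
  have h2 := Equiv.Perm.card_compl_support_modEq h1
  have h3 : τ.supportᶜ = ∅ := Finset.eq_empty_of_forall_notMem fun c hc => by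
    rw [Finset.mem_compl, Equiv.Perm.notMem_support] at hc
    exact hmove c c.2 (congrArg Subtype.val hc)
  rw [h3, Finset.card_empty, Fintype.card_coe] at h2
  exact (Nat.modEq_zero_iff_dvd).1 h2.symm

/-- Degree `14` with five fixed points for `p = 3` does not occur. -/
theorem false_of_exception {G : Type*} [Group G] [Finite G] {Ω : Type*} [MulAction G Ω] [Finite Ω]
    [IsPreprimitive G Ω] [Fact (Nat.Prime 3)] (hp2G : ¬ 3 ^ 2 ∣ Nat.card G) (P : Sylow 3 G)
    (hk : kn 3 (P : Subgroup G) Ω = 3) (hf : fn (P : Subgroup G) Ω = 5) : False := by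
  classical
  have := Fintype.ofFinite Ω
  haveI : Fact (Nat.Prime 5) := ⟨Nat.prime_five⟩
  have hn : Nat.card Ω = 14 := by rw [card_eq (Ω := Ω) P.isPGroup', hk, hf]
  have hn' : Fintype.card Ω = 14 := by rw [← Nat.card_eq_fintype_card, hn]
  set ψ := toPermHom G Ω
  obtain ⟨a, ha⟩ := (Set.ncard_pos).1 (show 0 < fn (P : Subgroup G) Ω by omega)
  set Nr := Subgroup.normalizer ((P : Subgroup G) : Set G) with hNr
  have horb : orbit Nr a = fixSet ((P : Subgroup G) : Set G) Ω := by
    ext b
    constructor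
    · rintro ⟨⟨g, hg⟩, rfl⟩ z hz
      show z • g • a = g • a
      have : g⁻¹ * z * g ∈ (P : Subgroup G) := by
        have := (Subgroup.mem_normalizer_iff.1 (inv_mem hg) z).1 hz
        simpa using this
      rw [show z • g • a = g • (g⁻¹ * z * g) • a by simp [← mul_smul, mul_assoc], ha _ this]
    · intro hb
      obtain ⟨g, hg, rfl⟩ := exists_normalizer_smul_eq P ha hb
      exact ⟨⟨g, hg⟩, rfl⟩
  set ψN := ψ.comp Nr.subtype
  have h5 : 5 ∣ Nat.card ψN.range := by
    rw [← hf, fn, ← horb, ← index_stabilizer, ← Subgroup.index_ker]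
    exact Subgroup.index_dvd_of_le fun g hg => Equiv.congr_fun (MonoidHom.mem_ker.1 hg) a
  obtain ⟨⟨σ, g, rfl⟩, hσ⟩ := exists_prime_orderOf_dvd_card' 5 h5
  rw [← Subgroup.orderOf_coe] at hσ
  change orderOf (ψN g) = 5 at hσ
  set σ := ψN g with hσdef
  -- a generator of `P`
  have hord : ∀ x ∈ (P : Subgroup G), x ≠ 1 → orderOf x = 3 := by
    intro x hx hx1
    obtain ⟨j, hj⟩ := isPElt_of_mem P.isPGroup' hx
    rcases Nat.lt_or_ge j 2 with hj2 | hj2
    · rcases (show j = 0 ∨ j = 1 by omega) with rfl | rfl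
      · exact absurd (orderOf_eq_one_iff.1 (by simpa using hj)) hx1
      · simpa using hj
    · exact absurd ((pow_dvd_pow 3 hj2).trans (hj ▸ orderOf_dvd_natCard x)) hp2G
  obtain ⟨x, hx, hx1⟩ : ∃ x ∈ (P : Subgroup G), x ≠ 1 := by
    by_contra hall
    push Not at hall
    have : fn (P : Subgroup G) Ω = Nat.card Ω := by
      rw [fn, show fixSet ((P : Subgroup G) : Set G) Ω = Set.univ from
        Set.eq_univ_of_forall fun c y hy => by rw [hall y hy, one_smul], Set.ncard_univ]
    omega
  have hxo := hord x hx hx1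
  have hPz : ∀ y ∈ (P : Subgroup G), y ∈ Subgroup.zpowers x := by
    intro y hy
    obtain ⟨j, hj⟩ := P.isPGroup'.exists_card_eq
    have hj1 : Nat.card (P : Subgroup G) ≤ 3 := by
      rcases Nat.lt_or_ge j 2 with hj2 | hj2
      · rw [hj]
        exact (Nat.pow_le_pow_right (by norm_num) (show j ≤ 1 by omega)).trans_eq (pow_one 3)
      · exact absurd ((pow_dvd_pow 3 hj2).trans (hj ▸ Subgroup.card_subgroup_dvd_card _)) hp2G
    rw [Subgroup.eq_of_le_of_card_ge (Subgroup.zpowers_le.2 hx)
      (by rw [Nat.card_zpowers, hxo]; exact hj1)]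
    exact hy
  set ξ := ψ x with hξdef
  have hξ3 : ξ ^ 3 = 1 := by rw [hξdef, ← map_pow, ← hxo, pow_orderOf_eq_one, map_one]
  -- the moved points of `ξ`
  have hξF : ∀ c, ξ c = c ↔ c ∈ fixSet ((P : Subgroup G) : Set G) Ω := by
    intro c
    refine ⟨fun hc y hy => ?_, fun hc => hc x hx⟩
    exact (stabilizer G c).zpowers_le.2 (show x • c = c from hc) (hPz y hy)
  have hsupp : ξ.support.card = 9 := by
    have h1 : ξ.supportᶜ = (fixSet ((P : Subgroup G) : Set G) Ω).toFinset := by
      ext c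
      rw [Finset.mem_compl, Equiv.Perm.notMem_support, Set.mem_toFinset, hξF]
    have h2 := Finset.card_compl_add_card ξ.support
    rw [h1, ← Set.ncard_eq_toFinset_card', ← fn, hf, hn'] at h2
    omega
  -- `σ` centralises `ξ`
  have hcomm : Commute σ ξ := by
    have h1 : (g : G) * x * (g : G)⁻¹ ∈ Subgroup.zpowers x :=
      hPz _ ((Subgroup.mem_normalizer_iff.1 g.2 x).1 hx)
    rw [mem_zpowers_iff_mem_range_orderOf, hxo] at h1
    simp only [Finset.mem_image, Finset.mem_range] at h1
    obtain ⟨i, hi, hix⟩ := h1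
    have h2 : σ * ξ * σ⁻¹ = ξ ^ i := by
      rw [hξdef, ← map_pow, hix, map_mul, map_mul, map_inv]
      rfl
    have hsq : σ ^ 5 = 1 := by rw [← hσ]; exact pow_orderOf_eq_one σ
    rcases (show i = 0 ∨ i = 1 ∨ i = 2 by omega) with rfl | rfl | rfl
    · rw [pow_zero, mul_inv_eq_one, mul_eq_left] at h2
      rw [h2] at hsupp
      simp at hsupp
    · rw [pow_one, mul_inv_eq_iff_eq_mul] at h2
      exact h2
    · have h3 : σ ^ 2 * ξ * (σ ^ 2)⁻¹ = ξ := by
        have h4 : σ * ξ ^ 2 * σ⁻¹ = (σ * ξ * σ⁻¹) ^ 2 := (conj_pow).symm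
        rw [h2, ← pow_mul, show ξ ^ (2 * 2) = ξ by rw [pow_succ, hξ3, one_mul]] at h4
        calc σ ^ 2 * ξ * (σ ^ 2)⁻¹ = σ * (σ * ξ * σ⁻¹) * σ⁻¹ := by simp [pow_two, mul_assoc]
          _ = σ * ξ ^ 2 * σ⁻¹ := by rw [h2]
          _ = ξ := h4
      rw [mul_inv_eq_iff_eq_mul] at h3
      have h4 : (σ ^ 2) ^ 3 = σ := by rw [← pow_mul, pow_succ, hsq, one_mul]
      exact h4 ▸ (show Commute (σ ^ 2) ξ from h3).pow_left 3
  -- `σ` fixes the moved points of `ξ`
  set S := σ.support ∩ ξ.support with hS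
  have hSσ : ∀ c, σ c ∈ S ↔ c ∈ S := by
    intro c
    have hc : ξ (σ c) = σ (ξ c) := (Equiv.Perm.congr_fun hcomm.eq c).symm
    simp only [hS, Finset.mem_inter, Equiv.Perm.mem_support, hc, ne_eq, EmbeddingLike.apply_eq_iff_eq]
  have hSξ : ∀ c, ξ c ∈ S ↔ c ∈ S := by
    intro c
    have hc : σ (ξ c) = ξ (σ c) := Equiv.Perm.congr_fun hcomm.eq c
    simp only [hS, Finset.mem_inter, Equiv.Perm.mem_support, hc, ne_eq, EmbeddingLike.apply_eq_iff_eq]
  have hSe : S = ∅ := by
    have h1 : 5 ∣ S.card := dvd_card_of_invariant (by rw [← hσ]; exact pow_orderOf_eq_one σ) hSσ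
      fun c hc => Equiv.Perm.mem_support.1 (Finset.mem_inter.1 hc).1
    have h2 : 3 ∣ S.card := dvd_card_of_invariant hξ3 hSξ
      fun c hc => Equiv.Perm.mem_support.1 (Finset.mem_inter.1 hc).2
    have h3 : S.card ≤ 9 := hsupp ▸ Finset.card_le_card Finset.inter_subset_right
    exact Finset.card_eq_zero.1 (by omega)
  have hσsupp : σ.support.card ≤ 5 := by
    have h1 : σ.support ⊆ ξ.supportᶜ := fun c hc => Finset.mem_compl.2 fun hc' => by
      have : c ∈ S := Finset.mem_inter.2 ⟨hc, hc'⟩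
      rw [hSe] at this
      exact absurd this (Finset.notMem_empty c)
    refine (Finset.card_le_card h1).trans ?_
    rw [Finset.card_compl, hsupp, hn']
  have hcy : σ.IsCycle := Equiv.Perm.isCycle_of_prime_order (by rw [hσ]; exact Nat.prime_five)
    (by omega)
  have hσs : σ.support.card = 5 := by rw [← hcy.orderOf, hσ]
  set X := ψ.range
  haveI : IsPretransitive X Ω := ⟨fun u v => by
    obtain ⟨r, hr⟩ := exists_smul_eq G u v
    exact ⟨⟨ψ r, r, rfl⟩, hr⟩⟩
  let f : Ω →ₑ[ψ.rangeRestrict] Ω := ⟨id, fun _ _ => rfl⟩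
  have hprim : IsPreprimitive X Ω :=
    IsPreprimitive.of_surjective (f := f) Function.surjective_id
  have halt := Cfsg.Agent.S0713.result X hprim Nat.prime_five (by omega) (by omega) hcy hσs
    ⟨g, rfl⟩
  apply hp2G
  refine Nat.dvd_trans ?_ ((Subgroup.card_dvd_of_le halt).trans (Subgroup.card_range_dvd ψ))
  haveI : Nontrivial Ω := Finite.one_lt_card_iff_nontrivial.1 (by omega)
  have := two_mul_nat_card_alternatingGroup (α := Ω)
  rw [Nat.card_perm, hn] at this
  refine (show Nat.Coprime (3 ^ 2) 2 by norm_num).dvd_of_dvd_mul_left ?_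
  rw [this]
  norm_num [Nat.factorial]

/-- Small deficit forces fibred actions, in degree `n`. -/
def MainAt (p n : ℕ) : Prop :=
  ∀ (G Ω : Type u) [Group G] [Finite G] [MulAction G Ω] [Finite Ω] [IsPretransitive G Ω],
    Nat.card Ω = n → 1 < n → IsPGen p G → ¬ p ^ 2 ∣ Nat.card G → ∀ P : Sylow p G,
      (dd p (P : Subgroup G) Ω ≤ (p : ℤ) - 2 ∨
        (¬ IsPreprimitive G Ω ∧ dd p (P : Subgroup G) Ω ≤ 2 * (p : ℤ) - 3)) →
      Fibred p G Ω

theorem MainAt.nonneg {n : ℕ} (h : MainAt.{u} p n) {G Ω : Type u} [Group G] [Finite G]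
    [MulAction G Ω] [Finite Ω] [IsPretransitive G Ω] (hn : Nat.card Ω = n) (h1 : 1 < n)
    (hgen : IsPGen p G) (hp2G : ¬ p ^ 2 ∣ Nat.card G) (P : Sylow p G) :
    0 ≤ dd p (P : Subgroup G) Ω :=
  dd_nonneg_of_fibred hgen P fun hd => h G Ω hn h1 hgen hp2G P (Or.inl hd)

/-- No chain of primitive actions with many fixed points and small deficit starts. -/
theorem chain (hodd : p ≠ 2) : ∀ (n : ℕ), (∀ m < n, MainAt.{u} p m) →
    ∀ (G Ω : Type u) [Group G] [Finite G] [MulAction G Ω] [Finite Ω] [IsPreprimitive G Ω],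
      Nat.card Ω = n → ¬ p ^ 2 ∣ Nat.card G → ∀ (P : Sylow p G) (i : ℕ),
        2 ≤ kn p (P : Subgroup G) Ω → p < fn (P : Subgroup G) Ω →
        fn (P : Subgroup G) Ω % p + i < p → dd p (P : Subgroup G) Ω ≤ (p : ℤ) - 2 + i →
        ¬ (p = 3 ∧ kn p (P : Subgroup G) Ω = 3 ∧ fn (P : Subgroup G) Ω = 4) → False := by
  intro n
  induction n using Nat.strong_induction_on with
  | _ n ih =>
    intro IH G Ω _ _ _ _ _ hn hp2G P i hk hf hmod hdd hexc
    by_cases h5 : p = 3 ∧ kn p (P : Subgroup G) Ω = 3 ∧ fn (P : Subgroup G) Ω = 5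
    · obtain ⟨rfl, h5k, h5f⟩ := h5
      exact false_of_exception hp2G P h5k h5f
    have hmod1 : 0 < fn (P : Subgroup G) Ω % p := by
      rw [Nat.pos_iff_ne_zero]
      exact fun h0 => not_dvd_fn P (by omega) (Nat.dvd_of_mod_eq_zero h0)
    obtain ⟨a, ha, q, haq, hprim, hqn, hqf, hqk, hqd⟩ := step hodd hp2G P hk hf (by omega) hexc
      (fun K q h1 h2 h3 h4 P' h => IH (Nat.card q.orbit) (hn ▸ h2) K q.orbit rfl h1 h3 h4 P' h)
    haveI := hprim
    set P' := sylK P ha
    have hf' : 0 < fn (P' : Subgroup (pPart p (stabilizer G a))) q.orbit := by omega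
    have hnd := not_dvd_fn P' hf'
    have hmod2 : fn (P' : Subgroup (pPart p (stabilizer G a))) q.orbit % p =
        fn (P : Subgroup G) Ω % p - 1 := by
      have h1 := Nat.mod_add_div (fn (P : Subgroup G) Ω) p
      rw [show fn (P' : Subgroup (pPart p (stabilizer G a))) q.orbit =
        (fn (P : Subgroup G) Ω % p - 1) + p * (fn (P : Subgroup G) Ω / p) by omega,
        Nat.add_mul_mod_self_left, Nat.mod_eq_of_lt (by omega)]
    refine ih (Nat.card q.orbit) (by omega) (fun m hm => IH m (by omega)) _ _ rfl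
      (not_sq_dvd_subgroup hp2G _) P' (i + 1) (by omega) ?_ (by omega) (by rw [hqd]; omega) ?_
    · rcases Nat.lt_or_ge p (fn (P' : Subgroup (pPart p (stabilizer G a))) q.orbit) with h | h
      · exact h
      · exact absurd (dvd_of_eq (show p = fn (P' : Subgroup (pPart p (stabilizer G a))) q.orbit by
          omega)) hnd
    · rintro ⟨h1, h2, h3⟩
      exact h5 ⟨h1, by omega, by omega⟩

/-- Small deficit forces fibred actions. -/
theorem mainAt (hodd : p ≠ 2) : ∀ n, MainAt.{u} p n := by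
  intro n
  induction n using Nat.strong_induction_on with
  | _ n IH =>
    intro G Ω _ _ _ _ _ hn h1 hgen hp2G P hcase
    haveI : Nontrivial Ω := Finite.one_lt_card_iff_nontrivial.1 (by omega)
    obtain ⟨β⟩ : Nonempty Ω := inferInstance
    have hp3 : 3 ≤ p := by have := hp.out.two_le; omega
    have hkpos := kn_pos (Ω := Ω) hgen (by omega) P
    have hcard := card_eq (Ω := Ω) P.isPGroup'
    by_cases hprim : IsPreprimitive G Ω
    swap
    · -- imprimitive
      have hd : dd p (P : Subgroup G) Ω ≤ 2 * (p : ℤ) - 3 := by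
        rcases hcase with h | h
        · omega
        · exact h.2
      have hns : ¬ IsCoatom (stabilizer G β) :=
        fun h => hprim ((isCoatom_stabilizer_iff_preprimitive G β).1 h)
      have hst : stabilizer G β ≠ ⊤ := fun he => by
        have h2 := index_stabilizer_of_transitive G β
        rw [he, Subgroup.index_top] at h2
        omega
      obtain ⟨M, hlt, hMt⟩ : ∃ M, stabilizer G β < M ∧ M ≠ ⊤ := by
        by_contra hno
        push Not at hno
        exact hns ⟨hst, hno⟩
      obtain ⟨b, e, hb, hnb, hfe, -, hpos, hdM, hfix⟩ := tower_stats hlt.le P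
      have hM1 := one_lt_index hMt
      have hidx : M.index < Nat.card Ω := by
        rw [← index_stabilizer_of_transitive G β]
        exact Subgroup.index_strictAnti hlt
      have hb2 : 2 ≤ b := by
        by_contra hb'
        obtain rfl : b = 1 := by omega
        omega
      have hnn : 0 ≤ dd p (P : Subgroup G) (G ⧸ M) :=
        (IH M.index (hn ▸ hidx)).nonneg rfl hM1 hgen hp2G P
      have he : e = 0 := by
        by_contra he
        have h2 : (2 * (p : ℤ) - 1) * 1 ≤ (2 * (p : ℤ) - 1) * e :=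
          mul_le_mul_of_nonneg_left (by omega) (by omega)
        have h3 := mul_nonneg (Int.natCast_nonneg b) hnn
        omega
      have hD : dd p (P : Subgroup G) (G ⧸ M) ≤ (p : ℤ) - 2 := by
        have h2 : (2 : ℤ) * dd p (P : Subgroup G) (G ⧸ M) ≤ b * dd p (P : Subgroup G) (G ⧸ M) :=
          mul_le_mul_of_nonneg_right (by omega) hnn
        rw [he] at hdM
        push_cast at hdM
        omega
      have hFib := IH M.index (hn ▸ hidx) G (G ⧸ M) rfl hM1 hgen hp2G P (Or.inl hD)
      obtain ⟨M', hMM', hM't, hM'i, hM'fix⟩ := hFib.exists_at ((1 : G) : G ⧸ M)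
      rw [stabilizer_mk] at hMM'
      have hfpos : 0 < fn (P : Subgroup G) (G ⧸ M) := by
        by_contra h0
        rw [dd, show fn (P : Subgroup G) (G ⧸ M) = 0 by omega] at hD
        have := kn_pos (Ω := G ⧸ M) hgen hM1 P
        have : ((p : ℤ) - 1) * 1 ≤ ((p : ℤ) - 1) * kn p (P : Subgroup G) (G ⧸ M) :=
          mul_le_mul_of_nonneg_left (by omega) (by omega)
        omega
      refine ⟨β, M', hlt.le.trans hMM', hM't, hM'i, fun x hx hxp => hfix he hfpos x ?_ hxp⟩
      rw [← stabilizer_mk M]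
      exact hM'fix x hx hxp
    · -- primitive
      have hd : dd p (P : Subgroup G) Ω ≤ (p : ℤ) - 2 := hcase.resolve_right fun h => h.1 hprim
      have hf0 : 0 < fn (P : Subgroup G) Ω := by
        by_contra h0
        rw [dd, show fn (P : Subgroup G) Ω = 0 by omega] at hd
        have : ((p : ℤ) - 1) * 1 ≤ ((p : ℤ) - 1) * kn p (P : Subgroup G) Ω :=
          mul_le_mul_of_nonneg_left (by omega) (by omega)
        omega
      rcases Nat.lt_or_ge (kn p (P : Subgroup G) Ω) 2 with hk | hk
      · -- one block of moved points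
        classical
        obtain ⟨a, ha⟩ := (Set.ncard_pos).1 hf0
        have := Fintype.ofFinite (orbitRel.Quotient (pPart p (stabilizer G a)) Ω)
        obtain ⟨hsf, hsk, -, hsn⟩ := sum_others P ha
        set Q0 := Finset.univ.erase (orb (pPart p (stabilizer G a)) a) with hQ0
        have hkq : ∀ q ∈ Q0, 1 ≤ kn p (sylK P ha : Subgroup (pPart p (stabilizer G a))) q.orbit :=
          fun q hq => kn_pos (Ω := q.orbit) (isPGen_pPart _) (one_lt_card_orbit P hkpos ha q
            fun hm => Finset.ne_of_mem_erase hq (mem_orbit_iff_orb.1 hm).symm) _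
        have hle : Q0.card ≤ 1 := by
          have h2 := Finset.card_nsmul_le_sum Q0 _ 1 hkq
          rw [smul_eq_mul, mul_one, hsk] at h2
          omega
        obtain ⟨q, hq⟩ : Q0.Nonempty := by
          rw [Finset.nonempty_iff_ne_empty]
          intro he
          rw [he, Finset.sum_empty] at hsn
          omega
        have hQ : Q0 = {q} := Finset.eq_singleton_iff_unique_mem.2
          ⟨hq, fun r hr => Finset.card_le_one.1 hle r hr q hq⟩
        rw [hQ, Finset.sum_singleton] at hsf hsk hsn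
        have haq : a ∉ q.orbit := fun hm =>
          Finset.ne_of_mem_erase hq (mem_orbit_iff_orb.1 hm).symm
        have hnn := (IH (Nat.card q.orbit) (by omega)).nonneg rfl
          (one_lt_card_orbit P hkpos ha q haq) (isPGen_pPart _)
          (not_sq_dvd_subgroup hp2G _) (sylK P ha)
        rw [dd, hsk, show kn p (P : Subgroup G) Ω = 1 by omega] at hnn
        have hfp : fn (P : Subgroup G) Ω ≠ p := fun he => not_dvd_fn P hf0 he.symm.dvd
        refine ⟨a, stabilizer G a, le_rfl, fun he => ?_, ?_, fun x hx _ => hx⟩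
        · have h2 := index_stabilizer_of_transitive G a
          rw [he, Subgroup.index_top] at h2
          omega
        · rw [index_stabilizer_of_transitive, hcard, show kn p (P : Subgroup G) Ω = 1 by omega]
          omega
      · exfalso
        haveI := hprim
        have hd' : ((p : ℤ) - 1) * 2 ≤ ((p : ℤ) - 1) * kn p (P : Subgroup G) Ω :=
          mul_le_mul_of_nonneg_left (by omega) (by omega)
        have hfp : fn (P : Subgroup G) Ω ≠ p := fun he => not_dvd_fn P hf0 he.symm.dvd
        rw [dd] at hd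
        refine chain hodd n IH G Ω hn hp2G P 0 hk (by omega) ?_ (by rw [dd]; omega) ?_
        · simpa using Nat.mod_lt _ hp.out.pos
        · rintro ⟨rfl, h2, h3⟩
          rw [h2, h3] at hd
          omega

end CfsgLib.Perm.SylowFix
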