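import Cfsg.Agent.Lib.Perm.SylowFix.Basic
import Cfsg.Agent.Lib.Perm.SylowFix.Fibred
import Cfsg.Agent.Lib.Perm.SylowFix.Alt
import Cfsg.Agent.Lib.Perm.SylowFix.Coprime

/-!
Actions of small deficit of a group with an alternating quotient.
-/

set_option autoImplicit false
set_option linter.unusedSectionVars false
set_option linter.style.haveILetI false

namespace CfsgLib.Perm.SylowFix

open MulAction Pointwise Equiv Equiv.Perm

/-- The degrees for which a `p`-cycle forces the alternating group. -/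
def Good (p m : ℕ) : Prop :=
  m < 2 * p ∧ (p + 3 ≤ m ∨ (p = 3 ∧ m = 5) ∨ (p = 5 ∧ m = 7))

theorem Good.add_two_le {p m : ℕ} (h : Good p m) : p + 2 ≤ m := by
  obtain ⟨-, h | ⟨rfl, rfl⟩ | ⟨rfl, rfl⟩⟩ := h <;> omega

theorem pElt_sign_eq_one {α : Type*} [Fintype α] [DecidableEq α] {p : ℕ} (hp : Odd p)
    {σ : Perm α} (h : IsPElt p σ) : sign σ = 1 := by
  obtain ⟨k, hk⟩ := h
  rcases Int.units_eq_one_or (sign σ) with h1 | h1
  · exact h1
  · exfalso
    have h2 : sign σ ^ (p ^ k) = 1 := by rw [← map_pow, ← hk, pow_orderOf_eq_one, map_one]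
    rw [h1, (hp.pow).neg_one_pow] at h2
    exact absurd h2 (by decide)

theorem choose_two_le_choose {m u : ℕ} (h2 : 2 ≤ u) (hu : 2 * u ≤ m) :
    m.choose 2 ≤ m.choose u := by
  induction u, h2 using Nat.le_induction with
  | base => exact le_rfl
  | succ u hu2 ih =>
    exact (ih (by omega)).trans (Nat.choose_le_succ_of_lt_half_left (by omega))

theorem choose_ratio {f m u : ℕ} (h2 : 2 ≤ u) (huf : u ≤ f) (hfm : f ≤ m) :
    f.choose u * m.choose 2 ≤ f.choose 2 * m.choose u := by
  have h1 := Nat.choose_mul (n := f) (k := u) (s := 2) h2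
  have h3 := Nat.choose_mul (n := m) (k := u) (s := 2) h2
  have h4 : (f - 2).choose (u - 2) ≤ (m - 2).choose (u - 2) := Nat.choose_le_choose _ (by omega)
  have h5 : 0 < u.choose 2 := Nat.choose_pos h2
  refine Nat.le_of_mul_le_mul_right ?_ h5
  calc f.choose u * m.choose 2 * u.choose 2 = f.choose u * u.choose 2 * m.choose 2 := by ring
    _ = f.choose 2 * (f - 2).choose (u - 2) * m.choose 2 := by rw [h1]
    _ ≤ f.choose 2 * (m - 2).choose (u - 2) * m.choose 2 :=
        Nat.mul_le_mul_right _ (Nat.mul_le_mul_left _ h4)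
    _ = f.choose 2 * (m.choose u * u.choose 2) := by rw [h3]; ring
    _ = _ := by ring

/-- The deficit of the action on subsets is large. -/
theorem subsets_deficit {p m u F : ℕ} (hp : 3 ≤ p) (hm : p + 2 ≤ m) (hm2 : m < 2 * p) (hu2 : 2 ≤ u)
    (hu : u ≤ m - p) (hF : F ≤ (m - p).choose u) :
    (2 * (p : ℤ) - 3) * p < ((p : ℤ) - 1) * ((m.choose u : ℕ) - F) - p * F := by
  obtain ⟨f, rfl⟩ : ∃ f, m = p + f := ⟨m - p, by omega⟩
  rw [Nat.add_sub_cancel_left] at hu hF
  have hC2 := choose_two_le_choose (m := p + f) hu2 (by omega)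
  have hr := choose_ratio (f := f) (m := p + f) hu2 hu (by omega)
  have h2a : 2 * f.choose 2 = f * (f - 1) := by
    rw [Nat.choose_two_right, Nat.mul_div_cancel' (Nat.even_mul_pred_self f).two_dvd]
  have h2b : 2 * (p + f).choose 2 = (p + f) * (p + f - 1) := by
    rw [Nat.choose_two_right, Nat.mul_div_cancel' (Nat.even_mul_pred_self (p + f)).two_dvd]
  set C := (p + f).choose u
  have hF' : F * ((p + f) * (p + f - 1)) ≤ f * (f - 1) * C := by
    rw [← h2a, ← h2b]
    calc F * (2 * (p + f).choose 2) ≤ f.choose u * (2 * (p + f).choose 2) :=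
          Nat.mul_le_mul_right _ hF
      _ = 2 * (f.choose u * (p + f).choose 2) := by ring
      _ ≤ 2 * (f.choose 2 * C) := Nat.mul_le_mul_left _ hr
      _ = _ := by ring
  zify [show 1 ≤ f by omega, show 1 ≤ p + f by omega] at hF' h2b hC2
  have hfp : (f : ℤ) ≤ p - 1 := by omega
  have hf2 : (2 : ℤ) ≤ f := by omega
  have hp' : (3 : ℤ) ≤ p := by omega
  set P := ((p : ℤ) + f) * ((p : ℤ) + f - 1) with hP
  have hPpos : 0 < P := by nlinarith
  have hCnn : (0 : ℤ) ≤ C := by omega
  have hkey : 2 * (2 * (p : ℤ) - 1) * ((f : ℤ) * (f - 1)) ≤ ((p : ℤ) - 2) * P := by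
    have e1 : (f : ℤ) * (2 * p - 1) ≤ (p - 1) * (p + f) := by nlinarith
    have e2 : ((f : ℤ) - 1) * (2 * (p - 1)) ≤ (p - 2) * (p + f - 1) := by nlinarith
    have e3 := mul_le_mul e1 e2 (by nlinarith) (by nlinarith)
    have e4 : ((p : ℤ) - 1) * (2 * (2 * p - 1) * ((f : ℤ) * (f - 1))) ≤
        (p - 1) * ((p - 2) * P) := by rw [hP]; nlinarith
    exact le_of_mul_le_mul_left e4 (by omega)
  have hFC : 2 * (2 * (p : ℤ) - 1) * F ≤ ((p : ℤ) - 2) * C := by
    refine le_of_mul_le_mul_right ?_ hPpos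
    calc 2 * (2 * (p : ℤ) - 1) * F * P = 2 * (2 * (p : ℤ) - 1) * ((F : ℤ) * P) := by ring
      _ ≤ 2 * (2 * (p : ℤ) - 1) * ((f : ℤ) * (f - 1) * C) :=
          mul_le_mul_of_nonneg_left hF' (by omega)
      _ = (2 * (2 * (p : ℤ) - 1) * ((f : ℤ) * (f - 1))) * C := by ring
      _ ≤ ((p : ℤ) - 2) * P * C := mul_le_mul_of_nonneg_right hkey hCnn
      _ = _ := by ring
  have hbig : 4 * (2 * (p : ℤ) - 3) < 2 * C := by
    have : ((p : ℤ) + 2) * (p + 1) ≤ P := by rw [hP]; nlinarith
    nlinarith
  nlinarith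

variable {K : Type*} [Group K] [Finite K] {α : Type*} [Fintype α] [DecidableEq α]
  {Y : Type*} [MulAction K Y] [Finite Y] {p : ℕ} [hp : Fact p.Prime]

/-- The standing hypotheses: a `p`-generated group with Sylow order `p` and an alternating
quotient of good degree. -/
structure Top (p : ℕ) (θ : K →* Perm α) : Prop where
  odd : p ≠ 2
  gen : IsPGen p K
  psq : ¬ p ^ 2 ∣ Nat.card K
  range : θ.range = alternatingGroup α
  good : Good p (Fintype.card α)

variable {θ : K →* Perm α}

theorem Top.three_le (h : Top p θ) : 3 ≤ p := by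
  have := hp.out.two_le
  have := h.odd
  omega

theorem Top.five_le (h : Top p θ) : 5 ≤ Fintype.card α := by
  have := h.good.add_two_le
  have := h.three_le
  omega

theorem Top.nontrivial (h : Top p θ) : Nontrivial α :=
  Fintype.one_lt_card_iff_nontrivial.1 (by have := h.five_le; omega)

theorem Top.card_range (h : Top p θ) :
    2 * Nat.card θ.range = (Fintype.card α).factorial := by
  haveI := h.nontrivial
  rw [h.range, two_mul_nat_card_alternatingGroup, Nat.card_perm, Nat.card_eq_fintype_card]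

theorem Top.isSimple (h : Top p θ) : IsSimpleGroup θ.range := by
  haveI := alternatingGroup.isSimpleGroup (α := α)
    (by rw [Nat.card_eq_fintype_card]; exact h.five_le)
  rw [h.range]
  infer_instance

theorem Top.dvd_range (h : Top p θ) : p ∣ Nat.card θ.range := by
  have h1 : p ∣ (Fintype.card α).factorial :=
    Nat.dvd_factorial hp.out.pos (by have := h.good.add_two_le; omega)
  rw [← h.card_range] at h1
  exact ((Nat.coprime_primes hp.out Nat.prime_two).2 h.odd).dvd_of_dvd_mul_left h1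

theorem Top.card_sylow (h : Top p θ) (P : Sylow p K) : Nat.card (P : Subgroup K) = p := by
  obtain ⟨n, hn⟩ := P.isPGroup'.exists_card_eq
  have h1 : n ≤ 1 := by
    by_contra hlt
    exact h.psq ((pow_dvd_pow p (show 2 ≤ n by omega)).trans
      (hn ▸ Subgroup.card_subgroup_dvd_card _))
  have h2 : n ≠ 0 := fun h0 => by
    have h3 : p ∣ Nat.card K := h.dvd_range.trans (Subgroup.card_range_dvd θ)
    have h4 := (hp.out.pow_dvd_iff_le_factorization (k := 1) Nat.card_pos.ne').1 (by simpa using h3)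
    have h5 := P.card_eq_multiplicity
    rw [hn, h0] at h5
    have := Nat.pow_right_injective hp.out.two_le h5
    omega
  rw [hn, show n = 1 by omega, pow_one]

theorem Top.not_dvd_ker (h : Top p θ) : ¬ p ∣ Nat.card θ.ker := fun hd => h.psq (by
  rw [sq, ← θ.ker.card_mul_index, Subgroup.index_ker]
  exact Nat.mul_dvd_mul hd h.dvd_range)

theorem Top.cycle (h : Top p θ) (P : Sylow p K) {x : K} (hx : x ∈ (P : Subgroup K)) (hx1 : x ≠ 1) :
    orderOf x = p ∧ (θ x).IsCycle ∧ (θ x).support.card = p := by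
  have hxo : orderOf x = p := by
    have h1 := orderOf_dvd_natCard (⟨x, hx⟩ : (P : Subgroup K))
    rw [← Subgroup.orderOf_coe, h.card_sylow] at h1
    exact ((Nat.dvd_prime hp.out).1 h1).resolve_left fun he => hx1 (orderOf_eq_one_iff.1 he)
  have hne : θ x ≠ 1 := fun he => h.not_dvd_ker (by
    have h1 := orderOf_dvd_natCard (⟨x, he⟩ : θ.ker)
    rwa [← Subgroup.orderOf_coe, hxo] at h1)
  have ho : orderOf (θ x) = p :=
    ((Nat.dvd_prime hp.out).1 (hxo ▸ orderOf_map_dvd θ x)).resolve_left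
      fun he => hne (orderOf_eq_one_iff.1 he)
  have hc : (θ x).IsCycle := by
    refine isCycle_of_prime_order (by rw [ho]; exact hp.out) ?_
    rw [ho]
    exact (Finset.card_le_univ _).trans_lt h.good.1
  exact ⟨hxo, hc, by rw [← hc.orderOf, ho]⟩

/-- The kernel of a nontrivial transitive action lies in the kernel of the quotient. -/
theorem Top.ker_le (h : Top p θ) [IsPretransitive K Y] (hn : 1 < Nat.card Y) :
    (toPermHom K Y).ker ≤ θ.ker := by
  set Z := (toPermHom K Y).ker
  haveI := h.isSimple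
  have hnorm : (Z.map θ.rangeRestrict).Normal :=
    (MonoidHom.normal_ker (toPermHom K Y)).map _ θ.rangeRestrict_surjective
  rcases hnorm.eq_bot_or_eq_top with h0 | h0
  · intro z hz
    have h1 : θ.rangeRestrict z ∈ Z.map θ.rangeRestrict := ⟨z, hz, rfl⟩
    rw [h0, Subgroup.mem_bot] at h1
    exact congrArg Subtype.val h1
  · exfalso
    have h1 : p ∣ Nat.card Z := by
      have h2 := Subgroup.card_map_dvd Z θ.rangeRestrict
      rw [h0, Subgroup.card_top] at h2
      exact h.dvd_range.trans h2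
    obtain ⟨z, hz⟩ := exists_prime_orderOf_dvd_card' p h1
    have hzp : IsPGroup p (Subgroup.zpowers (z : K)) := IsPGroup.of_card (n := 1) (by
      rw [Nat.card_zpowers, Subgroup.orderOf_coe, hz, pow_one])
    obtain ⟨Q, hQ⟩ := hzp.exists_le_sylow
    have heq : Subgroup.zpowers (z : K) = Q := Subgroup.eq_of_le_of_card_ge hQ (by
      rw [h.card_sylow, Nat.card_zpowers, Subgroup.orderOf_coe, hz])
    obtain ⟨x, hx, a, hxa⟩ := exists_moved (Ω := Y) h.gen hn Q
    rw [← heq] at hx
    have hxZ : x ∈ Z := (Subgroup.zpowers_le.2 z.2) hx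
    exact hxa (Equiv.congr_fun (MonoidHom.mem_ker.1 hxZ) a)

theorem Top.card_range_le (h : Top p θ) [IsPretransitive K Y] (hn : 1 < Nat.card Y) :
    Nat.card θ.range ≤ (Nat.card Y).factorial := by
  rw [← Subgroup.index_ker]
  refine (Nat.le_of_dvd (Nat.pos_of_ne_zero Subgroup.index_ne_zero_of_finite)
    (Subgroup.index_dvd_of_le (h.ker_le (Y := Y) hn))).trans ?_
  rw [Subgroup.index_ker, ← Nat.card_perm]
  exact Subgroup.card_le_card_group _

theorem Top.false_of_small (h : Top p θ) [IsPretransitive K Y] (hn : 1 < Nat.card Y)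
    (hn2 : Nat.card Y ≤ p + 1) : False := by
  have h1 := (h.card_range_le (Y := Y) hn).trans (Nat.factorial_le hn2)
  have h2 := h.card_range
  have h3 := Nat.factorial_le h.good.add_two_le
  rw [Nat.factorial_succ (p + 1)] at h3
  have h4 : 5 * (p + 1).factorial ≤ (p + 1 + 1) * (p + 1).factorial :=
    Nat.mul_le_mul_right _ (by have := h.three_le; omega)
  have := Nat.factorial_pos (p + 1)
  omega

end CfsgLib.Perm.SylowFix
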