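import Cfsg.Agent.Lib.Perm.SylowFix.Natural

/-!
Classification of the small-deficit actions of a group with an alternating quotient.
-/

set_option autoImplicit false
set_option linter.unusedSectionVars false
set_option linter.style.haveILetI false

namespace CfsgLib.Perm.SylowFix

open MulAction Pointwise Equiv Equiv.Perm

theorem exists_even_image {α : Type*} [Fintype α] [DecidableEq α] (S T : Finset α)
    (hST : S.card = T.card) (hT : 1 < T.card) :
    ∃ σ ∈ alternatingGroup α, T.map σ.toEmbedding = S := by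
  obtain ⟨σ, hσ⟩ : ∃ σ : Perm α, T.map σ.toEmbedding = S := by
    obtain ⟨e⟩ : Nonempty ({y // y ∈ T} ≃ {y // y ∈ S}) :=
      ⟨Fintype.equivOfCardEq (by simp [hST])⟩
    refine ⟨e.extendSubtype, Finset.eq_of_subset_of_card_le ?_ (by rw [Finset.card_map, hST])⟩
    intro y hy
    obtain ⟨t, ht, rfl⟩ := Finset.mem_map.1 hy
    exact e.extendSubtype_mem t ht
  rcases Int.units_eq_one_or (sign σ) with h1 | h1
  · exact ⟨σ, mem_alternatingGroup.2 h1, hσ⟩
  · obtain ⟨a, ha, b, hb, hab⟩ := Finset.one_lt_card.1 hT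
    refine ⟨σ * Equiv.swap a b, mem_alternatingGroup.2 (by rw [map_mul, h1, sign_swap hab]; rfl), ?_⟩
    rw [← hσ]
    ext y
    simp only [Finset.mem_map_equiv]
    show ((σ * Equiv.swap a b)⁻¹ : Perm α) y ∈ T ↔ (σ⁻¹ : Perm α) y ∈ T
    rw [mul_inv_rev, swap_inv, Perm.mul_apply]
    by_cases h2 : (σ⁻¹ : Perm α) y = a
    · simp [h2, swap_apply_left, ha, hb]
    by_cases h3 : (σ⁻¹ : Perm α) y = b
    · simp [h3, swap_apply_right, ha, hb]
    rw [swap_apply_of_ne_of_ne h2 h3]

variable {K : Type*} [Group K] [Finite K] {α : Type*} [Fintype α] [DecidableEq α]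
  {Y : Type*} [MulAction K Y] [Finite Y] {p : ℕ} [hp : Fact p.Prime] {θ : K →* Perm α}

theorem Top.ex_gen (h : Top p θ) (P : Sylow p K) : ∃ x ∈ (P : Subgroup K), x ≠ 1 := by
  have hP : (P : Subgroup K) ≠ ⊥ := fun he => by
    have h1 := h.card_sylow P
    rw [he, Subgroup.card_bot] at h1
    exact hp.out.ne_one h1.symm
  exact (P : Subgroup K).ne_bot_iff_exists_ne_one.1 hP |>.elim
    fun x hx => ⟨x, x.2, fun e => hx (Subtype.ext e)⟩

theorem Top.zpowers_eq (h : Top p θ) (P : Sylow p K) {x : K} (hx : x ∈ (P : Subgroup K))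
    (hx1 : x ≠ 1) : Subgroup.zpowers x = P :=
  Subgroup.eq_of_le_of_card_ge (Subgroup.zpowers_le.2 hx)
    (by rw [Nat.card_zpowers, (h.cycle P hx hx1).1, h.card_sylow])

theorem Top.range_le_alt (h : Top p θ) (X : Subgroup K) : X.map θ ≤ alternatingGroup α :=
  h.range ▸ Subgroup.map_le_range θ X

/-- The kernel of the quotient is not transitive on an action of small deficit. -/
theorem Top.no_regular (h : Top p θ) [IsPretransitive K Y] (hn : 1 < Nat.card Y) (P : Sylow p K)
    (hD : dd p (P : Subgroup K) Y ≤ 2 * (p : ℤ) - 3)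
    (hD5 : p = 5 → Fintype.card α = 7 → dd p (P : Subgroup K) Y ≤ 5)
    {β : Y} (hβ : β ∈ fixSet ((P : Subgroup K) : Set K) Y)
    (htop : (stabilizer K β).map θ = alternatingGroup α) : False := by
  classical
  set R := θ.ker
  set k := kn p (P : Subgroup K) Y with hk
  set f := fn (P : Subgroup K) Y with hf
  set ψ := toPermHom K Y
  have hZ : ψ.ker ≤ R := h.ker_le hn
  have hRtrans : ∀ a b : Y, ∃ r ∈ R, r • a = b := by
    have hβb : ∀ b : Y, ∃ r ∈ R, r • β = b := by
      intro b
      obtain ⟨g, rfl⟩ := exists_smul_eq K β b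
      have hg : θ g ∈ (stabilizer K β).map θ := by rw [htop, ← h.range]; exact ⟨g, rfl⟩
      obtain ⟨s, hs, hsg⟩ := hg
      refine ⟨g * s⁻¹, ?_, ?_⟩
      · rw [MonoidHom.mem_ker, map_mul, map_inv, hsg, mul_inv_cancel]
      · rw [mul_smul, inv_smul_eq_iff.2 (mem_stabilizer_iff.1 hs).symm]
    intro a b
    obtain ⟨r₁, hr₁, rfl⟩ := hβb a
    obtain ⟨r₂, hr₂, rfl⟩ := hβb b
    exact ⟨r₂ * r₁⁻¹, mul_mem hr₂ (inv_mem hr₁), by rw [mul_smul, inv_smul_smul]⟩
  obtain ⟨x, hx, hx1⟩ := h.ex_gen P
  obtain ⟨hxo, hxc, hxs⟩ := h.cycle P hx hx1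
  have hxz := h.zpowers_eq P hx hx1
  have hAR : (P : Subgroup K) ≤ Subgroup.normalizer (R : Set K) := fun y _ =>
    Subgroup.le_normalizer_of_normal (H := R) (K := ⊤) (Subgroup.mem_top y)
  have hcop : (Nat.card (P : Subgroup K)).Coprime (Nat.card R) := by
    rw [h.card_sylow]
    exact (Nat.Prime.coprime_iff_not_dvd hp.out).2 h.not_dvd_ker
  have hsolv : Group.IsSolvable (P : Subgroup K) := by
    rw [← hxz]; exact CfsgLib.Coprime.isSolvable_zpowers x
  -- the number of fixed points is at most the number of moved orbits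
  have hfn : f ∣ Nat.card Y := ncard_fixed_dvd_degree hAR hcop hsolv hRtrans hβ
  have hf0 : 0 < f := (Set.ncard_pos).2 ⟨β, hβ⟩
  have hk0 : 0 < k := kn_pos h.gen hn P
  have hcard : Nat.card Y = f + p * k := card_eq P.isPGroup'
  have hfnd : ¬ p ∣ f := not_dvd_fn P hf0
  have hfk : f ≤ k := by
    have h1 : f ∣ p * k := (Nat.dvd_add_right dvd_rfl).1 (hcard ▸ hfn)
    exact Nat.le_of_dvd hk0
      ((((Nat.Prime.coprime_iff_not_dvd hp.out).2 hfnd).symm).dvd_of_dvd_mul_left h1)
  have hp3 := h.three_le
  have hm2 := h.good.add_two_le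
  have hD' : ((p : ℤ) - 1) * k - f ≤ 2 * (p : ℤ) - 3 := hD
  by_cases hp5 : p = 3
  · -- degree `5`
    subst hp5
    have hm : Fintype.card α = 5 := by have := h.good.1; omega
    have hk3 : k ≤ 3 := by push_cast at hD'; omega
    rcases Nat.lt_or_ge k 2 with hk2 | hk2
    · exact h.false_of_small hn (by omega)
    have hcases : (k = 2 ∧ (f = 1 ∨ f = 2)) ∨ (k = 3 ∧ f = 3) := by push_cast at hD'; omega
    rcases hcases with ⟨hk2, hf12⟩ | ⟨-, hf3⟩
    · have hA : Nat.card θ.range = 60 := by
        have := h.card_range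
        rw [hm, show Nat.factorial 5 = 120 by rfl] at this
        omega
      -- the image group
      have := Fintype.ofFinite Y
      set X := ψ.range
      have h9 : ¬ 3 ^ 2 ∣ Nat.card X := fun hd => h.psq (hd.trans (Subgroup.card_range_dvd ψ))
      have hX : X ≤ alternatingGroup Y := by
        rintro _ ⟨g, rfl⟩
        have hg : g ∈ (Equiv.Perm.sign.comp ψ).ker := by
          have : (Equiv.Perm.sign.comp ψ).ker = ⊤ := eq_top_of_isPElt h.gen fun y hy =>
            pElt_sign_eq_one (p := 3) ⟨1, rfl⟩ (isPElt_map ψ hy)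
          rw [this]; trivial
        exact mem_alternatingGroup.2 hg
      have hS : 60 ∣ Nat.card ((stabilizer K β).map ψ) := by
        have h1 : Nat.card ((stabilizer K β).map θ) ∣ Nat.card ((stabilizer K β).map ψ) := by
          rw [← Subgroup.relIndex_ker, ← Subgroup.relIndex_ker]
          exact Subgroup.relIndex_dvd_of_le_left _ hZ
        rwa [htop, ← h.range, hA] at h1
      rcases hf12 with hf1 | hf2
      · -- seven points
        have hY : Fintype.card Y = 7 := by rw [← Nat.card_eq_fintype_card]; omega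
        haveI : Nontrivial Y := Fintype.one_lt_card_iff_nontrivial.1 (by omega)
        have h7 : 7 ∣ Nat.card X := by
          haveI : IsPretransitive X Y := ⟨fun a b => by
            obtain ⟨g, hg⟩ := exists_smul_eq K a b
            exact ⟨⟨ψ g, g, rfl⟩, hg⟩⟩
          have h1 := (stabilizer X β).index_dvd_card
          rwa [index_stabilizer_of_transitive, Nat.card_eq_fintype_card, hY] at h1
        have h420 : 420 ∣ Nat.card X :=
          (show Nat.Coprime 60 7 by norm_num).mul_dvd_of_dvd_of_dvd
            (hS.trans (Subgroup.card_dvd_of_le (Subgroup.map_le_range ψ _))) h7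
        have hXA := eq_alternating_of_card hY hX h420
        apply h9
        rw [hXA, nat_card_alternatingGroup, Nat.card_eq_fintype_card, hY]
        decide
      · -- eight points
        have hY : Fintype.card Y = 8 := by rw [← Nat.card_eq_fintype_card]; omega
        set R' := R.map ψ with hR'
        have hR'5 : ¬ 5 ∣ Nat.card R' := by
          intro hd
          have h1 : Nat.card X = Nat.card θ.range * Nat.card R' := by
            rw [hR', ← Subgroup.index_ker, ← Subgroup.index_ker, ← Subgroup.relIndex_ker,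
              mul_comm, Subgroup.relIndex_mul_index hZ]
          have h2 : Nat.card X ∣ Nat.card (Equiv.Perm Y) := Subgroup.card_subgroup_dvd_card _
          rw [h1, hA, Nat.card_perm, Nat.card_eq_fintype_card (α := Y), hY] at h2
          have h3 : 25 ∣ Nat.factorial 8 := by
            refine Nat.dvd_trans ?_ h2
            exact Nat.dvd_trans (by norm_num : 25 ∣ 5 * 5)
              (Nat.mul_dvd_mul (by norm_num) hd)
          exact absurd h3 (by decide)
        haveI : Fact (Nat.Prime 5) := ⟨Nat.prime_five⟩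
        obtain ⟨y, hy⟩ := exists_prime_orderOf_dvd_card' 5 (G := (stabilizer K β).map ψ)
          ((show 5 ∣ 60 by norm_num).trans hS)
        have hy' : orderOf (y : Perm Y) = 5 := by rw [Subgroup.orderOf_coe]; exact hy
        have hyc : (y : Perm Y).IsCycle := isCycle_of_prime_order (by rw [hy']; exact Nat.prime_five)
          (by rw [hy']; exact (Finset.card_le_univ _).trans_lt (by omega))
        have hys : (y : Perm Y).support.card = 5 := by rw [← hyc.orderOf, hy']
        have hyX : (y : Perm Y) ∈ X := Subgroup.map_le_range ψ _ y.2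
        have hyβ : (y : Perm Y) β = β := by
          obtain ⟨g, hg, hgy⟩ := y.2
          rw [← hgy]
          exact hg
        have hyN : Subgroup.zpowers (y : Perm Y) ≤ Subgroup.normalizer (R' : Set (Perm Y)) := by
          rw [Subgroup.zpowers_le]
          obtain ⟨g, hg⟩ := hyX
          refine Subgroup.mem_normalizer_fintype fun z hz => ?_
          obtain ⟨r, hr, rfl⟩ := hz
          exact ⟨g * r * g⁻¹, θ.normal_ker.conj_mem r hr g, by rw [map_mul, map_mul, map_inv, hg]⟩
        have hd := ncard_fixed_dvd_card (Ω := Y) hyN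
          (by rw [Nat.card_zpowers, hy']; exact (Nat.Prime.coprime_iff_not_dvd Nat.prime_five).2 hR'5)
          (CfsgLib.Coprime.isSolvable_zpowers _)
          (fun a b => by
            obtain ⟨r, hr, hrab⟩ := hRtrans a b
            exact ⟨ψ r, ⟨r, hr, rfl⟩, hrab⟩)
          (a := β) (fun z hz => by
            obtain ⟨i, rfl⟩ := Subgroup.mem_zpowers_iff.1 hz
            exact Perm.zpow_apply_eq_self_of_apply_eq_self hyβ i)
        have hfix : ({b : Y | ∀ z ∈ Subgroup.zpowers (y : Perm Y), z • b = b}).ncard = 3 := by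
          have h1 : {b : Y | ∀ z ∈ Subgroup.zpowers (y : Perm Y), z • b = b} =
              (((y : Perm Y).supportᶜ : Finset Y) : Set Y) := by
            ext b
            simp only [Set.mem_ofPred_eq, Finset.coe_compl, Set.mem_compl_iff, Finset.mem_coe,
              notMem_support]
            exact ⟨fun hb => hb _ (Subgroup.mem_zpowers _), fun hb z hz => by
              obtain ⟨i, rfl⟩ := Subgroup.mem_zpowers_iff.1 hz
              exact Perm.zpow_apply_eq_self_of_apply_eq_self hb i⟩
          rw [h1, Set.ncard_coe_finset, Finset.card_compl, hys, hY]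
        rw [hfix] at hd
        exact h.not_dvd_ker (hd.trans (Subgroup.card_map_dvd R ψ))
    · exact hfnd (by rw [hf3])
  · have hp5' : 5 ≤ p := by
      rcases Nat.lt_or_ge p 5 with hlt | hge
      · exact absurd (show p = 4 by omega ▸ hp.out : Nat.Prime 4) (by norm_num)
      · exact hge
    have hk2 : k ≤ 2 := by
      by_contra hlt
      have h1 : ((p : ℤ) - 2) * 3 ≤ ((p : ℤ) - 2) * k :=
        mul_le_mul_of_nonneg_left (by omega) (by omega)
      nlinarith
    by_cases h57 : p = 5 ∧ Fintype.card α = 7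
    · obtain ⟨rfl, hm⟩ := h57
      have := hD5 rfl hm
      have hD5' : ((5 : ℕ) : ℤ) * k - k - f ≤ 5 := by
        have : ((5 : ℕ) : ℤ) * k - k - f = dd 5 (P : Subgroup K) Y := by
          rw [dd, ← hk, ← hf]; ring
        omega
      exact h.false_of_small hn (by push_cast at hD5'; omega)
    have hm3 : p + 3 ≤ Fintype.card α := by
      rcases h.good.2 with h1 | h1 | h1 <;> omega
    -- a three-cycle on the fixed points of `θ x`
    have hcompl : 2 < (θ x).supportᶜ.card := by rw [Finset.card_compl, hxs]; omega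
    obtain ⟨a, b, c, ha, hb, hc, hab, hac, hbc⟩ := Finset.two_lt_card_iff.1 hcompl
    rw [Finset.mem_compl, notMem_support] at ha hb hc
    set σ : Perm α := Equiv.swap a b * Equiv.swap a c
    have hσ3 : σ.IsThreeCycle := isThreeCycle_swap_mul_swap_same hab hac hbc
    have hcommσ : Commute σ (θ x) := by
      have h1 : ∀ u v, (θ x) u = u → (θ x) v = v → Commute (Equiv.swap u v) (θ x) := by
        intro u v hu hv
        show Equiv.swap u v * θ x = θ x * Equiv.swap u v
        rw [Equiv.swap_mul_eq_mul_swap, Perm.inv_eq_iff_eq.2 hu.symm, Perm.inv_eq_iff_eq.2 hv.symm]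
      exact (h1 a b ha hb).mul_left (h1 a c ha hc)
    obtain ⟨g, hg⟩ : σ ∈ θ.range := h.range ▸ hσ3.mem_alternatingGroup
    obtain ⟨r, hr, hrc⟩ := CfsgLib.Coprime.exists_mul_mem_centralizer (k := g) hAR hcop (Or.inl hsolv)
      (fun y hy => by
        rw [MonoidHom.mem_ker, map_commutatorElement, commutatorElement_eq_one_iff_mul_comm, hg]
        obtain ⟨i, rfl⟩ := Subgroup.mem_zpowers_iff.1 (hxz.symm ▸ hy : y ∈ Subgroup.zpowers x)
        rw [map_zpow]
        exact ((hcommσ.zpow_right i).symm).eq)
    have hθ : θ (r * g) = σ := by rw [map_mul, MonoidHom.mem_ker.1 hr, hg, one_mul]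
    obtain ⟨e, t, ht, het⟩ := Nat.exists_eq_pow_mul_and_not_dvd (orderOf_pos (r * g)).ne' 3 (by norm_num)
    set z := (r * g) ^ t
    have hθz : θ z ≠ 1 := by
      rw [map_pow, hθ]
      exact fun he => ht (hσ3.orderOf ▸ orderOf_dvd_of_pow_eq_one he)
    have hzo : z ^ 3 ^ e = 1 := by
      rw [← pow_mul, mul_comm, ← het, pow_orderOf_eq_one]
    have hzp : IsPGroup 3 (Subgroup.zpowers z) := fun w => ⟨e, by
      obtain ⟨i, hi⟩ := Subgroup.mem_zpowers_iff.1 w.2
      apply Subtype.ext
      rw [Subgroup.coe_pow, ← hi, ← zpow_natCast, ← zpow_mul, mul_comm, zpow_mul, zpow_natCast, hzo,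
        one_zpow]
      rfl⟩
    have hzx : ∀ y ∈ (P : Subgroup K), Commute z y := fun y hy =>
      Commute.pow_left (Subgroup.mem_centralizer_iff.1 hrc y hy).symm t
    haveI : Fact (Nat.Prime 3) := ⟨Nat.prime_three⟩
    -- small orbits of a three-group are trivial
    have hsmall : ∀ {Z : Type _} [MulAction K Z] (S : Set Z), S.Finite → S.ncard ≤ 2 →
        (∀ w ∈ Subgroup.zpowers z, ∀ a ∈ S, w • a ∈ S) → ∀ a ∈ S, z • a = a := by
      intro Z _ S hS hS2 hSinv a ha
      have hfin : (orbit (Subgroup.zpowers z) a).Finite := hS.subset (by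
        rintro _ ⟨w, rfl⟩; exact hSinv _ w.2 a ha)
      haveI := hfin.to_subtype
      obtain ⟨n, hn'⟩ := hzp.card_orbit (α := Z) a
      have h1 : (orbit (Subgroup.zpowers z) a).ncard ≤ 2 :=
        (Set.ncard_le_ncard (by rintro _ ⟨w, rfl⟩; exact hSinv _ w.2 a ha) hS).trans hS2
      rw [Nat.card_coe_set_eq] at hn'
      have hn0 : n = 0 := by
        rcases Nat.eq_zero_or_pos n with h0 | h0
        · exact h0
        · have := Nat.pow_le_pow_right (show 3 > 0 by norm_num) h0
          omega
      rw [hn0, pow_zero] at hn'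
      obtain ⟨d, hd⟩ := Set.ncard_eq_one.1 hn'
      have h2 : z • a ∈ orbit (Subgroup.zpowers z) a := ⟨⟨z, Subgroup.mem_zpowers z⟩, rfl⟩
      have h3 : a ∈ orbit (Subgroup.zpowers z) a := mem_orbit_self _
      rw [hd] at h2 h3
      exact h2.trans h3.symm
    have hwx : ∀ w ∈ Subgroup.zpowers z, ∀ y ∈ (P : Subgroup K), ∀ a : Y, y • w • a = w • y • a := by
      intro w hw y hy a
      obtain ⟨i, rfl⟩ := Subgroup.mem_zpowers_iff.1 hw
      rw [← mul_smul, ← mul_smul, ((hzx y hy).zpow_left i).eq]
    set F := fixSet ((P : Subgroup K) : Set K) Y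
    have hwF : ∀ w ∈ Subgroup.zpowers z, ∀ a ∈ F, w • a ∈ F := fun w hw a ha y hy => by
      rw [hwx w hw y hy, ha y hy]
    have hzF : ∀ a ∈ F, z • a = a :=
      hsmall F (Set.toFinite _) (by show f ≤ 2; omega) hwF
    have hzall : ∀ a : Y, z • a = a := by
      intro γ
      by_cases hγ : γ ∈ F
      · exact hzF γ hγ
      -- the orbit of `γ` is preserved
      set 𝒪 : Set (Set Y) := (fun a => orbit (P : Subgroup K) a) '' Fᶜ
      have horbF : ∀ a, a ∉ F → ∀ b ∈ orbit (P : Subgroup K) a, b ∉ F := by
        rintro a ha _ ⟨⟨y, hy⟩, rfl⟩ hb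
        refine ha fun u hu => ?_
        have h2 : y • a = a := MulAction.injective y (hb y hy)
        have h1 : u • y • a = y • a := hb u hu
        rwa [h2] at h1
      have horbp : ∀ a, a ∉ F → (orbit (P : Subgroup K) a).ncard = p := by
        intro a ha
        have hd : (orbit (P : Subgroup K) a).ncard ∣ p := by
          rw [← index_stabilizer]
          exact (Subgroup.index_dvd_card _).trans (h.card_sylow P).dvd
        rcases (Nat.dvd_prime hp.out).1 hd with h' | h'
        · refine absurd (fun u hu => ?_) ha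
          obtain ⟨w, hw⟩ := Set.ncard_eq_one.1 h'
          have h1 : u • a ∈ orbit (P : Subgroup K) a := ⟨⟨u, hu⟩, rfl⟩
          have h2 : a ∈ orbit (P : Subgroup K) a := mem_orbit_self _
          rw [hw] at h1 h2
          exact h1.trans h2.symm
        · exact h'
      have h𝒪 : 𝒪.ncard ≤ 2 := by
        by_contra hlt
        obtain ⟨O₁, O₂, O₃, h1, h2, h3, h12, h13, h23⟩ :=
          (Set.two_lt_ncard_iff (Set.toFinite _)).1 (not_le.1 hlt)
        obtain ⟨a₁, ha₁, rfl⟩ := h1
        obtain ⟨a₂, ha₂, rfl⟩ := h2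
        obtain ⟨a₃, ha₃, rfl⟩ := h3
        have hd : ∀ {u v : Y}, orbit (P : Subgroup K) u ≠ orbit (P : Subgroup K) v →
            Disjoint (orbit (P : Subgroup K) u) (orbit (P : Subgroup K) v) := fun {u v} hne =>
          Set.disjoint_left.2 fun w hwu hwv =>
            hne ((orbit_eq_iff.2 hwu).symm.trans (orbit_eq_iff.2 hwv))
        have hsub : orbit (P : Subgroup K) a₁ ∪ orbit (P : Subgroup K) a₂ ∪
            orbit (P : Subgroup K) a₃ ⊆ Fᶜ :=
          Set.union_subset (Set.union_subset (horbF a₁ ha₁) (horbF a₂ ha₂)) (horbF a₃ ha₃)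
        have hle := Set.ncard_le_ncard hsub
        rw [Set.ncard_union_eq (Set.disjoint_union_left.2 ⟨hd h13, hd h23⟩),
          Set.ncard_union_eq (hd h12), horbp a₁ ha₁, horbp a₂ ha₂, horbp a₃ ha₃] at hle
        have h4 := Set.ncard_add_ncard_compl F
        change f + _ = _ at h4
        have h5 : p * k ≤ p * 2 := Nat.mul_le_mul_left p hk2
        omega
      have hsmulorb : ∀ w ∈ Subgroup.zpowers z, ∀ a : Y,
          w • orbit (P : Subgroup K) a = orbit (P : Subgroup K) (w • a) := by
        intro w hw a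
        ext b
        constructor
        · rintro ⟨_, ⟨⟨y, hy⟩, rfl⟩, rfl⟩
          exact ⟨⟨y, hy⟩, hwx w hw y hy a⟩
        · rintro ⟨⟨y, hy⟩, rfl⟩
          exact ⟨y • a, ⟨⟨y, hy⟩, rfl⟩, (hwx w hw y hy a).symm⟩
      have hzO : z • orbit (P : Subgroup K) γ = orbit (P : Subgroup K) γ :=
        hsmall 𝒪 (Set.toFinite _) h𝒪 (by
          rintro w hw _ ⟨a, ha, rfl⟩
          refine ⟨w • a, fun hb => ha ?_, (hsmulorb w hw a).symm⟩
          have := hwF w⁻¹ (inv_mem hw) _ hb
          rwa [inv_smul_smul] at this) _ ⟨γ, hγ, rfl⟩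
      obtain ⟨⟨y, hy⟩, hyz⟩ : z • γ ∈ orbit (P : Subgroup K) γ := by
        rw [hsmulorb z (Subgroup.mem_zpowers z)] at hzO
        exact hzO ▸ mem_orbit_self _
      change y • γ = z • γ at hyz
      have hpow : ∀ n : ℕ, z ^ n • γ = y ^ n • γ := by
        intro n
        induction n with
        | zero => simp
        | succ n ih =>
          rw [pow_succ, mul_smul, ← hyz, pow_succ', mul_smul, ← ih]
          exact (hwx (z ^ n) (Subgroup.pow_mem _ (Subgroup.mem_zpowers z) n) y hy γ).symm
      have h3e := hpow (3 ^ e)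
      rw [hzo, one_smul] at h3e
      -- a nontrivial element of the Sylow subgroup moves `γ`
      by_contra hzγ
      have hy1 : y ≠ 1 := fun he => hzγ (by rw [← hyz, he, one_smul])
      have hy3 : y ^ 3 ^ e ≠ 1 := by
        intro he
        have h1 := orderOf_dvd_of_pow_eq_one he
        rw [(h.cycle P hy hy1).1] at h1
        have := (Nat.prime_dvd_prime_iff_eq hp.out Nat.prime_three).1 (hp.out.dvd_of_dvd_pow h1)
        omega
      refine hγ fun u hu => ?_
      rw [← h.zpowers_eq P (pow_mem hy _) hy3] at hu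
      exact (stabilizer K γ).zpowers_le.2 (mem_stabilizer_iff.2 h3e.symm) hu
    apply hθz
    exact hZ (MonoidHom.mem_ker.2 (Equiv.ext hzall))

/-- The point stabiliser of the quotient action. -/
def Top.pointStab (_ : Top p θ) (i : α) : Subgroup K := (stabilizer (Perm α) i).comap θ

theorem Top.pointStab_index (h : Top p θ) (i : α) : (h.pointStab i).index = Fintype.card α := by
  haveI : IsPretransitive (alternatingGroup α) α :=
    alternatingGroup.isPretransitive_of_three_le_card α
      (by rw [Nat.card_eq_fintype_card]; have := h.five_le; omega)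
  rw [Top.pointStab, Subgroup.index_comap, h.range]
  show ((stabilizer (Perm α) i).subgroupOf (alternatingGroup α)).index = _
  rw [← Nat.card_eq_fintype_card, ← index_stabilizer_of_transitive (alternatingGroup α) i]
  congr 1

/-- An action of small deficit is fibred over the natural action. -/
theorem Top.natural (h : Top p θ) [IsPretransitive K Y] (hn : 1 < Nat.card Y) (P : Sylow p K)
    (hD : dd p (P : Subgroup K) Y ≤ 2 * (p : ℤ) - 3)
    (hD5 : p = 5 → Fintype.card α = 7 → dd p (P : Subgroup K) Y ≤ 5) :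
    0 < fn (P : Subgroup K) Y ∧ ∀ β : Y, ∃ i, stabilizer K β ≤ h.pointStab i ∧
      ∀ x ∈ h.pointStab i, IsPElt p x → x • β = β := by
  classical
  have hp3 := h.three_le
  have hm2 := h.good.add_two_le
  have hf0 : 0 < fn (P : Subgroup K) Y := by
    by_contra h0
    simp only [not_lt, nonpos_iff_eq_zero] at h0
    rw [dd, h0] at hD
    push_cast at hD
    have hk : kn p (P : Subgroup K) Y ≤ 1 := by
      by_contra hlt
      have : ((p : ℤ) - 1) * 2 ≤ ((p : ℤ) - 1) * kn p (P : Subgroup K) Y :=
        mul_le_mul_of_nonneg_left (by omega) (by omega)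
      omega
    have hc := card_eq (Ω := Y) P.isPGroup'
    have hpk : p * kn p (P : Subgroup K) Y ≤ p * 1 := Nat.mul_le_mul_left p hk
    exact h.false_of_small hn (by omega)
  refine ⟨hf0, ?_⟩
  obtain ⟨β, hβ⟩ := (Set.ncard_pos).1 hf0
  suffices H : ∃ i, stabilizer K β ≤ h.pointStab i ∧
      ∀ x ∈ h.pointStab i, IsPElt p x → x • β = β by
    obtain ⟨i, hi1, hi2⟩ := H
    intro γ
    obtain ⟨g, rfl⟩ := exists_smul_eq K β γ
    refine ⟨θ g i, fun u hu => ?_, fun u hu hup => ?_⟩
    · have h1 : g⁻¹ * u * g ∈ h.pointStab i := hi1 (by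
        show (g⁻¹ * u * g) • β = β
        rw [mul_smul, mul_smul, mem_stabilizer_iff.1 hu, inv_smul_smul])
      show θ u (θ g i) = θ g i
      change θ (g⁻¹ * u * g) i = i at h1
      rw [map_mul, map_mul, Perm.mul_apply, Perm.mul_apply, map_inv, Perm.inv_eq_iff_eq] at h1
      exact h1
    · have h1 : g⁻¹ * u * g ∈ h.pointStab i := by
        change θ u (θ g i) = θ g i at hu
        show θ (g⁻¹ * u * g) i = i
        rw [map_mul, map_mul, Perm.mul_apply, Perm.mul_apply, map_inv, Perm.inv_eq_iff_eq]
        exact hu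
      have h2 := hi2 _ h1 (by have := isPElt_conj g⁻¹ hup; rwa [inv_inv] at this)
      rw [mul_smul, mul_smul, inv_smul_eq_iff] at h2
      exact h2
  obtain ⟨x, hx, hx1⟩ := h.ex_gen P
  obtain ⟨hxo, hxc, hxs⟩ := h.cycle P hx hx1
  have hxz := h.zpowers_eq P hx hx1
  set Y0 := (stabilizer K β).map θ with hY0
  have hxY0 : θ x ∈ Y0 := ⟨x, hβ x hx, rfl⟩
  obtain ⟨c, hc⟩ : ∃ c, θ x c ≠ c := by
    by_contra hall
    push Not at hall
    exact hxc.ne_one (Equiv.ext hall)
  set T : Finset α := Finset.univ.filter (fun a => a ∈ orbit Y0 c) with hT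
  have hTinv : ∀ g ∈ stabilizer K β, ∀ a, θ g a ∈ T ↔ a ∈ T := by
    intro g hg a
    simp only [hT, Finset.mem_filter, Finset.mem_univ, true_and]
    have hw : θ g ∈ Y0 := ⟨g, hg, rfl⟩
    change (⟨θ g, hw⟩ : Y0) • a ∈ orbit Y0 c ↔ _
    rw [← orbit_eq_iff, orbit_smul, orbit_eq_iff]
  have hsupp : (θ x).support ⊆ T := by
    intro a ha
    obtain ⟨j, hj⟩ := hxc.exists_pow_eq hc (mem_support.1 ha)
    simp only [hT, Finset.mem_filter, Finset.mem_univ, true_and]
    exact ⟨⟨θ x ^ j, pow_mem hxY0 j⟩, hj⟩
  by_cases hTu : T = Finset.univ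
  · exfalso
    haveI : IsPretransitive Y0 α := (isPretransitive_iff_base c).2 fun a => by
      have h1 : a ∈ T := hTu.symm ▸ Finset.mem_univ a
      simp only [hT, Finset.mem_filter, Finset.mem_univ, true_and] at h1
      exact h1
    exact h.no_regular hn P hD hD5 hβ
      (alt_of_cycle (h.range_le_alt _) hxY0 hxc hxs h.good.1 h.good.2)
  have hu0 : 0 < Tᶜ.card := Finset.card_pos.2 (by
    rw [Finset.nonempty_iff_ne_empty, ne_eq, Finset.compl_eq_empty_iff]; exact hTu)
  have hTcard : p ≤ T.card := hxs ▸ Finset.card_le_card hsupp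
  rcases Nat.lt_or_ge Tᶜ.card 2 with hu1 | hu2
  · -- the natural action
    obtain ⟨i, hi⟩ := Finset.card_eq_one.1 (show Tᶜ.card = 1 by omega)
    have hiT : i ∉ T := Finset.mem_compl.1 (hi.symm ▸ Finset.mem_singleton_self i)
    have hle : stabilizer K β ≤ h.pointStab i := by
      intro g hg
      show θ g i = i
      have h1 : θ g i ∈ Tᶜ := Finset.mem_compl.2 fun hm => hiT ((hTinv g hg i).1 hm)
      rw [hi, Finset.mem_singleton] at h1
      exact h1
    refine ⟨i, hle, ?_⟩
    obtain ⟨b, e, hb, hn', hfe, hk', hpos, hdd, hfix⟩ := tower_stats hle P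
    have hQ := card_eq (Ω := K ⧸ h.pointStab i) P.isPGroup'
    rw [show Nat.card (K ⧸ h.pointStab i) = Fintype.card α from h.pointStab_index i] at hQ
    have hkQ := kn_pos (Ω := K ⧸ h.pointStab i) h.gen
      (by show 1 < (h.pointStab i).index; rw [h.pointStab_index]; have := h.five_le; omega) P
    have hfQ := hpos hf0
    have hk1 : kn p (P : Subgroup K) (K ⧸ h.pointStab i) = 1 := by
      by_contra hne
      have : p * 2 ≤ p * kn p (P : Subgroup K) (K ⧸ h.pointStab i) :=
        Nat.mul_le_mul_left p (by omega)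
      have := h.good.1
      omega
    rw [hk1, mul_one] at hQ
    have he : e = 0 := by
      by_contra hne
      have h2 : 0 ≤ dd p (P : Subgroup K) (K ⧸ h.pointStab i) := by
        rw [dd, hk1]
        have := h.good.1
        omega
      have h3 : (2 * (p : ℤ) - 1) * 1 ≤ (2 * (p : ℤ) - 1) * e :=
        mul_le_mul_of_nonneg_left (by omega) (by omega)
      have h4 := mul_nonneg (Int.natCast_nonneg b) h2
      omega
    exact hfix he hfQ
  · -- subsets
    exfalso
    set u := Tᶜ.card
    set M := (stabilizer (Perm α) (T : Set α)).comap θ with hM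
    have hle : stabilizer K β ≤ M := by
      intro g hg
      show θ g • (T : Set α) = (T : Set α)
      ext a
      rw [Set.mem_smul_set_iff_inv_smul_mem, Finset.mem_coe, Finset.mem_coe]
      have := (hTinv g hg ((θ g)⁻¹ a)).symm
      rw [show θ g ((θ g)⁻¹ a) = a from Equiv.apply_symm_apply _ _] at this
      exact this
    have hum : u + T.card = Fintype.card α := by
      have := Finset.card_compl_add_card T
      omega
    have hidx : M.index = (Fintype.card α).choose u := by
      rw [hM, Subgroup.index_comap, h.range]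
      show ((stabilizer (Perm α) (T : Set α)).subgroupOf (alternatingGroup α)).index = _
      have : (stabilizer (Perm α) (T : Set α)).subgroupOf (alternatingGroup α) =
          stabilizer (alternatingGroup α) (T : Set α) := by
        ext g; rfl
      rw [this, index_stabilizer]
      have horb : orbit (alternatingGroup α) (T : Set α) =
          (fun S : Finset α => (S : Set α)) '' ((Finset.univ : Finset α).powersetCard T.card : Set (Finset α)) := by
        ext S
        constructor
        · rintro ⟨g, rfl⟩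
          refine ⟨T.map (g : Perm α).toEmbedding, by simp, ?_⟩
          simp only [Finset.coe_map, Equiv.coe_toEmbedding]
          rfl
        · rintro ⟨S, hS, rfl⟩
          rw [Finset.mem_coe, Finset.mem_powersetCard] at hS
          obtain ⟨σ, hσ, rfl⟩ := exists_even_image S T hS.2 (by omega)
          refine ⟨⟨σ, hσ⟩, ?_⟩
          simp only [Finset.coe_map, Equiv.coe_toEmbedding]
          rfl
      rw [horb, Set.ncard_image_of_injective _ Finset.coe_injective, Set.ncard_coe_finset,
        Finset.card_powersetCard, Finset.card_univ]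
      rw [show T.card = Fintype.card α - u by omega, Nat.choose_symm (by omega)]
    obtain ⟨b, e, hb, hn', hfe, hk', hpos, hdd, -⟩ := tower_stats hle P
    set FQ := fn (P : Subgroup K) (K ⧸ M)
    set kQ := kn p (P : Subgroup K) (K ⧸ M)
    have hQ : (Fintype.card α).choose u = FQ + p * kQ := hidx ▸ card_eq (Ω := K ⧸ M) P.isPGroup'
    have hfF : FQ ≤ ((θ x).supportᶜ.card).choose u := by
      have hrepr : ∀ q : K ⧸ M, ∃ g : K, (g : K ⧸ M) = q := Quotient.exists_rep
      choose g hg using hrepr
      let φ : K ⧸ M → Finset α := fun q => (T.map (θ (g q)).toEmbedding)ᶜ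
      show (fixSet ((P : Subgroup K) : Set K) (K ⧸ M)).ncard ≤ _
      rw [← Finset.card_powersetCard, ← Set.ncard_coe_finset]
      refine Set.ncard_le_ncard_of_injOn φ ?_ ?_
      · intro q hq
        rw [Finset.mem_coe, Finset.mem_powersetCard]
        refine ⟨?_, by simp [φ, Finset.card_compl, u]⟩
        intro a ha
        rw [Finset.mem_compl, notMem_support]
        by_contra hxa
        have hinv : ∀ y, θ x y ∈ T.map (θ (g q)).toEmbedding ↔ y ∈ T.map (θ (g q)).toEmbedding := by
          have h1 := hq x hx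
          rw [← hg q, MulAction.Quotient.smul_coe, QuotientGroup.eq] at h1
          change θ ((x • g q)⁻¹ * g q) • (T : Set α) = (T : Set α) at h1
          rw [smul_eq_mul, map_mul, map_inv, map_mul, mul_smul, inv_smul_eq_iff, mul_smul] at h1
          intro y
          have h2 : θ x y ∈ θ (g q) • (T : Set α) ↔ θ x y ∈ θ x • θ (g q) • (T : Set α) := by
            rw [← h1]
          change θ x • y ∈ _ ↔ θ x • y ∈ _ at h2
          rw [Set.smul_mem_smul_set_iff (a := θ x)] at h2
          simp only [Finset.mem_map_equiv]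
          rw [Set.mem_smul_set_iff_inv_smul_mem, Set.mem_smul_set_iff_inv_smul_mem] at h2
          exact h2
        have hall : (θ x).support ⊆ (T.map (θ (g q)).toEmbedding)ᶜ := by
          intro y hy
          obtain ⟨j, rfl⟩ := hxc.exists_pow_eq hxa (mem_support.1 hy)
          rw [Finset.mem_compl]
          clear hy
          induction j with
          | zero => simpa [φ] using ha
          | succ j ih => rwa [pow_succ', Perm.mul_apply, hinv]
        have hle' := Finset.card_le_card hall
        rw [Finset.card_compl, Finset.card_map, hxs] at hle'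
        have := h.good.1
        omega
      · intro q _ q' _ hqq
        have h1 := compl_injective hqq
        have h2 : θ (g q) • (T : Set α) = θ (g q') • (T : Set α) := by
          have := congrArg (fun S : Finset α => (S : Set α)) h1
          simp only [Finset.coe_map, Equiv.coe_toEmbedding] at this
          exact this
        rw [← hg q, ← hg q', QuotientGroup.eq]
        show θ ((g q)⁻¹ * g q') • (T : Set α) = T
        rw [map_mul, map_inv, mul_smul, inv_smul_eq_iff, h2]
    rw [Finset.card_compl, hxs] at hfF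
    have hbound := subsets_deficit (u := u) hp3 hm2 h.good.1 hu2 (by omega) hfF
    have hQz : ((Fintype.card α).choose u : ℤ) = FQ + p * kQ := by exact_mod_cast hQ
    have hDQ : 2 * (p : ℤ) - 3 < dd p (P : Subgroup K) (K ⧸ M) := by
      rw [dd]
      rw [hQz] at hbound
      refine lt_of_mul_lt_mul_right (a := (p : ℤ)) ?_ (by omega)
      show _ < (((p : ℤ) - 1) * kQ - FQ) * p
      linarith
    have h3 : (0 : ℤ) ≤ (2 * (p : ℤ) - 1) * e := mul_nonneg (by omega) (by omega)
    have h4 : dd p (P : Subgroup K) (K ⧸ M) * 1 ≤ dd p (P : Subgroup K) (K ⧸ M) * b :=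
      mul_le_mul_of_nonneg_left (by omega) (by omega)
    rw [mul_comm (b : ℤ)] at hdd
    omega

/-- In the conclusion of `Top.natural` the action is fibred. -/
theorem Top.fibred (h : Top p θ) [IsPretransitive K Y] (hn : 1 < Nat.card Y) (P : Sylow p K)
    (hD : dd p (P : Subgroup K) Y ≤ 2 * (p : ℤ) - 3)
    (hD5 : p = 5 → Fintype.card α = 7 → dd p (P : Subgroup K) Y ≤ 5) : Fibred p K Y := by
  obtain ⟨hf, hall⟩ := h.natural hn P hD hD5
  obtain ⟨β, hβ⟩ := (Set.ncard_pos).1 hf
  obtain ⟨i, hi1, hi2⟩ := hall β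
  refine ⟨β, _, hi1, fun he => ?_, by rw [h.pointStab_index]; exact h.good.1, hi2⟩
  have := h.pointStab_index i
  rw [he, Subgroup.index_top] at this
  have := h.five_le
  omega

end CfsgLib.Perm.SylowFix
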