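import Cfsg.Agent.Lib.Perm.SylowFix.TwoOrbits

/-!
The reduction step: a primitive action with many fixed points and small deficit restricts to one
of the same kind on one point fewer.
-/

set_option autoImplicit false
set_option linter.unusedSectionVars false
set_option linter.style.haveILetI false

namespace CfsgLib.Perm.SylowFix

open MulAction Pointwise

variable {p : ℕ} [hp : Fact p.Prime]

/-- Small deficit forces fibredness; hence the deficit is not negative. -/
theorem dd_nonneg_of_fibred {K : Type*} [Group K] [Finite K] {Y : Type*} [MulAction K Y] [Finite Y]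
    [IsPretransitive K Y] (hgen : IsPGen p K) (P : Sylow p K)
    (h : dd p (P : Subgroup K) Y ≤ (p : ℤ) - 2 → Fibred p K Y) :
    0 ≤ dd p (P : Subgroup K) Y := by
  by_contra hneg
  have hp2 := hp.out.two_le
  have hf : 0 < fn (P : Subgroup K) Y := by
    by_contra h0
    apply hneg
    rw [dd, show fn (P : Subgroup K) Y = 0 by omega]
    have := mul_nonneg (show (0 : ℤ) ≤ (p : ℤ) - 1 by omega)
      (Int.natCast_nonneg (kn p (P : Subgroup K) Y))
    omega
  obtain ⟨m, b, -, hm2, -, -, -, -, hD⟩ := (h (by omega)).stats hgen P hf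
  apply hneg
  rw [hD]
  exact mul_nonneg (Int.natCast_nonneg b) (by omega)

theorem pair_le_sum {ι : Type*} [DecidableEq ι] {s : Finset ι} {F : ι → ℤ}
    (h : ∀ i ∈ s, 0 ≤ F i) {i j : ι} (hi : i ∈ s) (hj : j ∈ s) (hij : i ≠ j) :
    F i + F j ≤ ∑ x ∈ s, F x := by
  rw [← Finset.sum_pair (f := F) hij]
  exact Finset.sum_le_sum_of_subset_of_nonneg
    (Finset.insert_subset hi (Finset.singleton_subset_iff.2 hj)) fun x hx _ => h x hx

theorem triple_le_sum {ι : Type*} [DecidableEq ι] {s : Finset ι} {F : ι → ℤ}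
    (h : ∀ i ∈ s, 0 ≤ F i) {i j k : ι} (hi : i ∈ s) (hj : j ∈ s) (hk : k ∈ s) (hij : i ≠ j)
    (hik : i ≠ k) (hjk : j ≠ k) : F i + (F j + F k) ≤ ∑ x ∈ s, F x := by
  rw [← Finset.sum_pair (f := F) hjk, ← Finset.sum_insert (f := F) (by simp [hij, hik])]
  exact Finset.sum_le_sum_of_subset_of_nonneg (Finset.insert_subset hi
    (Finset.insert_subset hj (Finset.singleton_subset_iff.2 hk))) fun x hx _ => h x hx

/-- The shape of a fibred action without good witnesses. -/
theorem fibred_small_shape {K : Type*} [Group K] [Finite K] {Y : Type*} [MulAction K Y] [Finite Y]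
    [IsPretransitive K Y] (hgen : IsPGen p K) (P : Sylow p K)
    (hf : 0 < fn (P : Subgroup K) Y) {β : Y} {M : Subgroup K} (hβM : stabilizer K β ≤ M)
    (hM : M ≠ ⊤) (hidx : M.index < 2 * p) (hfix : ∀ x ∈ M, IsPElt p x → x • β = β)
    (hbad : ¬ Good p M.index) :
    ∃ f' b : ℕ, 0 < f' ∧ f' ≤ 2 ∧ (f' = 2 → 7 ≤ p) ∧ 0 < b ∧ Nat.card Y = b * (p + f') ∧
      fn (P : Subgroup K) Y = b * f' ∧ kn p (P : Subgroup K) Y = b ∧
      dd p (P : Subgroup K) Y = b * ((p : ℤ) - 1 - f') := by
  obtain ⟨b, hpm, hb, hn, hfn, hk, hD⟩ := fibred_data hgen P hf hβM hM hidx hfix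
  obtain ⟨f', hf'⟩ := Nat.exists_eq_add_of_lt hpm
  refine ⟨f' + 1, b, by omega, ?_, ?_, hb, by rw [hn, hf']; ring, ?_, hk, ?_⟩
  · by_contra hlt
    exact hbad ⟨hidx, Or.inl (by omega)⟩
  · intro h2
    have hp2 := hp.out.two_le
    by_contra hlt
    rcases (show p = 3 ∨ p = 4 ∨ p = 5 ∨ p = 6 by omega) with h | h | h | h
    · exact hbad ⟨hidx, Or.inr (Or.inl ⟨h, by omega⟩)⟩
    · exact absurd (h ▸ hp.out : Nat.Prime 4) (by norm_num)
    · exact hbad ⟨hidx, Or.inr (Or.inr ⟨h, by omega⟩)⟩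
    · exact absurd (h ▸ hp.out : Nat.Prime 6) (by norm_num)
  · rw [hfn, show M.index - p = f' + 1 by omega]
  · rw [hD, hf']; push_cast; ring

variable {G : Type*} [Group G] [Finite G] {Ω : Type*} [MulAction G Ω] [Finite Ω]

theorem one_lt_card_orbit [IsPreprimitive G Ω] [Nontrivial Ω] (P : Sylow p G)
    (hk : 0 < kn p (P : Subgroup G) Ω) {a : Ω} (ha : a ∈ fixSet ((P : Subgroup G) : Set G) Ω)
    (q : orbitRel.Quotient (pPart p (stabilizer G a)) Ω) (hq : a ∉ q.orbit) :
    1 < Nat.card q.orbit := by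
  obtain ⟨c, hc⟩ : ∃ c, orb (pPart p (stabilizer G a)) c = q := Quotient.exists_rep q
  have hcm : c ∈ q.orbit := mem_orbit_iff_orb.2 hc
  rw [Nat.card_coe_set_eq]
  by_contra hle
  refine hq ?_
  have hone := (Set.ncard_le_one (Set.toFinite _)).1 (not_lt.1 hle)
  have hca : c = a := eq_of_pPart_fix P hk ha fun x hx => by
    refine hone _ ?_ _ hcm
    rw [mem_orbit_iff_orb, ← hc]
    exact Quotient.sound (s := orbitRel (pPart p (stabilizer G a)) Ω) ⟨⟨x, hx⟩, rfl⟩
  exact hca ▸ hcm

theorem card_orbit_lt {K : Subgroup G} {a : Ω} (q : orbitRel.Quotient K Ω) (hq : a ∉ q.orbit) :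
    Nat.card q.orbit < Nat.card Ω := by
  rw [Nat.card_coe_set_eq, ← Set.ncard_univ Ω]
  exact Set.ncard_lt_ncard (Set.ssubset_univ_iff.2 fun he => hq (he ▸ Set.mem_univ a))

/-- The orbit sums away from the fixed point. -/
theorem sum_others (P : Sylow p G) {a : Ω} (ha : a ∈ fixSet ((P : Subgroup G) : Set G) Ω)
    [Fintype (orbitRel.Quotient (pPart p (stabilizer G a)) Ω)]
    [DecidableEq (orbitRel.Quotient (pPart p (stabilizer G a)) Ω)] :
    (∑ q ∈ Finset.univ.erase (orb (pPart p (stabilizer G a)) a),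
        fn (sylK P ha : Subgroup (pPart p (stabilizer G a))) q.orbit) + 1 = fn (P : Subgroup G) Ω ∧
      (∑ q ∈ Finset.univ.erase (orb (pPart p (stabilizer G a)) a),
        kn p (sylK P ha : Subgroup (pPart p (stabilizer G a))) q.orbit) =
          kn p (P : Subgroup G) Ω ∧
      (∑ q ∈ Finset.univ.erase (orb (pPart p (stabilizer G a)) a),
        dd p (sylK P ha : Subgroup (pPart p (stabilizer G a))) q.orbit) =
          dd p (P : Subgroup G) Ω + 1 ∧
      (∑ q ∈ Finset.univ.erase (orb (pPart p (stabilizer G a)) a), Nat.card q.orbit) + 1 =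
          Nat.card Ω := by
  have hKa : ∀ x : pPart p (stabilizer G a), x • a = a := fun x => pPart_le (p := p) _ x.2
  have hP' := (sylK P ha).isPGroup'
  refine ⟨?_, ?_, ?_, ?_⟩
  · rw [← fn_sylK P ha, fn_eq_sum_orbits,
      ← Finset.add_sum_erase _ _ (Finset.mem_univ (orb (pPart p (stabilizer G a)) a)),
      fn_orbit_fixed hKa, add_comm]
  · rw [← kn_sylK P ha, kn_eq_sum_orbits hP',
      ← Finset.add_sum_erase Finset.univ (fun q : orbitRel.Quotient (pPart p (stabilizer G a)) Ω =>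
        kn p (sylK P ha : Subgroup (pPart p (stabilizer G a))) q.orbit)
        (Finset.mem_univ (orb (pPart p (stabilizer G a)) a)), kn_orbit_fixed hKa, zero_add]
  · rw [← dd_subtype P (le_pPart_stabilizer P ha)]
    show _ = dd p (sylK P ha : Subgroup (pPart p (stabilizer G a))) Ω + 1
    rw [dd_eq_sum_orbits hP',
      ← Finset.add_sum_erase Finset.univ (fun q : orbitRel.Quotient (pPart p (stabilizer G a)) Ω =>
        dd p (sylK P ha : Subgroup (pPart p (stabilizer G a))) q.orbit)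
        (Finset.mem_univ (orb (pPart p (stabilizer G a)) a))]
    simp only [dd, kn_orbit_fixed hKa, fn_orbit_fixed hKa]
    push_cast
    ring
  · rw [card_eq_sum_orbits (G := pPart p (stabilizer G a)) (Ω := Ω),
      ← Finset.add_sum_erase Finset.univ (fun q : orbitRel.Quotient _ Ω => Nat.card q.orbit)
        (Finset.mem_univ (orb (pPart p (stabilizer G a)) a)), card_orbit_fixed hKa, add_comm]

/-- The reduction step. -/
theorem step [IsPreprimitive G Ω] (hodd : p ≠ 2) (hp2G : ¬ p ^ 2 ∣ Nat.card G) (P : Sylow p G)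
    (hk : 2 ≤ kn p (P : Subgroup G) Ω) (hf : p < fn (P : Subgroup G) Ω)
    (hdd : dd p (P : Subgroup G) Ω ≤ 2 * (p : ℤ) - 4)
    (hexc : ¬ (p = 3 ∧ kn p (P : Subgroup G) Ω = 3 ∧ fn (P : Subgroup G) Ω = 4))
    (IH : ∀ (K : Subgroup G) (q : orbitRel.Quotient K Ω), 1 < Nat.card q.orbit →
      Nat.card q.orbit < Nat.card Ω → IsPGen p K → ¬ p ^ 2 ∣ Nat.card K → ∀ P' : Sylow p K,
      (dd p (P' : Subgroup K) q.orbit ≤ (p : ℤ) - 2 ∨
        (¬ IsPreprimitive K q.orbit ∧ dd p (P' : Subgroup K) q.orbit ≤ 2 * (p : ℤ) - 3)) →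
      Fibred p K q.orbit) :
    ∃ (a : Ω) (ha : a ∈ fixSet ((P : Subgroup G) : Set G) Ω)
      (q : orbitRel.Quotient (pPart p (stabilizer G a)) Ω),
      a ∉ q.orbit ∧ IsPreprimitive (pPart p (stabilizer G a)) q.orbit ∧
      Nat.card q.orbit + 1 = Nat.card Ω ∧
      fn (sylK P ha : Subgroup (pPart p (stabilizer G a))) q.orbit + 1 = fn (P : Subgroup G) Ω ∧
      kn p (sylK P ha : Subgroup (pPart p (stabilizer G a))) q.orbit = kn p (P : Subgroup G) Ω ∧
      dd p (sylK P ha : Subgroup (pPart p (stabilizer G a))) q.orbit =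
        dd p (P : Subgroup G) Ω + 1 := by
  classical
  have hp3 : 3 ≤ p := by have := hp.out.two_le; omega
  obtain ⟨a, ha⟩ := (Set.ncard_pos).1 (show 0 < fn (P : Subgroup G) Ω by omega)
  have hcard := card_eq (Ω := Ω) P.isPGroup'
  haveI : Nontrivial Ω := Finite.one_lt_card_iff_nontrivial.1 (by omega)
  have := Fintype.ofFinite (orbitRel.Quotient (pPart p (stabilizer G a)) Ω)
  obtain ⟨hsf, hsk, hsd, hsn⟩ := sum_others P ha
  set P' := sylK P ha with hP'
  set Q0 := Finset.univ.erase (orb (pPart p (stabilizer G a)) a) with hQ0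
  have hKa : ∀ x : pPart p (stabilizer G a), x • a = a := fun x => pPart_le (p := p) _ x.2
  have hgen : IsPGen p (pPart p (stabilizer G a)) := isPGen_pPart _
  have hpsq := not_sq_dvd_subgroup hp2G (pPart p (stabilizer G a))
  have hmem : ∀ q ∈ Q0, a ∉ q.orbit := fun q hq hm =>
    Finset.ne_of_mem_erase hq (mem_orbit_iff_orb.1 hm).symm
  have hout : ∀ q, a ∉ q.orbit → q ∈ Q0 := fun q hq =>
    Finset.mem_erase.2 ⟨fun he => hq (he ▸ mem_orb _ a), Finset.mem_univ q⟩
  have hbig : ∀ q ∈ Q0, 1 < Nat.card q.orbit := fun q hq =>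
    one_lt_card_orbit P (by omega) ha q (hmem q hq)
  have hIH : ∀ q ∈ Q0, (dd p (P' : Subgroup (pPart p (stabilizer G a))) q.orbit ≤ (p : ℤ) - 2 ∨
      (¬ IsPreprimitive (pPart p (stabilizer G a)) q.orbit ∧
        dd p (P' : Subgroup (pPart p (stabilizer G a))) q.orbit ≤ 2 * (p : ℤ) - 3)) →
      Fibred p (pPart p (stabilizer G a)) q.orbit := fun q hq =>
    IH _ q (hbig q hq) (card_orbit_lt q (hmem q hq)) hgen hpsq P'
  have hnn : ∀ q ∈ Q0, 0 ≤ dd p (P' : Subgroup (pPart p (stabilizer G a))) q.orbit := fun q hq =>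
    dd_nonneg_of_fibred hgen P' fun h => hIH q hq (Or.inl h)
  have hone : ∀ q ∈ Q0, dd p (P' : Subgroup (pPart p (stabilizer G a))) q.orbit ≤
      dd p (P : Subgroup G) Ω + 1 := fun q hq =>
    hsd ▸ Finset.single_le_sum hnn hq
  -- a nonfibred orbit is primitive of large deficit
  have hclass : ∀ q ∈ Q0, (Fibred p (pPart p (stabilizer G a)) q.orbit ∧
      0 < fn (P' : Subgroup (pPart p (stabilizer G a))) q.orbit) ∨
      (IsPreprimitive (pPart p (stabilizer G a)) q.orbit ∧
        (p : ℤ) - 1 ≤ dd p (P' : Subgroup (pPart p (stabilizer G a))) q.orbit) := by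
    intro q hq
    have h1 := hone q hq
    by_cases hsmall : dd p (P' : Subgroup (pPart p (stabilizer G a))) q.orbit ≤ (p : ℤ) - 2
    · refine Or.inl ⟨hIH q hq (Or.inl hsmall), ?_⟩
      by_contra h0
      rw [dd, show fn (P' : Subgroup (pPart p (stabilizer G a))) q.orbit = 0 by omega] at hsmall
      have h2 := kn_pos (Ω := q.orbit) hgen (hbig q hq) P'
      have : ((p : ℤ) - 1) * 1 ≤ ((p : ℤ) - 1) *
          kn p (P' : Subgroup (pPart p (stabilizer G a))) q.orbit :=
        mul_le_mul_of_nonneg_left (by omega) (by omega)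
      omega
    by_cases hprim : IsPreprimitive (pPart p (stabilizer G a)) q.orbit
    · exact Or.inr ⟨hprim, by omega⟩
    refine Or.inl ⟨hIH q hq (Or.inr ⟨hprim, by omega⟩), ?_⟩
    by_contra h0
    have h2 := kn_pos (Ω := q.orbit) hgen (hbig q hq) P'
    have h3 : kn p (P' : Subgroup (pPart p (stabilizer G a))) q.orbit = 1 := by
      rw [dd, show fn (P' : Subgroup (pPart p (stabilizer G a))) q.orbit = 0 by omega] at h1
      by_contra hne
      have : ((p : ℤ) - 1) * 2 ≤ ((p : ℤ) - 1) *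
          kn p (P' : Subgroup (pPart p (stabilizer G a))) q.orbit :=
        mul_le_mul_of_nonneg_left (by omega) (by omega)
      omega
    have h4 := card_eq (Ω := q.orbit) P'.isPGroup'
    rw [h3, show fn (P' : Subgroup (pPart p (stabilizer G a))) q.orbit = 0 by omega, zero_add,
      mul_one] at h4
    exact hprim (IsPreprimitive.of_prime_card (by rw [h4]; exact hp.out))
  -- linking to one subgroup is impossible
  have hord : Nat.card (P : Subgroup G) = p := by
    obtain ⟨j, hj⟩ := P.isPGroup'.exists_card_eq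
    rcases Nat.lt_or_ge j 2 with hj2 | hj2
    · rcases (show j = 0 ∨ j = 1 by omega) with rfl | rfl
      · rw [pow_zero, Subgroup.card_eq_one] at hj
        have : fn (P : Subgroup G) Ω = Nat.card Ω := by
          rw [fn, show fixSet ((P : Subgroup G) : Set G) Ω = Set.univ from
            Set.eq_univ_of_forall fun c x hx => by
              rw [hj, Subgroup.coe_bot, Set.mem_singleton_iff] at hx
              rw [hx, one_smul], Set.ncard_univ]
        have := Nat.mul_pos hp.out.pos (show 0 < kn p (P : Subgroup G) Ω by omega)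
        omega
      · rw [hj, pow_one]
    · exact absurd ((pow_dvd_pow p hj2).trans (hj ▸ Subgroup.card_subgroup_dvd_card _)) hp2G
  have hlinked : ∀ M : Subgroup (pPart p (stabilizer G a)), M ≠ ⊤ → M.index < 2 * p →
      (∀ q ∈ Q0, 0 < fn (P' : Subgroup (pPart p (stabilizer G a))) q.orbit ∧
        Linked p (pPart p (stabilizer G a)) q.orbit M) → False := fun M hM hidx h => by
    have := fn_le_of_linked hp2G P hord ha hM hidx (fun q hq => h q (hout q hq)) hk
    omega
  by_cases hsingle : ∃ q0 ∈ Q0, ∀ q ∈ Q0, q = q0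
  · obtain ⟨q0, hq0, huniq⟩ := hsingle
    have hQ : Q0 = {q0} := Finset.eq_singleton_iff_unique_mem.2 ⟨hq0, huniq⟩
    rw [hQ, Finset.sum_singleton] at hsf hsk hsd hsn
    rcases hclass q0 hq0 with ⟨⟨β, M, hβ, hM, hidx, hfix⟩, hpos⟩ | ⟨hprim, -⟩
    · exfalso
      refine hlinked M hM hidx fun q hq => ?_
      obtain rfl := huniq q hq
      exact ⟨hpos, β, hβ, hfix⟩
    · exact ⟨a, ha, q0, hmem q0 hq0, hprim, hsn, hsf, hsk, hsd⟩
  exfalso
  push Not at hsingle
  by_cases hgood : ∃ q ∈ Q0, 0 < fn (P' : Subgroup (pPart p (stabilizer G a))) q.orbit ∧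
      ∃ (β : q.orbit) (M : Subgroup (pPart p (stabilizer G a))),
        stabilizer (pPart p (stabilizer G a)) β ≤ M ∧ M ≠ ⊤ ∧ Good p M.index ∧
          ∀ x ∈ M, IsPElt p x → x • β = β
  · obtain ⟨q1, hq1, hpos, β, M, hβ, hM, hG, hfix⟩ := hgood
    refine hlinked M hM hG.1 fun q hq => ?_
    by_cases hqq : q = q1
    · subst hqq; exact ⟨hpos, β, hβ, hfix⟩
    refine linked_of_good hodd hgen hpsq hM hG P' (hbig q hq) (by have := hone q hq; omega)
      fun h5 h7 => ?_
    obtain ⟨b, -, hb, -, -, -, hD1⟩ := fibred_data hgen P' hpos hβ hM hG.1 hfix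
    have hsum2 : dd p (P' : Subgroup (pPart p (stabilizer G a))) q.orbit +
        dd p (P' : Subgroup (pPart p (stabilizer G a))) q1.orbit ≤ dd p (P : Subgroup G) Ω + 1 := by
      exact hsd ▸ pair_le_sum hnn hq hq1 hqq
    rw [hD1, show (2 * (p : ℤ) - 1 - M.index) = 2 by omega] at hsum2
    omega
  -- no good orbit
  have hshape : ∀ q ∈ Q0, Fibred p (pPart p (stabilizer G a)) q.orbit →
      0 < fn (P' : Subgroup (pPart p (stabilizer G a))) q.orbit →
      ∃ f' b : ℕ, 0 < f' ∧ f' ≤ 2 ∧ (f' = 2 → 7 ≤ p) ∧ 0 < b ∧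
        Nat.card q.orbit = b * (p + f') ∧
        fn (P' : Subgroup (pPart p (stabilizer G a))) q.orbit = b * f' ∧
        kn p (P' : Subgroup (pPart p (stabilizer G a))) q.orbit = b ∧
        dd p (P' : Subgroup (pPart p (stabilizer G a))) q.orbit = b * ((p : ℤ) - 1 - f') := by
    intro q hq ⟨β, M, hβ, hM, hidx, hfix⟩ hpos
    exact fibred_small_shape hgen P' hpos hβ hM hidx hfix
      fun hG => hgood ⟨q, hq, hpos, β, M, hβ, hM, hG, hfix⟩
  by_cases hY : ∃ Y ∈ Q0, ¬ (Fibred p (pPart p (stabilizer G a)) Y.orbit ∧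
      0 < fn (P' : Subgroup (pPart p (stabilizer G a))) Y.orbit)
  · obtain ⟨Y, hY0, hYn⟩ := hY
    obtain ⟨hYprim, hY1⟩ := (hclass Y hY0).resolve_left hYn
    obtain ⟨O, hO, hOY⟩ := hsingle Y hY0
    have hothers : ∀ q ∈ Q0, q ≠ Y → ∃ f' : ℕ, 0 < f' ∧ f' ≤ 2 ∧ (f' = 2 → 7 ≤ p) ∧
        Fibred p (pPart p (stabilizer G a)) q.orbit ∧
        Nat.card q.orbit = p + f' ∧ fn (P' : Subgroup (pPart p (stabilizer G a))) q.orbit = f' ∧
        kn p (P' : Subgroup (pPart p (stabilizer G a))) q.orbit = 1 ∧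
        dd p (P' : Subgroup (pPart p (stabilizer G a))) q.orbit = (p : ℤ) - 1 - f' := by
      intro q hq hqY
      have hsum2 : dd p (P' : Subgroup (pPart p (stabilizer G a))) q.orbit +
          dd p (P' : Subgroup (pPart p (stabilizer G a))) Y.orbit ≤
          dd p (P : Subgroup G) Ω + 1 := by
        exact hsd ▸ pair_le_sum hnn hq hY0 hqY
      rcases hclass q hq with ⟨hF, hpos⟩ | ⟨-, hbad⟩
      swap
      · omega
      obtain ⟨f', b, hf'0, hf'2, hf'7, hb, hn, hfn, hkn, hD⟩ := hshape q hq hF hpos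
      have hb1 : b = 1 := by
        by_contra hne
        have : 2 * ((p : ℤ) - 1 - f') ≤ b * ((p : ℤ) - 1 - f') :=
          mul_le_mul_of_nonneg_right (by omega) (by omega)
        omega
      subst hb1
      exact ⟨f', hf'0, hf'2, hf'7, hF, by rw [hn, one_mul], by rw [hfn, one_mul], hkn,
        by rw [hD]; push_cast; ring⟩
    obtain ⟨f', hf'0, hf'2, hf'7, hF, hn, hfn, hkn, hD⟩ := hothers O hO hOY
    have hQ : Q0 = {O, Y} := by
      refine (Finset.eq_of_subset_of_card_le
        (Finset.insert_subset hO (Finset.singleton_subset_iff.2 hY0)) ?_).symm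
      by_contra hlt
      rw [Finset.card_pair hOY] at hlt
      have hss : {O, Y} ⊆ Q0 := Finset.insert_subset hO (Finset.singleton_subset_iff.2 hY0)
      obtain ⟨q, hq⟩ : (Q0 \ {O, Y}).Nonempty := by
        rw [← Finset.card_pos, Finset.card_sdiff_of_subset hss, Finset.card_pair hOY]
        omega
      simp only [Finset.mem_sdiff, Finset.mem_insert, Finset.mem_singleton, not_or] at hq
      obtain ⟨f'', -, hf''2, hf''7, -, -, -, -, hD''⟩ := hothers q hq.1 hq.2.2
      have h3 : dd p (P' : Subgroup (pPart p (stabilizer G a))) q.orbit +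
          (dd p (P' : Subgroup (pPart p (stabilizer G a))) O.orbit +
          dd p (P' : Subgroup (pPart p (stabilizer G a))) Y.orbit) ≤
          dd p (P : Subgroup G) Ω + 1 := by
        exact hsd ▸ triple_le_sum hnn hq.1 hO hY0 hq.2.1 hq.2.2 hOY
      omega
    rw [hQ, Finset.sum_pair hOY] at hsf hsd
    refine false_of_two_orbits hodd hp2G P ha (hmem O hO) (hmem Y hY0) hOY ?_ hF hf'0 hf'2 hf'7
      hn hfn hkn hYprim hY1 ?_ ?_ hf
    · intro q
      by_cases hq : q ∈ Q0
      · rw [hQ, Finset.mem_insert, Finset.mem_singleton] at hq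
        exact Or.inr hq
      · left
        by_contra hne
        exact hq (Finset.mem_erase.2 ⟨hne, Finset.mem_univ q⟩)
    · rw [← hP']; omega
    · rw [← hP']; omega
  · push Not at hY
    have hall : ∀ q ∈ Q0, ∃ f' b : ℕ, 0 < f' ∧ f' ≤ 2 ∧ (f' = 2 → 7 ≤ p) ∧
        fn (P' : Subgroup (pPart p (stabilizer G a))) q.orbit = b * f' ∧
        kn p (P' : Subgroup (pPart p (stabilizer G a))) q.orbit = b ∧
        dd p (P' : Subgroup (pPart p (stabilizer G a))) q.orbit = b * ((p : ℤ) - 1 - f') := by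
      intro q hq
      obtain ⟨hF, hpos⟩ := hY q hq
      obtain ⟨f', b, h1, h2, h3, -, -, h4, h5, h6⟩ := hshape q hq hF hpos
      exact ⟨f', b, h1, h2, h3, h4, h5, h6⟩
    rcases Nat.lt_or_ge p 7 with hp7 | hp7
    · have heq : ∀ q ∈ Q0,
          ((p : ℤ) - 2) * fn (P' : Subgroup (pPart p (stabilizer G a))) q.orbit =
            dd p (P' : Subgroup (pPart p (stabilizer G a))) q.orbit ∧
          kn p (P' : Subgroup (pPart p (stabilizer G a))) q.orbit =
            fn (P' : Subgroup (pPart p (stabilizer G a))) q.orbit := by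
        intro q hq
        obtain ⟨f', b, h1, h2, h3, h4, h5, h6⟩ := hall q hq
        obtain rfl : f' = 1 := by
          by_contra hne
          have := h3 (by omega)
          omega
        rw [h4, h5, h6]
        push_cast
        exact ⟨by ring, by ring⟩
      have hsum1 : ((p : ℤ) - 2) * ((fn (P : Subgroup G) Ω : ℤ) - 1) =
          dd p (P : Subgroup G) Ω + 1 := by
        rw [← hsd, ← Finset.sum_congr rfl (fun q hq => (heq q hq).1), ← Finset.mul_sum, ← hsf]
        push_cast
        ring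
      have hsum2 : kn p (P : Subgroup G) Ω + 1 = fn (P : Subgroup G) Ω := by
        rw [← hsk, Finset.sum_congr rfl (fun q hq => (heq q hq).2), hsf]
      rcases (show p = 3 ∨ p = 4 ∨ p = 5 ∨ p = 6 by omega) with h | h | h | h
      · subst h
        push_cast at hsum1 hdd
        exact hexc ⟨rfl, by omega, by omega⟩
      · exact absurd (h ▸ hp.out : Nat.Prime 4) (by norm_num)
      · subst h
        push_cast at hsum1 hdd
        omega
      · exact absurd (h ▸ hp.out : Nat.Prime 6) (by norm_num)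
    · have hsum1 : ((p : ℤ) - 3) * ((fn (P : Subgroup G) Ω : ℤ) - 1) ≤
          2 * (dd p (P : Subgroup G) Ω + 1) := by
        rw [← hsd, show ((fn (P : Subgroup G) Ω : ℤ) - 1) =
          ((∑ q ∈ Q0, fn (P' : Subgroup (pPart p (stabilizer G a))) q.orbit : ℕ) : ℤ) by omega,
          Nat.cast_sum, Finset.mul_sum, Finset.mul_sum]
        refine Finset.sum_le_sum fun q hq => ?_
        obtain ⟨f', b, h1, h2, -, h4, -, h6⟩ := hall q hq
        rw [h4, h6]
        push_cast
        have : ((p : ℤ) - 3) * f' ≤ 2 * ((p : ℤ) - 1 - f') := by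
          rcases (show f' = 1 ∨ f' = 2 by omega) with rfl | rfl <;> push_cast <;> omega
        calc ((p : ℤ) - 3) * ((b : ℤ) * f') = (b : ℤ) * (((p : ℤ) - 3) * f') := by ring
          _ ≤ (b : ℤ) * (2 * ((p : ℤ) - 1 - f')) :=
              mul_le_mul_of_nonneg_left this (Int.natCast_nonneg b)
          _ = _ := by ring
      have h2 : ((p : ℤ) - 3) * p ≤ ((p : ℤ) - 3) * ((fn (P : Subgroup G) Ω : ℤ) - 1) :=
        mul_le_mul_of_nonneg_left (by omega) (by omega)
      nlinarith

end CfsgLib.Perm.SylowFix
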