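import Cfsg.Agent.Lib.Perm.SylowFix.GoodLink

/-!
A point stabiliser with one large and one small suborbit.
-/

set_option autoImplicit false
set_option linter.unusedSectionVars false
set_option linter.style.haveILetI false

namespace CfsgLib.Perm.SylowFix

open MulAction Pointwise

section Suborbits

variable {G : Type*} [Group G] [Finite G] {Ω : Type*} [MulAction G Ω] [Finite Ω]

/-- The number of group elements sending `a` into a set. -/
theorem ncard_smul_mem [IsPretransitive G Ω] (a : Ω) (S : Set Ω) :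
    {g : G | g • a ∈ S}.ncard = S.ncard * Nat.card (stabilizer G a) := by
  classical
  have := Fintype.ofFinite G
  have := Fintype.ofFinite Ω
  rw [Set.ncard_eq_toFinset_card', Set.ncard_eq_toFinset_card',
    Finset.card_eq_sum_card_fiberwise (f := fun g => g • a) (t := S.toFinset)
      (fun g hg => by simpa using hg),
    Finset.sum_congr rfl (fun c hc => show _ = Nat.card (stabilizer G a) from ?_),
    Finset.sum_const, smul_eq_mul]
  obtain ⟨g₀, rfl⟩ := exists_smul_eq G a c
  rw [← Set.ncard_coe_finset,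
    show Nat.card (stabilizer G a) = (stabilizer G a : Set G).ncard from Nat.card_coe_set_eq _,
    ← Set.ncard_image_of_injective (stabilizer G a : Set G) (mul_right_injective g₀)]
  congr 1
  ext g
  simp only [Finset.coe_filter, Set.mem_toFinset, Set.mem_ofPred_eq, Set.mem_image, SetLike.mem_coe,
    mem_stabilizer_iff]
  constructor
  · rintro ⟨-, he⟩
    exact ⟨g₀⁻¹ * g, by rw [mul_smul, he, inv_smul_smul], mul_inv_cancel_left g₀ g⟩
  · rintro ⟨h, hh, rfl⟩
    rw [mul_smul, hh]
    exact ⟨by simpa using hc, rfl⟩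

/-- A primitive group with suborbits `A`, `B`, `|A| < |B|`, in which the stabiliser of `a` and of
`u ∈ A` is transitive on `A - u`: the length of `B` divides `|A| (|A| - 1)`. -/
theorem card_dvd_of_two_suborbits [IsPreprimitive G Ω] (a : Ω) {A B : Set Ω}
    (haA : a ∉ A) (haB : a ∉ B) (hdisj : Disjoint A B)
    (hcover : ∀ c, c ≠ a → c ∈ A ∨ c ∈ B) (hAne : A.Nonempty)
    (hAinv : ∀ h ∈ stabilizer G a, ∀ c ∈ A, h • c ∈ A)
    (hBinv : ∀ h ∈ stabilizer G a, ∀ c ∈ B, h • c ∈ B)
    (hAtr : ∀ c ∈ A, ∀ d ∈ A, ∃ h ∈ stabilizer G a, h • c = d)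
    (hBtr : ∀ c ∈ B, ∀ d ∈ B, ∃ h ∈ stabilizer G a, h • c = d)
    (hlt : A.ncard < B.ncard)
    (h2 : ∀ u ∈ A, ∀ c ∈ A, ∀ d ∈ A, c ≠ u → d ≠ u →
      ∃ h : G, h • a = a ∧ h • u = u ∧ h • c = d) :
    B.ncard ∣ A.ncard * (A.ncard - 1) := by
  classical
  have := Fintype.ofFinite Ω
  set Δ : Ω → Set Ω := fun u => {v | ∃ g : G, g • a = u ∧ g⁻¹ • v ∈ A} with hΔ
  have heq : ∀ g : G, Δ (g • a) = g • A := by
    intro g
    ext v
    rw [Set.mem_smul_set_iff_inv_smul_mem]
    refine ⟨?_, fun h => ⟨g, rfl, h⟩⟩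
    rintro ⟨g', hg', hv⟩
    have hh : g⁻¹ * g' ∈ stabilizer G a := by
      show (g⁻¹ * g') • a = a
      rw [mul_smul, hg', inv_smul_smul]
    have := hAinv _ hh _ hv
    rwa [mul_smul, smul_inv_smul] at this
  have hΔa : Δ a = A := by rw [← one_smul G a, heq, one_smul]
  have hequiv : ∀ (g : G) (u : Ω), Δ (g • u) = g • Δ u := by
    intro g u
    obtain ⟨r, rfl⟩ := exists_smul_eq G a u
    rw [← mul_smul, heq, heq, mul_smul]
  have hcardΔ : ∀ u, (Δ u).ncard = A.ncard := by
    intro u
    obtain ⟨r, rfl⟩ := exists_smul_eq G a u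
    rw [heq, ← Set.image_smul, Set.ncard_image_of_injective _ (MulAction.injective r)]
  have hirr : ∀ u, u ∉ Δ u := by
    intro u hu
    obtain ⟨r, rfl⟩ := exists_smul_eq G a u
    rw [heq, Set.smul_mem_smul_set_iff] at hu
    exact haA hu
  -- self-pairing
  have hself : ∀ u ∈ A, a ∈ Δ u := by
    set S : Set Ω := {u | a ∈ Δ u} with hS
    have hSinv : ∀ h ∈ stabilizer G a, ∀ u ∈ S, h • u ∈ S := by
      intro h hh u hu
      show a ∈ Δ (h • u)
      rw [hequiv, Set.mem_smul_set_iff_inv_smul_mem, inv_smul_eq_iff.2 hh.symm]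
      exact hu
    have hScard : S.ncard = A.ncard := by
      refine Nat.eq_of_mul_eq_mul_right (m := Nat.card (stabilizer G a)) Nat.card_pos ?_
      rw [← ncard_smul_mem a S, ← ncard_smul_mem a A,
        ← Set.ncard_image_of_injective {g : G | g • a ∈ A} inv_injective]
      congr 1
      ext g
      simp only [Set.mem_ofPred_eq, Set.mem_image]
      constructor
      · intro hg
        refine ⟨g⁻¹, ?_, inv_inv g⟩
        have h1 : a ∈ Δ (g • a) := hg
        rw [heq, Set.mem_smul_set_iff_inv_smul_mem] at h1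
        exact h1
      · rintro ⟨r, hr, rfl⟩
        show a ∈ Δ (r⁻¹ • a)
        rw [heq, Set.mem_smul_set_iff_inv_smul_mem, inv_inv]
        exact hr
    intro u hu
    obtain ⟨v, hv⟩ : S.Nonempty := by
      rw [← Set.ncard_pos (Set.toFinite _), hScard, Set.ncard_pos (Set.toFinite _)]
      exact hAne
    have hva : v ≠ a := fun he => by
      subst he
      exact hirr _ hv
    rcases hcover v hva with hvA | hvB
    · obtain ⟨h, hh, rfl⟩ := hAtr v hvA u hu
      exact hSinv h hh v hv
    · exfalso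
      have hBS : B ⊆ S := fun w hw => by
        obtain ⟨h, hh, rfl⟩ := hBtr v hvB w hw
        exact hSinv h hh v hv
      have := Set.ncard_le_ncard hBS
      omega
  have hne : ∀ u ∈ A, u ≠ a := fun u hu he => haA (he ▸ hu)
  -- no triangles
  have hlam : ∀ u ∈ A, ∀ c ∈ A, c ∉ Δ u := by
    intro u₀ hu₀ c₀ hc₀ hcΔ
    set Bk := insert a A with hBk
    have hall : ∀ u ∈ A, insert u (Δ u) = Bk := by
      intro u hu
      obtain ⟨h, hh, rfl⟩ := hAtr u₀ hu₀ u hu
      have hc : h • c₀ ∈ A := hAinv h hh c₀ hc₀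
      have hcu : h • c₀ ∈ Δ (h • u₀) := by
        rw [hequiv]; exact Set.smul_mem_smul_set hcΔ
      have hsub : insert a (A \ {h • u₀}) ⊆ Δ (h • u₀) := by
        rintro w (rfl | ⟨hwA, hwu⟩)
        · exact hself _ hu
        · obtain ⟨t, hta, htu, htc⟩ := h2 _ hu _ hc w hwA
            (fun he => hirr _ (he ▸ hcu : h • u₀ ∈ Δ (h • u₀))) hwu
          rw [← htu, hequiv, ← htc]
          exact Set.smul_mem_smul_set hcu
      have heqset : Δ (h • u₀) = insert a (A \ {h • u₀}) := by
        refine (Set.eq_of_subset_of_ncard_le hsub ?_).symm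
        rw [hcardΔ, Set.ncard_insert_of_notMem (fun hm => haA hm.1),
          Set.ncard_sdiff_singleton_of_mem hu]
        omega
      rw [heqset, Set.insert_comm, Set.insert_sdiff_singleton, Set.insert_eq_of_mem hu]
    have hall' : ∀ x ∈ Bk, insert x (Δ x) = Bk := by
      rintro x (rfl | hx)
      · rw [hΔa]
      · exact hall x hx
    have hblock : IsBlock G Bk := by
      rw [isBlock_iff_smul_eq_or_disjoint]
      intro g
      rw [or_iff_not_imp_right, Set.not_disjoint_iff]
      rintro ⟨w, hwg, hw⟩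
      obtain ⟨x, hx, rfl⟩ := hwg
      show g • Bk = Bk
      have h1 := hall' _ hw
      rw [hequiv] at h1
      conv_rhs => rw [← h1]
      rw [← hall' x hx, Set.smul_set_insert]
    rcases IsPreprimitive.isTrivialBlock_of_isBlock hblock with h1 | h1
    · obtain ⟨u, hu⟩ := hAne
      exact hne u hu (h1 (Set.mem_insert_of_mem _ hu) (Set.mem_insert _ _))
    · have hBne : B.Nonempty := (Set.ncard_pos (Set.toFinite _)).1 (by omega)
      obtain ⟨w, hw⟩ := hBne
      have : w ∈ Bk := h1 ▸ Set.mem_univ w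
      rcases this with rfl | h3
      · exact haB hw
      · exact hdisj.notMem_of_mem_left h3 hw
  -- counting
  have hcount : ∀ u ∈ A, (B.toFinset.bipartiteAbove (fun u w => w ∈ Δ u) u).card = A.ncard - 1 := by
    intro u hu
    have h1 : B.toFinset.bipartiteAbove (fun u w => w ∈ Δ u) u = ((Δ u) \ {a}).toFinset := by
      ext w
      simp only [Finset.mem_bipartiteAbove, Set.mem_toFinset, Set.mem_sdiff, Set.mem_singleton_iff]
      constructor
      · rintro ⟨hwB, hwΔ⟩
        exact ⟨hwΔ, fun he => haB (he ▸ hwB)⟩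
      · rintro ⟨hwΔ, hwa⟩
        exact ⟨(hcover w hwa).resolve_left fun hA => hlam u hu w hA hwΔ, hwΔ⟩
    rw [h1, ← Set.ncard_eq_toFinset_card', Set.ncard_sdiff_singleton_of_mem (hself u hu), hcardΔ]
  have hsum := Finset.sum_card_bipartiteAbove_eq_sum_card_bipartiteBelow (fun u w => w ∈ Δ u)
    (s := A.toFinset) (t := B.toFinset)
  rw [Finset.sum_congr rfl (fun u hu => hcount u (Set.mem_toFinset.1 hu)), Finset.sum_const,
    smul_eq_mul, ← Set.ncard_eq_toFinset_card'] at hsum
  rw [hsum]
  obtain ⟨w₀, hw₀⟩ : B.Nonempty := (Set.ncard_pos (Set.toFinite _)).1 (by omega)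
  have hμ : ∀ w ∈ B, (A.toFinset.bipartiteBelow (fun u w => w ∈ Δ u) w).card =
      (A.toFinset.bipartiteBelow (fun u w => w ∈ Δ u) w₀).card := by
    intro w hw
    obtain ⟨h, hh, rfl⟩ := hBtr w₀ hw₀ w hw
    rw [← Finset.card_map (MulAction.toPerm h : Equiv.Perm Ω).toEmbedding (s := A.toFinset.bipartiteBelow (fun u w => w ∈ Δ u) w₀)]
    congr 1
    ext u
    simp only [Finset.mem_bipartiteBelow, Finset.mem_map_equiv, Set.mem_toFinset, MulAction.toPerm_symm_apply]
    constructor
    · rintro ⟨huA, huΔ⟩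
      refine ⟨hAinv _ (inv_mem hh) _ huA, ?_⟩
      rw [hequiv, Set.mem_smul_set_iff_inv_smul_mem, inv_inv]
      exact huΔ
    · rintro ⟨huA, huΔ⟩
      have h1 := hAinv _ hh _ huA
      rw [smul_inv_smul] at h1
      refine ⟨h1, ?_⟩
      rw [← smul_inv_smul h u, hequiv]
      exact Set.smul_mem_smul_set huΔ
  rw [Finset.sum_congr rfl (fun w hw => hμ w (Set.mem_toFinset.1 hw)), Finset.sum_const, smul_eq_mul,
    ← Set.ncard_eq_toFinset_card']
  exact dvd_mul_right _ _

end Suborbits

variable {p : ℕ} [hp : Fact p.Prime]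

/-- In a fibred action with one moved block and at most two fixed points, a point stabiliser is
transitive on the other points. -/
theorem trans_on_rest {K : Type*} [Group K] [Finite K] {Y : Type*} [MulAction K Y] [Finite Y]
    [IsPretransitive K Y] (hgen : IsPGen p K) (P : Sylow p K) (hFib : Fibred p K Y)
    (hk : kn p (P : Subgroup K) Y = 1) (hf0 : 0 < fn (P : Subgroup K) Y)
    (hf2 : fn (P : Subgroup K) Y ≤ 2) {u c d : Y} (hc : c ≠ u) (hd : d ≠ u) :
    ∃ x : K, x • u = u ∧ x • c = d := by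
  classical
  have main : ∀ v ∈ fixSet ((P : Subgroup K) : Set K) Y, ∀ c d : Y, c ≠ v → d ≠ v →
      ∃ x : K, x • v = v ∧ x • c = d := by
    intro v hv
    set F := fixSet ((P : Subgroup K) : Set K) Y with hF
    have hFc : Fᶜ.ncard = p := by
      have h1 := Set.ncard_add_ncard_compl F
      have h2 := card_eq (Ω := Y) P.isPGroup'
      rw [hk] at h2
      change fn (P : Subgroup K) Y + _ = _ at h1
      omega
    -- `P` is transitive on the moved points
    have hPtr : ∀ w ∈ Fᶜ, ∀ w' ∈ Fᶜ, ∃ x ∈ (P : Subgroup K), x • w = w' := by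
      intro w hw w' hw'
      have hsub : orbit (P : Subgroup K) w ⊆ Fᶜ := by
        rintro _ ⟨⟨y, hy⟩, rfl⟩ hmem
        refine hw fun z hz => ?_
        have h1 : z • y • w = y • w := hmem z hz
        have h2 : y • w = w := MulAction.injective y (hmem y hy)
        rwa [h2] at h1
      obtain ⟨j, hj⟩ := P.isPGroup'.card_orbit (α := Y) w
      rw [Nat.card_coe_set_eq] at hj
      have hj1 : 1 < (orbit (P : Subgroup K) w).ncard := by
        by_contra hle
        refine hw fun z hz => ?_
        have h1 := (Set.ncard_le_one (Set.toFinite _)).1 (not_lt.1 hle)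
        exact h1 _ ⟨⟨z, hz⟩, rfl⟩ _ (mem_orbit_self _)
      have hp' : p ≤ (orbit (P : Subgroup K) w).ncard := by
        rw [hj] at hj1 ⊢
        exact Nat.le_self_pow (by rintro rfl; simp at hj1) p
      have heq := Set.eq_of_subset_of_ncard_le hsub (by rw [hFc]; exact hp')
      obtain ⟨⟨y, hy⟩, he⟩ := heq ▸ hw'
      exact ⟨y, hy, he⟩
    obtain ⟨w₀, hw₀⟩ : Fᶜ.Nonempty :=
      (Set.ncard_pos (Set.toFinite _)).1 (by rw [hFc]; exact hp.out.pos)
    have hto : ∀ c, c ≠ v → ∃ x : K, x • v = v ∧ x • c = w₀ := by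
      intro c hc
      by_cases hcF : c ∈ F
      · have h1 := hFib.ncard_fixed hgen P hf0 v
        rw [hk] at h1
        have h2 : c ∉ {δ : Y | ∀ x ∈ stabilizer K v, IsPElt p x → x • δ = δ} := fun hmem =>
          hc ((Set.ncard_le_one (Set.toFinite _)).1 h1.le _ hmem _ (fun x hx _ => hx))
        simp only [Set.mem_ofPred_eq] at h2
        push Not at h2
        obtain ⟨x, hxv, -, hxc⟩ := h2
        have hxv' : x • v = v := hxv
        have hxF : x • c ∈ Fᶜ := by
          intro hmem
          have h3 : ({v, c, x • c} : Set Y) ⊆ F := by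
            rintro w (rfl | rfl | rfl) <;> assumption
          have h4 := Set.ncard_le_ncard h3
          rw [Set.ncard_eq_three.2 ⟨v, c, x • c, hc.symm,
            fun he => hc (MulAction.injective x (he.symm.trans hxv'.symm)), hxc.symm, rfl⟩] at h4
          change 3 ≤ fn (P : Subgroup K) Y at h4
          omega
        obtain ⟨y, hy, hyc⟩ := hPtr _ hxF w₀ hw₀
        exact ⟨y * x, by rw [mul_smul, hxv', hv y hy], by rw [mul_smul, hyc]⟩
      · obtain ⟨y, hy, hyc⟩ := hPtr _ hcF w₀ hw₀
        exact ⟨y, hv y hy, hyc⟩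
    intro c d hc hd
    obtain ⟨x, hxv, hxc⟩ := hto c hc
    obtain ⟨y, hyv, hyd⟩ := hto d hd
    exact ⟨y⁻¹ * x, by rw [mul_smul, hxv, inv_smul_eq_iff, hyv],
      by rw [mul_smul, hxc, inv_smul_eq_iff, hyd]⟩
  obtain ⟨v, hv⟩ := (Set.ncard_pos).1 hf0
  obtain ⟨g, rfl⟩ := exists_smul_eq K v u
  obtain ⟨x, hxv, hxc⟩ := main v hv (g⁻¹ • c) (g⁻¹ • d)
    (fun he => hc (by rw [← he, smul_inv_smul])) (fun he => hd (by rw [← he, smul_inv_smul]))
  exact ⟨g * x * g⁻¹, by rw [mul_smul, mul_smul, inv_smul_smul, hxv],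
    by rw [mul_smul, mul_smul, hxc, smul_inv_smul]⟩

/-- The normaliser of a `p`-cycle in degree `p + 2`. -/
theorem card_normalizer_cycle_dvd {α : Type*} [Fintype α] [DecidableEq α] {σ : Equiv.Perm α}
    (hc : σ.IsCycle) (hs : σ.support.card = p) (hα : Fintype.card α = p + 2) :
    Nat.card (Subgroup.normalizer (Subgroup.zpowers σ : Set (Equiv.Perm α))) ∣
      2 * p * (p - 1) := by
  set H := Subgroup.zpowers σ
  set φ := H.normalizerMonoidHom
  rw [← φ.ker.card_mul_index, Subgroup.index_ker]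
  refine Nat.mul_dvd_mul ?_ ?_
  · rw [show φ.ker = _ from H.normalizerMonoidHom_ker,
      Nat.card_congr (Subgroup.subgroupOfEquivOfLe
        (Subgroup.centralizer_le_normalizer _)).toEquiv]
    refine (Subgroup.card_dvd_of_le (Subgroup.centralizer_le
      (Set.singleton_subset_iff.2 (Subgroup.mem_zpowers σ)))).trans ?_
    rw [Equiv.Perm.nat_card_centralizer, hc.cycleType, hs, hα,
      Multiset.sum_singleton, Multiset.prod_singleton, Multiset.toFinset_singleton,
      Finset.prod_singleton, Multiset.count_singleton_self, Nat.add_sub_cancel_left]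
    simp [Nat.factorial]
  · refine (Subgroup.card_subgroup_dvd_card _).trans ?_
    rw [IsCyclic.card_mulAut, Nat.card_zpowers, hc.orderOf, hs, Nat.totient_prime hp.out]

section

variable {G : Type*} [Group G] [Finite G] {Ω : Type*} [MulAction G Ω] [Finite Ω]

theorem orb_eq_iff {K : Subgroup G} {a c : Ω} : c ∈ (orb K a).orbit ↔ orb K c = orb K a :=
  orbitRel.Quotient.mem_orbit

theorem mem_orbit_iff_orb {K : Subgroup G} {q : orbitRel.Quotient K Ω} {c : Ω} :
    c ∈ q.orbit ↔ orb K c = q :=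
  orbitRel.Quotient.mem_orbit

/-- A point stabiliser cannot have one large primitive orbit and one small one. -/
theorem false_of_two_orbits [IsPreprimitive G Ω] (hodd : p ≠ 2) (hp2G : ¬ p ^ 2 ∣ Nat.card G)
    (P : Sylow p G) {a : Ω} (ha : a ∈ fixSet ((P : Subgroup G) : Set G) Ω)
    {qO qY : orbitRel.Quotient (pPart p (stabilizer G a)) Ω}
    (haO : a ∉ qO.orbit) (haY : a ∉ qY.orbit) (hne : qO ≠ qY)
    (honly : ∀ q, q = orb (pPart p (stabilizer G a)) a ∨ q = qO ∨ q = qY)
    (hFib : Fibred p (pPart p (stabilizer G a)) qO.orbit) {f' : ℕ}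
    (hf'0 : 0 < f') (hf'2 : f' ≤ 2) (hf'7 : f' = 2 → 7 ≤ p)
    (hnO : Nat.card qO.orbit = p + f')
    (hfO : fn (sylK P ha : Subgroup (pPart p (stabilizer G a))) qO.orbit = f')
    (hkO : kn p (sylK P ha : Subgroup (pPart p (stabilizer G a))) qO.orbit = 1)
    (hYprim : IsPreprimitive (pPart p (stabilizer G a)) qY.orbit)
    (hY1 : (p : ℤ) - 1 ≤ dd p (sylK P ha : Subgroup (pPart p (stabilizer G a))) qY.orbit)
    (hY2 : dd p (sylK P ha : Subgroup (pPart p (stabilizer G a))) qY.orbit ≤ (p : ℤ) - 2 + f')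
    (hsum : fn (P : Subgroup G) Ω =
      1 + f' + fn (sylK P ha : Subgroup (pPart p (stabilizer G a))) qY.orbit)
    (hf : p < fn (P : Subgroup G) Ω) : False := by
  classical
  set P' := sylK P ha with hP'
  have hgen : IsPGen p (pPart p (stabilizer G a)) := isPGen_pPart _
  have hpsq := not_sq_dvd_subgroup hp2G (pPart p (stabilizer G a))
  have hp3 : 3 ≤ p := by have := hp.out.two_le; omega
  set N := Nat.card qY.orbit with hN
  set fY := fn (P' : Subgroup (pPart p (stabilizer G a))) qY.orbit with hfY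
  set kY := kn p (P' : Subgroup (pPart p (stabilizer G a))) qY.orbit with hkY
  have hcardY : N = fY + p * kY := card_eq (Ω := qY.orbit) P'.isPGroup'
  have hfY0 : 0 < fY := by omega
  have hdY : dd p (P' : Subgroup (pPart p (stabilizer G a))) qY.orbit = ((p : ℤ) - 1) * kY - fY :=
    rfl
  rw [hdY] at hY1 hY2
  have hk2 : 2 ≤ kY := by
    by_contra hlt
    have : ((p : ℤ) - 1) * kY ≤ ((p : ℤ) - 1) * 1 := mul_le_mul_of_nonneg_left (by omega) (by omega)
    omega
  have hpk : p * 2 ≤ p * kY := Nat.mul_le_mul_left p hk2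
  have hAcard : qO.orbit.ncard = p + f' := by rw [← hnO, Nat.card_coe_set_eq]
  have hBcard : qY.orbit.ncard = N := (Nat.card_coe_set_eq _).symm
  -- the stabiliser of `a` preserves the orbits
  have hperm : ∀ h ∈ stabilizer G a, ∀ q : orbitRel.Quotient (pPart p (stabilizer G a)) Ω,
      ∀ c ∈ q.orbit, h • q.orbit = (orb (pPart p (stabilizer G a)) (h • c)).orbit := by
    intro h hh q c hc
    have hnorm : ∀ g ∈ stabilizer G a, ∀ x ∈ pPart p (stabilizer G a),
        g * x * g⁻¹ ∈ pPart p (stabilizer G a) := fun g hg x hx =>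
      pPart_conj_mem (fun w hw => mul_mem (mul_mem hg hw) (inv_mem hg)) hx
    rw [orb, orbitRel.Quotient.orbit_mk, ← mem_orbit_iff_orb.1 hc, orb,
      orbitRel.Quotient.orbit_mk]
    ext d
    constructor
    · rintro ⟨_, ⟨x, rfl⟩, rfl⟩
      refine ⟨⟨h * x * h⁻¹, hnorm h hh x x.2⟩, ?_⟩
      show (h * (x : G) * h⁻¹) • h • c = h • (x : G) • c
      rw [← mul_smul, inv_mul_cancel_right, mul_smul]
    · rintro ⟨x, rfl⟩
      have hx' : h⁻¹ * (x : G) * h ∈ pPart p (stabilizer G a) := by
        have := hnorm h⁻¹ (inv_mem hh) x x.2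
        rwa [inv_inv] at this
      refine ⟨(h⁻¹ * (x : G) * h) • c, ⟨⟨_, hx'⟩, rfl⟩, ?_⟩
      show h • (h⁻¹ * (x : G) * h) • c = (x : G) • h • c
      rw [← mul_smul, ← mul_smul, ← mul_assoc, ← mul_assoc, mul_inv_cancel, one_mul]
  have hinv : ∀ q : orbitRel.Quotient (pPart p (stabilizer G a)) Ω, ∀ q', (q = qO ∧ q' = qY) ∨
      (q = qY ∧ q' = qO) → ∀ h ∈ stabilizer G a, ∀ c ∈ q.orbit, h • c ∈ q.orbit := by
    intro q q' hqq h hh c hc
    have heq := hperm h hh q c hc
    have hcard : q.orbit.ncard = (orb (pPart p (stabilizer G a)) (h • c)).orbit.ncard := by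
      rw [← heq, ← Set.image_smul, Set.ncard_image_of_injective _ (MulAction.injective h)]
    rcases honly (orb (pPart p (stabilizer G a)) (h • c)) with h1 | h1 | h1
    · exfalso
      rw [h1, orbit_mk_of_fixed (fun x => pPart_le (p := p) _ x.2), Set.ncard_singleton] at hcard
      rcases hqq with ⟨rfl, -⟩ | ⟨rfl, -⟩
      · rw [hAcard] at hcard; omega
      · rw [hBcard] at hcard; omega
    all_goals
      rw [h1] at hcard
      rcases hqq with ⟨rfl, -⟩ | ⟨rfl, -⟩
      all_goals
        first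
          | exact mem_orbit_iff_orb.2 h1
          | (rw [hAcard, hBcard] at hcard; omega)
  have htr : ∀ q : orbitRel.Quotient (pPart p (stabilizer G a)) Ω,
      ∀ c ∈ q.orbit, ∀ d ∈ q.orbit, ∃ h ∈ stabilizer G a, h • c = d := by
    intro q c hc d hd
    obtain ⟨x, hx⟩ := exists_smul_eq (pPart p (stabilizer G a)) (⟨c, hc⟩ : q.orbit) ⟨d, hd⟩
    exact ⟨x, pPart_le (p := p) _ x.2, congrArg Subtype.val hx⟩
  have hdiv := card_dvd_of_two_suborbits a (A := qO.orbit) (B := qY.orbit) haO haY
    (Set.disjoint_left.2 fun c h1 h2 =>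
      hne ((mem_orbit_iff_orb.1 h1).symm.trans (mem_orbit_iff_orb.1 h2)))
    (fun c hca => by
      rcases honly (orb (pPart p (stabilizer G a)) c) with h1 | h1 | h1
      · exfalso
        have h2 : c ∈ (orb (pPart p (stabilizer G a)) a).orbit := mem_orbit_iff_orb.2 h1
        rw [orbit_mk_of_fixed (fun x => pPart_le (p := p) _ x.2)] at h2
        exact hca h2
      · exact Or.inl (mem_orbit_iff_orb.2 h1)
      · exact Or.inr (mem_orbit_iff_orb.2 h1))
    ((Set.ncard_pos (Set.toFinite _)).1 (by rw [hAcard]; omega))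
    (hinv qO qY (Or.inl ⟨rfl, rfl⟩)) (hinv qY qO (Or.inr ⟨rfl, rfl⟩)) (htr qO) (htr qY)
    (by rw [hAcard, hBcard]; omega)
    (fun u hu c hc d hd hcu hdu => by
      obtain ⟨x, hxu, hxc⟩ := trans_on_rest hgen P' hFib hkO (by omega) (by omega)
        (u := (⟨u, hu⟩ : qO.orbit)) (c := ⟨c, hc⟩) (d := ⟨d, hd⟩)
        (fun he => hcu (congrArg Subtype.val he)) (fun he => hdu (congrArg Subtype.val he))
      exact ⟨x, pPart_le (p := p) _ x.2, congrArg Subtype.val hxu, congrArg Subtype.val hxc⟩)
  rw [hAcard, hBcard] at hdiv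
  have hpN : ¬ p ∣ N := fun hd => not_dvd_fn P' hfY0
    ((Nat.dvd_add_left (dvd_mul_right p kY)).1 (hcardY ▸ hd))
  rcases (show f' = 1 ∨ f' = 2 by omega) with rfl | rfl
  · rw [Nat.add_sub_cancel] at hdiv
    have h1 : N ∣ p + 1 :=
      (((Nat.Prime.coprime_iff_not_dvd hp.out).2 hpN).symm).dvd_of_dvd_mul_right hdiv
    have := Nat.le_of_dvd (by omega) h1
    omega
  · have hp7 := hf'7 rfl
    -- the kernel on the small orbit
    set ψ := toPermHom (pPart p (stabilizer G a)) qO.orbit
    obtain ⟨x, hx, c, hc⟩ := exists_moved (Ω := qO.orbit) hgen (by omega) P'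
    have hne1 : ψ x ≠ 1 := fun he => hc (Equiv.congr_fun he c)
    have hxord : orderOf x = p := by
      obtain ⟨j, hj⟩ := isPElt_of_mem P'.isPGroup' hx
      rcases Nat.lt_or_ge j 2 with hj2 | hj2
      · rcases (show j = 0 ∨ j = 1 by omega) with rfl | rfl
        · exact (hne1 (by rw [orderOf_eq_one_iff.1 (show orderOf x = 1 by simpa using hj), map_one])).elim
        · simpa using hj
      · exact absurd ((pow_dvd_pow p hj2).trans (hj ▸ orderOf_dvd_natCard x)) hpsq
    have hP'card : Nat.card (P' : Subgroup (pPart p (stabilizer G a))) = p := by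
      obtain ⟨j, hj⟩ := P'.isPGroup'.exists_card_eq
      have h1 : p ∣ Nat.card (P' : Subgroup (pPart p (stabilizer G a))) :=
        hxord.symm.dvd.trans (by
          rw [← Subgroup.orderOf_mk (H := (P' : Subgroup (pPart p (stabilizer G a)))) x hx]
          exact orderOf_dvd_natCard _)
      rcases Nat.lt_or_ge j 2 with hj2 | hj2
      · rcases (show j = 0 ∨ j = 1 by omega) with rfl | rfl
        · rw [hj, pow_zero, Nat.dvd_one] at h1; exact absurd h1 hp.out.ne_one
        · rw [hj, pow_one]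
      · exact absurd ((pow_dvd_pow p hj2).trans (hj ▸ Subgroup.card_subgroup_dvd_card _)) hpsq
    have hxz : Subgroup.zpowers x = P' := Subgroup.eq_of_le_of_card_ge (Subgroup.zpowers_le.2 hx)
      (by rw [Nat.card_zpowers, hxord, hP'card])
    have hprange : p ∣ Nat.card ψ.range := by
      have ho : orderOf (ψ x) = p :=
        ((Nat.dvd_prime hp.out).1 ((orderOf_map_dvd ψ x).trans hxord.dvd)).resolve_left
          fun he => hne1 (orderOf_eq_one_iff.1 he)
      exact ho.symm.dvd.trans (Subgroup.orderOf_dvd_natCard _ ⟨x, rfl⟩)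
    have hpR : ¬ p ∣ Nat.card ψ.ker := fun hd => hpsq (by
      rw [sq, ← ψ.ker.card_mul_index, Subgroup.index_ker]
      exact Nat.mul_dvd_mul hd hprange)
    have hRfix : ∀ r ∈ ψ.ker, ∀ y : qY.orbit, r • y = y := by
      by_contra hnot
      have hne' : fixedPoints ψ.ker qY.orbit ≠ Set.univ := fun he => hnot fun r hr y =>
        mem_fixedPoints.1 (he ▸ Set.mem_univ y) ⟨r, hr⟩
      haveI := hYprim
      have htR : IsPretransitive ψ.ker qY.orbit :=
        IsQuasiPreprimitive.isPretransitive_of_normal hne'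
      obtain ⟨y, hy⟩ := (Set.ncard_pos).1 hfY0
      have hd : fY ∣ N := ncard_fixed_dvd_degree (A := (P' : Subgroup (pPart p (stabilizer G a))))
        (R := ψ.ker)
        (fun z _ => Subgroup.le_normalizer_of_normal (H := ψ.ker) (K := ⊤) (Subgroup.mem_top z))
        (by rw [hP'card]; exact (Nat.Prime.coprime_iff_not_dvd hp.out).2 hpR)
        (by rw [← hxz]; exact CfsgLib.Coprime.isSolvable_zpowers x)
        (fun u v => by
          obtain ⟨⟨r, hr⟩, h1⟩ := htR.exists_smul_eq u v
          exact ⟨r, hr, h1⟩) hy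
      have h1 : fY ∣ p * kY := (Nat.dvd_add_right dvd_rfl).1 (hcardY ▸ hd)
      have h2 : fY ≤ kY := Nat.le_of_dvd (by omega)
        ((((Nat.Prime.coprime_iff_not_dvd hp.out).2 (not_dvd_fn P' hfY0)).symm).dvd_of_dvd_mul_left h1)
      have h3 : ((p : ℤ) - 2) * 2 ≤ ((p : ℤ) - 2) * kY :=
        mul_le_mul_of_nonneg_left (by omega) (by omega)
      have h4 : ((p : ℤ) - 1) * kY = ((p : ℤ) - 2) * kY + kY := by ring
      omega
    -- the number of fixed points divides the order of a normaliser
    set Nr := Subgroup.normalizer ((P' : Subgroup (pPart p (stabilizer G a))) :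
      Set (pPart p (stabilizer G a))) with hNr
    obtain ⟨y, hy⟩ := (Set.ncard_pos).1 hfY0
    have horb : orbit Nr y =
        fixSet ((P' : Subgroup (pPart p (stabilizer G a))) : Set (pPart p (stabilizer G a)))
          qY.orbit := by
      ext b
      constructor
      · rintro ⟨⟨g, hg⟩, rfl⟩ z hz
        show z • g • y = g • y
        have : g⁻¹ * z * g ∈ (P' : Subgroup (pPart p (stabilizer G a))) := by
          have := (Subgroup.mem_normalizer_iff.1 (inv_mem hg) z).1 hz
          simpa using this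
        rw [show z • g • y = g • (g⁻¹ * z * g) • y by simp [← mul_smul, mul_assoc], hy _ this]
      · intro hb
        obtain ⟨g, hg, rfl⟩ := exists_normalizer_smul_eq P' hy hb
        exact ⟨⟨g, hg⟩, rfl⟩
    set ψN := ψ.comp Nr.subtype
    have hdvd : fY ∣ Nat.card ψN.range := by
      rw [hfY, fn, ← horb, ← index_stabilizer, ← Subgroup.index_ker]
      exact Subgroup.index_dvd_of_le fun g hg => hRfix g hg y
    have := Fintype.ofFinite qO.orbit
    have hσc : (ψ x).IsCycle := by
      have ho : orderOf (ψ x) = p :=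
        ((Nat.dvd_prime hp.out).1 ((orderOf_map_dvd ψ x).trans hxord.dvd)).resolve_left
          fun he => hne1 (orderOf_eq_one_iff.1 he)
      refine Equiv.Perm.isCycle_of_prime_order (by rw [ho]; exact hp.out) ?_
      rw [ho]
      refine (Finset.card_le_univ _).trans_lt ?_
      rw [← Nat.card_eq_fintype_card, hnO]
      omega
    have hσs : (ψ x).support.card = p := by
      rw [← hσc.orderOf]
      exact ((Nat.dvd_prime hp.out).1 ((orderOf_map_dvd ψ x).trans hxord.dvd)).resolve_left
        fun he => hne1 (orderOf_eq_one_iff.1 he)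
    have hle : ψN.range ≤ Subgroup.normalizer (Subgroup.zpowers (ψ x) : Set (Equiv.Perm qO.orbit)) := by
      rintro _ ⟨g, rfl⟩
      refine Subgroup.mem_normalizer_fintype fun z hz => ?_
      rw [SetLike.mem_coe, ← MonoidHom.map_zpowers, hxz] at hz
      obtain ⟨w, hw, rfl⟩ := hz
      rw [SetLike.mem_coe, ← MonoidHom.map_zpowers, hxz]
      refine ⟨g * w * g⁻¹, (Subgroup.mem_normalizer_iff.1 g.2 w).1 hw, ?_⟩
      simp [ψN, map_mul, map_inv]
    have h1 : fY ∣ 2 * p * (p - 1) := hdvd.trans ((Subgroup.card_dvd_of_le hle).trans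
      (card_normalizer_cycle_dvd hσc hσs (by rw [← Nat.card_eq_fintype_card, hnO])))
    have h2 : fY ∣ 2 * (p - 1) := by
      rw [show 2 * p * (p - 1) = p * (2 * (p - 1)) by ring] at h1
      exact (((Nat.Prime.coprime_iff_not_dvd hp.out).2 (not_dvd_fn P' hfY0)).symm).dvd_of_dvd_mul_left h1
    have hfle : fY ≤ 2 * (p - 1) := Nat.le_of_dvd (by omega) h2
    have hk3 : kY ≤ 3 := by
      by_contra hlt
      have : ((p : ℤ) - 1) * 4 ≤ ((p : ℤ) - 1) * kY := mul_le_mul_of_nonneg_left (by omega) (by omega)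
      omega
    have hdiv' : N ∣ (p + 2) * (p + 1) := by rwa [show p + 2 - 1 = p + 1 by omega] at hdiv
    rcases (show kY = 2 ∨ kY = 3 by omega) with h | h <;> rw [h] at hY1 hY2 hcardY
    · rcases (show fY = p - 1 ∨ fY = p - 2 by push_cast at hY1 hY2; omega) with hf1 | hf1
      · -- `3 p - 1` divides `28`
        have h3 : N = 3 * p - 1 := by omega
        have h4 : N ∣ 9 * ((p + 2) * (p + 1)) := hdiv'.mul_left 9
        rw [show 9 * ((p + 2) * (p + 1)) = (3 * p - 1) * (3 * p + 10) + 28 by
          obtain ⟨r, rfl⟩ := Nat.exists_eq_add_of_le hp3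
          rw [show 3 * (3 + r) - 1 = 8 + 3 * r by omega]
          ring, h3] at h4
        have h5 := (Nat.dvd_add_right (dvd_mul_right _ _)).1 h4
        obtain ⟨r, hr⟩ := h5
        match r with
        | 0 => omega
        | 1 => omega
        | r + 2 =>
          have := Nat.mul_le_mul_left (3 * p - 1) (show 2 ≤ r + 2 by omega)
          omega
      · have h3 : fY ∣ 2 := by
          rw [hf1] at h2 ⊢
          rw [show 2 * (p - 1) = 2 * (p - 2) + 2 by omega] at h2
          exact (Nat.dvd_add_right (dvd_mul_left _ _)).1 h2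
        have := Nat.le_of_dvd (by norm_num) h3
        omega
    · rcases (show fY = 2 * p - 2 ∨ fY = 2 * p - 3 by push_cast at hY1 hY2; omega) with hf1 | hf1
      · -- `5 p - 2` divides `84`
        have h3 : N = 5 * p - 2 := by omega
        have h4 : N ∣ 25 * ((p + 2) * (p + 1)) := hdiv'.mul_left 25
        rw [show 25 * ((p + 2) * (p + 1)) = (5 * p - 2) * (5 * p + 17) + 84 by
          obtain ⟨r, rfl⟩ := Nat.exists_eq_add_of_le hp3
          rw [show 5 * (3 + r) - 2 = 13 + 5 * r by omega]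
          ring, h3] at h4
        have h5 := (Nat.dvd_add_right (dvd_mul_right _ _)).1 h4
        obtain ⟨r, hr⟩ := h5
        match r with
        | 0 => omega
        | 1 => omega
        | 2 => omega
        | r + 3 =>
          have := Nat.mul_le_mul_left (5 * p - 2) (show 3 ≤ r + 3 by omega)
          omega
      · have h3 : fY ∣ 1 := by
          rw [hf1] at h2 ⊢
          rw [show 2 * (p - 1) = (2 * p - 3) + 1 by omega] at h2
          exact (Nat.dvd_add_right dvd_rfl).1 h2
        have := Nat.le_of_dvd (by norm_num) h3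
        omega

end

end CfsgLib.Perm.SylowFix
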